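import Cfsg.Agent.OddHalf.D3.BEven.AlphaAvg
import Cfsg.Agent.OddHalf.D8.HS.RankOne

/-!
# ODD D3 (b), even centre, **(alpha)** (bb ODD 12923, 13086, 13287)

`alpha`: `M` perfect, `Z ≤ Z(M)` elementary abelian, `B ≠ 1` an elementary abelian 2-group normalising `M` and
`S ∈ Syl₂(M)`, centralising `Z`, `|Z| ≤ |B|`, `B ∩ M = 1`, `C_S(b) ≤ Z` for `b ∈ B#`:
then `S` has at most one involution.
-/

set_option autoImplicit false

namespace Cfsg.Agent.OddHalf.D3.BEven

open Cfsg.Agent.OddHalf.D3.ThreeDefs Cfsg.Agent.OddHalf.D3.ThreeFam Cfsg.Agent.OddHalf.D3.ThreeMain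
  Cfsg.Agent.OddHalf.D3.ThreeEnd Cfsg.Agent.OddHalf.D3.BTwo
open scoped commutatorElement

universe u

theorem inv_unique_of_cyclic {A : Type*} [Group A] [Finite A] [IsCyclic A] {a b : A} (ha : a * a = 1) (ha1 : a ≠ 1)
    (hb : b * b = 1) (hb1 : b ≠ 1) : a = b := by
  classical
  have := Fintype.ofFinite A
  by_contra hne
  have h1 := IsCyclic.card_pow_eq_one_le (α := A) (n := 2) (by norm_num)
  have h2 : ({1, a, b} : Finset A) ⊆ Finset.univ.filter fun x : A => x ^ 2 = 1 := by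
    intro x hx
    rw [Finset.mem_filter]
    refine ⟨Finset.mem_univ _, ?_⟩
    simp only [Finset.mem_insert, Finset.mem_singleton] at hx
    rcases hx with rfl | rfl | rfl
    · exact one_pow 2
    · rw [pow_two, ha]
    · rw [pow_two, hb]
  have h3 := (Finset.card_le_card h2).trans h1
  rw [Finset.card_insert_of_notMem (by
    simp only [Finset.mem_insert, Finset.mem_singleton, not_or]
    exact ⟨fun e => ha1 e.symm, fun e => hb1 e.symm⟩), Finset.card_insert_of_notMem (by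
    simp only [Finset.mem_singleton]; exact hne), Finset.card_singleton] at h3
  omega

variable {G : Type u} [Group G]

namespace AD

variable {M B Z S : Subgroup G}

theorem cen_W (h : AD M B Z S) {w b : G} (hw : w ∈ h.W) (hb : b ∈ B) (hb1 : b ≠ 1) (e : w * b = b * w) : w ∈ h.E := by
  obtain ⟨s, hs, c, hc, rfl⟩ := hw
  refine ⟨s, h.cen b hb hb1 s hs ?_, c, hc, rfl⟩
  have e1 := h.comm_BZ hc hb
  have e2 : s * b * c = b * s * c := by
    calc s * b * c = s * (b * c) := by group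
      _ = s * c * b := by rw [← e1]; group
      _ = b * (s * c) := e
      _ = _ := by group
  exact mul_right_cancel e2

/-- **(alpha), `|B| = 2`** -/
theorem uniq_of_two [Finite G] (h : AD M B Z S) {b : G} (hb : b ∈ B) (hb1 : b ≠ 1) (hB : Nat.card B ≤ 2) :
    ∀ x ∈ S, ∀ y ∈ S, x * x = 1 → x ≠ 1 → y * y = 1 → y ≠ 1 → x = y := by
  classical
  have hBone : ∀ c ∈ B, c ≠ 1 → c = b := by
    intro c hc hc1
    by_contra hne
    have h1 : 3 ≤ Nat.card B := by
      have hinj : Function.Injective (fun i : Fin 3 => (![⟨1, one_mem B⟩, ⟨b, hb⟩, ⟨c, hc⟩] i : B)) := by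
        intro i j hij
        fin_cases i <;> fin_cases j <;> simp_all [Subtype.ext_iff]
      have := Nat.card_le_card_of_injective _ hinj
      rwa [Nat.card_eq_fintype_card, Fintype.card_fin] at this
    omega
  have hB2 : Nat.card B = 2 := by
    have h1 : 1 < Nat.card B := by
      rw [Finite.one_lt_card_iff_nontrivial]
      exact ⟨⟨1, one_mem B⟩, ⟨b, hb⟩, fun e => hb1 (congrArg Subtype.val e).symm⟩
    omega
  by_cases hZ : Z = ⊥
  · -- `S = 1`
    have hE : h.E ≤ B := by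
      rintro _ ⟨z, hz, c, hc, rfl⟩
      rw [hZ, Subgroup.mem_bot] at hz
      rw [hz, one_mul]; exact hc
    have hW : h.W ≤ B := by
      by_contra hne
      obtain ⟨t, ht, htB, htn⟩ := exists_norm h.W_two (le_mulSub_right) hne
      have h1 : t * b * t⁻¹ ∈ B := conj_mem_of_cj htn hb
      have h2 : t * b * t⁻¹ = b := hBone _ h1 (fun e => hb1 (by
        calc b = t⁻¹ * (t * b * t⁻¹) * t := by group
          _ = 1 := by rw [e]; group))
      exact htB (hE (h.cen_W ht hb hb1 (by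
        calc t * b = t * b * t⁻¹ * t := by group
          _ = b * t := by rw [h2])))
    intro x hx y _ _ hx1
    exact absurd (h.B_S (hW (le_mulSub_left hx)) hx) hx1
  obtain ⟨z, hz, hz1⟩ : ∃ z ∈ Z, z ≠ 1 := by
    by_contra hcon
    push Not at hcon
    exact hZ ((Subgroup.eq_bot_iff_forall Z).mpr hcon)
  have hz2 : z * z = 1 := h.ZZ z hz
  have hZ2 : Nat.card Z = 2 := by
    have h1 : 1 < Nat.card Z := by
      rw [Finite.one_lt_card_iff_nontrivial]
      exact ⟨⟨1, one_mem Z⟩, ⟨z, hz⟩, fun e => hz1 (congrArg Subtype.val e).symm⟩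
    have h2 := h.card
    omega
  -- a cyclic subgroup of index two of `S B`
  have hEW : h.E ≤ h.W := h.E_le.trans h.XB_le
  obtain ⟨A, hAc, hAi⟩ : ∃ A : Subgroup h.W, IsCyclic A ∧ A.index = 2 := by
    refine Cfsg.Agent.OddHalf.D8.HS.RankOne.exists_cyclic_of_card_four h.W_two (h.E.subgroupOf h.W) ?_ ?_ ?_
    · rw [Nat.card_congr (Subgroup.subgroupOfEquivOfLe hEW).toEquiv, h.card_E, hZ2, hB2]
    · ext w
      rw [Subgroup.mem_centralizer_iff, Subgroup.mem_subgroupOf]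
      constructor
      · intro hw
        refine h.cen_W w.2 hb hb1 ?_
        exact (congrArg Subtype.val (hw ⟨b, le_mulSub_right hb⟩ (le_mulSub_right hb : b ∈ h.E))).symm
      · intro hw v hv
        exact Subtype.ext (comm_of_sq h.E_sq hv hw)
    · have hbW : b ∈ h.W := le_mulSub_right hb
      refine ⟨⟨b, hbW⟩, (le_mulSub_right hb : b ∈ h.E), ?_⟩
      rw [Nat.card_zpowers, Subgroup.orderOf_mk, orderOf_eq_prime (p := 2) (by rw [pow_two]; exact h.BB b hb) hb1]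
  obtain ⟨A', hA'⟩ : ∃ A' : Subgroup G, A' = A.map h.W.subtype := ⟨_, rfl⟩
  have hAm : ∀ x (hx : x ∈ h.W), x ∈ A' ↔ (⟨x, hx⟩ : h.W) ∈ A := by
    intro x hx
    rw [hA', Subgroup.mem_map]
    constructor
    · rintro ⟨y, hy, e⟩
      have : y = ⟨x, hx⟩ := Subtype.ext e
      rwa [← this]
    · intro hx'; exact ⟨⟨x, hx⟩, hx', rfl⟩
  have huniq : ∀ x ∈ A', ∀ y ∈ A', x * x = 1 → x ≠ 1 → y * y = 1 → y ≠ 1 → x = y := by
    intro x hx y hy hx2 hx1 hy2 hy1
    rw [hA'] at hx hy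
    obtain ⟨x', hx', rfl⟩ := hx
    obtain ⟨y', hy', rfl⟩ := hy
    have h1 : (⟨x', hx'⟩ : A) = ⟨y', hy'⟩ := inv_unique_of_cyclic
      (Subtype.ext (Subtype.ext hx2)) (fun e => hx1 (congrArg (fun t : A => ((t : h.W) : G)) e))
      (Subtype.ext (Subtype.ext hy2)) (fun e => hy1 (congrArg (fun t : A => ((t : h.W) : G)) e))
    exact congrArg (fun t : A => ((t : h.W) : G)) h1
  have hSW : S ≤ h.W := le_mulSub_left
  suffices hall : ∀ x ∈ S, x * x = 1 → x ≠ 1 → x = z by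
    intro x hx y hy hx2 hx1 hy2 hy1
    rw [hall x hx hx2 hx1, hall y hy hy2 hy1]
  by_cases hSA : S ≤ A'
  · intro x hx hx2 hx1
    exact huniq x (hSA hx) z (hSA (h.ZS hz)) hx2 hx1 hz2 hz1
  obtain ⟨a, haS, haA⟩ := SetLike.not_le_iff_exists.mp hSA
  have hrel : (A' ⊓ S).relIndex S = 2 := by
    rw [Subgroup.inf_relIndex_right, Subgroup.relIndex_eq_two_iff]
    refine ⟨a, haS, fun c hc => ?_⟩
    have h1 := Subgroup.mul_mem_iff_of_index_two hAi (a := ⟨c, hSW hc⟩) (b := ⟨a, hSW haS⟩)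
    have h2 : c * a ∈ A' ↔ (c ∈ A' ↔ a ∈ A') := by
      rw [hAm _ (mul_mem (hSW hc) (hSW haS)), hAm _ (hSW hc), hAm _ (hSW haS)]
      exact h1
    rw [xor_iff_not_iff, h2]
    tauto
  obtain ⟨P, hP⟩ := exists_sylow h.syl
  have hperf : Group.IsPerfect M := ⟨commutator_top h.perf⟩
  have hconj : ∀ x ∈ S, x * x = 1 → ∃ g ∈ M, g * x * g⁻¹ ∈ A' := by
    intro x hx hx2
    obtain ⟨g, hg⟩ := Cfsg.Agent.OddHalf.CaseM.exists_conj_of_perfect hperf P ((A' ⊓ S).subgroupOf M)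
      (by rw [hP]; exact Subgroup.comap_mono inf_le_right)
      (by rw [hP, Subgroup.relIndex_subgroupOf h.syl.le, hrel]) ⟨x, h.syl.le hx⟩ (Subtype.ext hx2)
    exact ⟨g, g.2, hg.1⟩
  have hzA : z ∈ A' := by
    obtain ⟨g, -, hg⟩ := hconj z (h.ZS hz) hz2
    have : g * z * g⁻¹ = z := by rw [h.Zn hz]; group
    rwa [this] at hg
  intro x hx hx2 hx1
  obtain ⟨g, -, hg⟩ := hconj x hx hx2
  have h1 := huniq _ hg z hzA (by
    calc g * x * g⁻¹ * (g * x * g⁻¹) = g * (x * x) * g⁻¹ := by group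
      _ = 1 := by rw [hx2]; group) (fun e => hx1 (by
    calc x = g⁻¹ * (g * x * g⁻¹) * g := by group
      _ = 1 := by rw [e]; group)) hz2 hz1
  calc x = g⁻¹ * (g * x * g⁻¹) * g := by group
    _ = z := by rw [h1, h.Zn hz]; group

theorem uniq [Finite G] (h : AD M B Z S) {b : G} (hb : b ∈ B) (hb1 : b ≠ 1) :
    ∀ x ∈ S, ∀ y ∈ S, x * x = 1 → x ≠ 1 → y * y = 1 → y ≠ 1 → x = y := by
  by_cases hB : 2 < Nat.card B
  · intro x hx y _ _ hx1
    rw [h.eq_bot hB, Subgroup.mem_bot] at hx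
    exact absurd hx hx1
  · exact h.uniq_of_two hb hb1 (by omega)

end AD

/-! ### restriction to `M B` -/

/-- the hypotheses of (alpha) -/
structure AL (M B Z S : Subgroup G) : Prop where
  perf : ⁅M, M⁆ = M
  nrm : ∀ b ∈ B, cj b M = M
  BB : ∀ b ∈ B, b * b = 1
  ZZ : ∀ z ∈ Z, z * z = 1
  ZM : ∀ z ∈ Z, ∀ x ∈ M, z * x = x * z
  ZB : ∀ z ∈ Z, ∀ b ∈ B, z * b = b * z
  ZS : Z ≤ S
  syl : SylIn M S
  BS : ∀ b ∈ B, cj b S = S
  card : Nat.card Z ≤ Nat.card B
  cen : ∀ b ∈ B, b ≠ 1 → ∀ s ∈ S, s * b = b * s → s ∈ Z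
  disj : ∀ b ∈ B, b ∈ M → b = 1

theorem cj_subgroupOf {K L : Subgroup G} {b : G} (hb : b ∈ K) (h : cj b L = L) :
    cj (⟨b, hb⟩ : K) (L.subgroupOf K) = L.subgroupOf K := by
  ext x
  rw [mem_cj, Subgroup.mem_subgroupOf, Subgroup.mem_subgroupOf]
  change b⁻¹ * x * b ∈ L ↔ _
  rw [← mem_cj, h]

theorem SylIn_subgroupOf {K M S : Subgroup G} (hMK : M ≤ K) (h : SylIn M S) : SylIn (M.subgroupOf K) (S.subgroupOf K) := by
  refine ⟨Subgroup.comap_mono h.le, h.two.comap_subtype, fun Q hQ hQ2 => ?_⟩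
  have h1 : Nat.card (Q.map K.subtype) ≤ Nat.card S := by
    refine h.max _ ?_ (hQ2.map _)
    rintro _ ⟨x, hx, rfl⟩
    exact hQ hx
  have h2 : Nat.card (Q.map K.subtype) = Nat.card Q :=
    Nat.card_congr (Q.equivMapOfInjective _ (Subgroup.subtype_injective K)).symm.toEquiv
  have h3 : Nat.card (S.subgroupOf K) = Nat.card S := Nat.card_congr (Subgroup.subgroupOfEquivOfLe (h.le.trans hMK)).toEquiv
  rw [← h2, h3]; exact h1

theorem AL.toAD {M B Z S : Subgroup G} (h : AL M B Z S) {K : Subgroup G} (hK : K = mulSub M B h.nrm) :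
    AD (M.subgroupOf K) (B.subgroupOf K) (Z.subgroupOf K) (S.subgroupOf K) := by
  have hMK : M ≤ K := by rw [hK]; exact le_mulSub_left
  have hBK : B ≤ K := by rw [hK]; exact le_mulSub_right
  have hSK : S ≤ K := h.syl.le.trans hMK
  have hZK : Z ≤ K := h.ZS.trans hSK
  refine ⟨?_, fun b hb => cj_subgroupOf b.2 (h.nrm b hb), fun b hb => Subtype.ext (h.BB b hb),
    fun z hz => Subtype.ext (h.ZZ z hz), ?_, Subgroup.comap_mono h.ZS, SylIn_subgroupOf hMK h.syl,
    fun b hb => cj_subgroupOf b.2 (h.BS b hb), ?_, ?_, ?_⟩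
  · apply Subgroup.map_injective K.subtype_injective
    rw [Subgroup.map_commutator, Subgroup.map_subgroupOf_eq_of_le hMK, h.perf]
  · intro z hz x
    apply Subtype.ext
    have hx : (x : G) ∈ mulSub M B h.nrm := hK ▸ x.2
    obtain ⟨m, hm, b, hb, e⟩ := hx
    change (z : G) * x = x * z
    rw [e]
    calc (z : G) * (m * b) = z * m * b := by group
      _ = m * (z * b) := by rw [h.ZM z hz m hm]; group
      _ = m * b * z := by rw [h.ZB z hz b hb]; group
  · rw [Nat.card_congr (Subgroup.subgroupOfEquivOfLe hZK).toEquiv, Nat.card_congr (Subgroup.subgroupOfEquivOfLe hBK).toEquiv]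
    exact h.card
  · intro b hb hb1 s hs e
    exact h.cen b hb (fun e1 => hb1 (Subtype.ext e1)) s hs (congrArg Subtype.val e)
  · intro b hb hbM
    exact Subtype.ext (h.disj b hb hbM)

/-- **(alpha)** -/
theorem alpha [Finite G] {M B Z S : Subgroup G} (h : AL M B Z S) (hB : ∃ b ∈ B, b ≠ 1) :
    ∀ x ∈ S, ∀ y ∈ S, x * x = 1 → x ≠ 1 → y * y = 1 → y ≠ 1 → x = y := by
  obtain ⟨b, hb, hb1⟩ := hB
  obtain ⟨K, hK⟩ : ∃ K, K = mulSub M B h.nrm := ⟨_, rfl⟩
  have hAD := h.toAD hK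
  have hMK : M ≤ K := by rw [hK]; exact le_mulSub_left
  have hBK : B ≤ K := by rw [hK]; exact le_mulSub_right
  have hSK : S ≤ K := h.syl.le.trans hMK
  intro x hx y hy hx2 hx1 hy2 hy1
  have h1 := hAD.uniq (b := ⟨b, hBK hb⟩) hb (fun e => hb1 (congrArg Subtype.val e)) ⟨x, hSK hx⟩ hx ⟨y, hSK hy⟩ hy
    (Subtype.ext hx2) (fun e => hx1 (congrArg Subtype.val e)) (Subtype.ext hy2) (fun e => hy1 (congrArg Subtype.val e))
  exact congrArg Subtype.val h1

end Cfsg.Agent.OddHalf.D3.BEven
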