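import Cfsg.Agent.OddHalf.D3.TwoFull
import Cfsg.Agent.OddHalf.D3.ZStar
import Cfsg.Agent.TwoFusion.IndexTwo

/-!
# ODD D3 (iii), even centre: the case (beta1) (text of helper760, bb ODD 13086, with shortcuts)

`B1 L S A R y`: `L` quasisimple, `S` a Sylow 2-subgroup of `L`, `A` a self-centralising abelian normal subgroup of `S`,
`R` a group normalising `L` and `S`, centralising `A`, whose nontrivial elements have fixed points on `S` inside `A`,
`y ∈ S - A` an element inverting `A` with `y² ∈ A` such that `R` fuses `y A`. If `Z(L) ∩ S ≠ 1`, then `S` has only one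
involution.
-/

set_option autoImplicit false

namespace Cfsg.Agent.OddHalf.D3.BEven.BetaOne

open Cfsg Cfsg.Agent.OddHalf.D3.ThreeDefs Cfsg.Agent.OddHalf.D3.ThreeFam Cfsg.Agent.OddHalf.D3.ThreeMain
open Cfsg.Agent.OddHalf.D3.TwoCfg
open scoped commutatorElement

universe u

variable {G : Type u} [Group G]

/-! ### Tools -/

theorem isPGroup_zpowers {x : G} {k : ℕ} (h : x ^ 2 ^ k = 1) : IsPGroup 2 (Subgroup.zpowers x) := by
  rintro ⟨y, hy⟩
  obtain ⟨m, rfl⟩ := Subgroup.mem_zpowers_iff.mp hy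
  refine ⟨k, Subtype.ext ?_⟩
  change (x ^ m) ^ 2 ^ k = 1
  rw [← zpow_natCast, ← zpow_mul, mul_comm, zpow_mul, zpow_natCast, h, one_zpow]

theorem card_le_two_mul [Finite G] {A T : Subgroup G} (x : G) (h : ∀ q ∈ T, q ∈ A ∨ x⁻¹ * q ∈ A) :
    Nat.card T ≤ 2 * Nat.card A := by
  have h1 : (T : Set G) ⊆ (A : Set G) ∪ (fun a => x * a) '' (A : Set G) := by
    intro q hq
    rcases h q hq with h1 | h1
    · exact Or.inl h1
    · exact Or.inr ⟨x⁻¹ * q, h1, by simp⟩
  have h2 := Set.ncard_le_ncard h1 (Set.toFinite _)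
  have h3 := Set.ncard_union_le (A : Set G) ((fun a => x * a) '' (A : Set G))
  have h4 : ((fun a => x * a) '' (A : Set G)).ncard ≤ (A : Set G).ncard :=
    Set.ncard_image_le (Set.toFinite _)
  have h5 : (T : Set G).ncard = Nat.card T := rfl
  have h6 : (A : Set G).ncard = Nat.card A := rfl
  omega

/-- the normaliser of `S` inside `L` -/
def NL (L S : Subgroup G) : Subgroup G := L ⊓ Nm ({S} : Set (Subgroup G))

theorem mem_NL {L S : Subgroup G} {x : G} : x ∈ NL L S ↔ x ∈ L ∧ cj x S = S := by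
  rw [NL, Subgroup.mem_inf, mem_Nm]
  constructor
  · rintro ⟨h1, h2⟩
    exact ⟨h1, h2 S rfl⟩
  · rintro ⟨h1, h2⟩
    refine ⟨h1, ?_⟩
    intro A hA
    rw [Set.mem_singleton_iff] at hA
    rw [hA]; exact h2

/-- a 2-element of `N_L(S)` lies in the Sylow subgroup `S` -/
theorem mem_of_norm [Finite G] {L S : Subgroup G} (hS : IsSyl S L) {n : G} (hn : n ∈ L) (hnS : cj n S = S) {k : ℕ}
    (hk : n ^ 2 ^ k = 1) : n ∈ S := by
  have h1 : IsSyl S (NL L S) := hS.le (fun x hx => (mem_NL.mp hx).1) fun s hs => mem_NL.mpr ⟨hS.1 hs, cj_eq_of_mem hs⟩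
  have h2 : Subgroup.zpowers n ≤ NL L S := by
    rw [Subgroup.zpowers_le]; exact mem_NL.mpr ⟨hn, hnS⟩
  obtain ⟨l, hl, h3⟩ := h1.2.2 _ h2 (isPGroup_zpowers hk)
  have h4 := h3 (conj_mem_cj (g := l) (Subgroup.mem_zpowers n))
  have h5 := (mem_NL.mp hl).2
  have h6 : n = l⁻¹ * (l * n * l⁻¹) * l := by group
  rw [h6]
  rw [← h5, mem_cj] at h4
  have h7 : l⁻¹ * (l * n * l⁻¹) * l ∈ S := h4
  exact h7

/-- Burnside, for elements central in the Sylow subgroup -/
theorem burnsideZ [Finite G] {T X : Subgroup G} (hT : IsSyl T X) {x g : G} (hg : g ∈ X)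
    (hxT : ∀ t ∈ T, t * x = x * t) (hgT : ∀ t ∈ T, t * (g * x * g⁻¹) = (g * x * g⁻¹) * t) :
    ∃ n ∈ X, cj n T = T ∧ n * x * n⁻¹ = g * x * g⁻¹ := by
  set y := g * x * g⁻¹ with hy
  set Cy : Subgroup G := X ⊓ Subgroup.centralizer ({y} : Set G) with hCy
  have hTC : T ≤ Cy := by
    intro t ht
    refine Subgroup.mem_inf.mpr ⟨hT.1 ht, ?_⟩
    rw [Subgroup.mem_centralizer_singleton_iff]
    exact hgT t ht
  have hS := hT.le (inf_le_left : Cy ≤ X) hTC
  have hgT : cj g T ≤ Cy := by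
    intro t ht
    rw [mem_cj] at ht
    refine Subgroup.mem_inf.mpr ⟨?_, ?_⟩
    · have : t = g * (g⁻¹ * t * g) * g⁻¹ := by group
      rw [this]
      exact mul_mem (mul_mem hg (hT.1 ht)) (inv_mem hg)
    · rw [Subgroup.mem_centralizer_singleton_iff, hy]
      have h1 := hxT _ ht
      calc t * (g * x * g⁻¹) = g * ((g⁻¹ * t * g) * x) * g⁻¹ := by group
        _ = g * (x * (g⁻¹ * t * g)) * g⁻¹ := by rw [h1]
        _ = g * x * g⁻¹ * t := by group
  obtain ⟨k, hk, hkT⟩ := hS.2.2 (cj g T) hgT (hT.2.1.map _)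
  rw [Subgroup.mem_inf, Subgroup.mem_centralizer_singleton_iff] at hk
  refine ⟨k * g, mul_mem hk.1 hg, ?_, ?_⟩
  · rw [cj_mul]
    refine Subgroup.eq_of_le_of_card_ge hkT ?_
    rw [card_cj, card_cj]
  · calc k * g * x * (k * g)⁻¹ = k * (g * x * g⁻¹) * k⁻¹ := by group
      _ = k * y * k⁻¹ := by rw [← hy]
      _ = y := by rw [hk.2]; group

theorem conj_npow (n b z : G) (hz : z * z = 1) (hnz : n * z = z * n) (h : n * b * n⁻¹ = z * b) (j : ℕ) :
    n ^ (2 * j + 1) * b * (n ^ (2 * j + 1))⁻¹ = z * b := by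
  have h2 : n ^ 2 * b * (n ^ 2)⁻¹ = b := by
    calc n ^ 2 * b * (n ^ 2)⁻¹ = n * (n * b * n⁻¹) * n⁻¹ := by rw [pow_two]; group
      _ = n * (z * b) * n⁻¹ := by rw [h]
      _ = (n * z) * b * n⁻¹ := by group
      _ = z * (n * b * n⁻¹) := by rw [hnz]; group
      _ = (z * z) * b := by rw [h]; group
      _ = b := by rw [hz, one_mul]
  have h3 : ∀ j : ℕ, (n ^ 2) ^ j * b * ((n ^ 2) ^ j)⁻¹ = b := by
    intro j
    induction j with
    | zero => simp
    | succ j ih =>
      calc (n ^ 2) ^ (j + 1) * b * ((n ^ 2) ^ (j + 1))⁻¹ = (n ^ 2) ^ j * (n ^ 2 * b * (n ^ 2)⁻¹) * ((n ^ 2) ^ j)⁻¹ := by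
            rw [pow_succ]; group
        _ = b := by rw [h2, ih]
  calc n ^ (2 * j + 1) * b * (n ^ (2 * j + 1))⁻¹ = n * ((n ^ 2) ^ j * b * ((n ^ 2) ^ j)⁻¹) * n⁻¹ := by
        rw [pow_succ', pow_mul]; group
    _ = z * b := by rw [h3, h]

/-- `z b` conjugate to `b`: fusion inside a subgroup `T` which is Sylow in the centraliser of `b` -/
theorem fuse [Finite G] {L S T : Subgroup G} (hS : IsSyl S L) (hTn : ∀ s ∈ S, cj s T = T) {b : G}
    (hT : IsSyl T (L ⊓ Subgroup.centralizer ({b} : Set G))) {z : G} (hzc : ∀ l ∈ L, z * l = l * z)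
    (hz2 : z * z = 1) {h : G} (hh : h ∈ L) (hb : h * b * h⁻¹ = z * b) :
    ∃ l ∈ L, cj l T = T ∧ ∃ s ∈ S, s * (l * b * l⁻¹) * s⁻¹ = z * (l * b * l⁻¹) := by
  set C : Subgroup G := L ⊓ Subgroup.centralizer ({b} : Set G) with hC
  have hTL : T ≤ L := hT.1.trans inf_le_left
  have hhT : cj h T ≤ C := by
    intro t ht
    rw [mem_cj] at ht
    have ht1 := Subgroup.mem_inf.mp (hT.1 ht)
    have ht2 := Subgroup.mem_centralizer_singleton_iff.mp ht1.2
    have htL : t ∈ L := by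
      have : t = h * (h⁻¹ * t * h) * h⁻¹ := by group
      rw [this]
      exact mul_mem (mul_mem hh ht1.1) (inv_mem hh)
    refine Subgroup.mem_inf.mpr ⟨htL, ?_⟩
    rw [Subgroup.mem_centralizer_singleton_iff]
    have h1 : t * (z * b) = (z * b) * t := by
      rw [← hb]
      calc t * (h * b * h⁻¹) = h * ((h⁻¹ * t * h) * b) * h⁻¹ := by group
        _ = h * (b * (h⁻¹ * t * h)) * h⁻¹ := by rw [ht2]
        _ = h * b * h⁻¹ * t := by group
    have h2 : z * (t * b) = z * (b * t) := by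
      calc z * (t * b) = z * t * b := by group
        _ = t * z * b := by rw [hzc t htL]
        _ = t * (z * b) := by group
        _ = z * (b * t) := by rw [h1]; group
    exact mul_left_cancel h2
  obtain ⟨k, hk, hkT⟩ := hT.2.2 (cj h T) hhT (hT.2.1.map _)
  rw [Subgroup.mem_inf, Subgroup.mem_centralizer_singleton_iff] at hk
  have hnT : cj (k * h) T = T := by
    rw [cj_mul]
    refine Subgroup.eq_of_le_of_card_ge hkT ?_
    rw [card_cj, card_cj]
  have hnL : k * h ∈ L := mul_mem hk.1 hh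
  have hnb : (k * h) * b * (k * h)⁻¹ = z * b := by
    calc (k * h) * b * (k * h)⁻¹ = k * (h * b * h⁻¹) * k⁻¹ := by group
      _ = (k * z) * b * k⁻¹ := by rw [hb]; group
      _ = z * (k * b) * k⁻¹ := by rw [← hzc k hk.1]; group
      _ = z * b := by rw [hk.2]; group
  generalize k * h = n at hnT hnL hnb
  obtain ⟨m, e, hme⟩ := TwoFull.exists_odd_pow n
  have hmb := conj_npow n b z hz2 (hzc n hnL).symm hnb m
  have hN : n ^ (2 * m + 1) ∈ NL L T := pow_mem (mem_NL.mpr ⟨hnL, hnT⟩) _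
  generalize n ^ (2 * m + 1) = n' at hme hmb hN
  have hSN : IsSyl S (NL L T) := hS.le (fun x hx => (mem_NL.mp hx).1) fun s hs => mem_NL.mpr ⟨hS.1 hs, hTn s hs⟩
  obtain ⟨l, hl, hlS⟩ := hSN.2.2 (Subgroup.zpowers n') (by rw [Subgroup.zpowers_le]; exact hN) (isPGroup_zpowers hme)
  rw [mem_NL] at hl
  refine ⟨l, hl.1, hl.2, l * n' * l⁻¹, hlS (conj_mem_cj (Subgroup.mem_zpowers n')), ?_⟩
  calc l * n' * l⁻¹ * (l * b * l⁻¹) * (l * n' * l⁻¹)⁻¹ = l * (n' * b * n'⁻¹) * l⁻¹ := by group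
    _ = (l * z) * b * l⁻¹ := by rw [hmb]; group
    _ = z * (l * b * l⁻¹) := by rw [← hzc l hl.1]; group

/-! ### Transfer -/

theorem index_ne_two {L : Type*} [Group L] (h : commutator L = ⊤) (H : Subgroup L) : H.index ≠ 2 := by
  intro h2
  have hn : H.Normal := Subgroup.normal_of_index_eq_two h2
  have h1 : commutator L ≤ H := by
    rw [commutator_def, Subgroup.commutator_le]
    intro a _ b _
    have hm := fun x y : L => Subgroup.mul_mem_iff_of_index_two h2 (a := x) (b := y)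
    rw [commutatorElement_def, hm, hm, hm, inv_mem_iff, inv_mem_iff]
    by_cases ha : a ∈ H <;> by_cases hb : b ∈ H <;> simp [ha, hb]
  rw [h, top_le_iff] at h1
  rw [h1, Subgroup.index_top] at h2
  omega

theorem index_odd [Finite G] {L S : Subgroup G} (hS : IsSyl S L) : Odd (S.subgroupOf L).index := by
  have _hp : Fact (Nat.Prime 2) := ⟨Nat.prime_two⟩
  have h1 : IsPGroup 2 (S.subgroupOf L) := hS.2.1.comap_subtype
  obtain ⟨P, hP⟩ := h1.exists_le_sylow
  have h2 : (P : Subgroup L) = S.subgroupOf L := by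
    have h3 : ((P : Subgroup L).map L.subtype) = S := by
      refine hS.eq (Subgroup.map_subtype_le _) (P.2.map _) ?_
      intro s hs
      exact ⟨⟨s, hS.1 hs⟩, hP hs, rfl⟩
    ext x
    rw [Subgroup.mem_subgroupOf, ← h3]
    constructor
    · intro hx
      exact ⟨x, hx, rfl⟩
    · rintro ⟨y, hy, hyx⟩
      rw [← Subtype.ext (a1 := y) (a2 := x) hyx]
      exact hy
  rw [← h2]
  exact TwoFusion.IndexTwo.odd_index_sylow P

/-- The transfer of a central element. -/
theorem transfer_of_mem_center {G A : Type*} [Group G] [CommGroup A] {H : Subgroup G}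
    (χ : H →* A) [H.FiniteIndex] (c : G) (hc : c ∈ Subgroup.center G) (hcH : c ∈ H) :
    MonoidHom.transfer χ c = χ ⟨c, hcH⟩ ^ H.index := by
  have h := MonoidHom.transfer_eq_pow χ c (by
    intro k g _
    have h1 := Subgroup.mem_center_iff.mp (Subgroup.pow_mem _ hc k) g
    calc g⁻¹ * c ^ k * g = g⁻¹ * (g * c ^ k) := by rw [mul_assoc, h1]
      _ = c ^ k := by group)
  rw [h]
  rw [← map_pow]
  rfl

/-- a central involution of the perfect group `L` is killed by every homomorphism of a Sylow 2-subgroup into an abelian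
group -/
theorem center_transfer [Finite G] {L S : Subgroup G} (hL : IsQuasisimple L) (hS : IsSyl S L) {z : G} (hz : z ∈ S)
    (hzc : ∀ l ∈ L, z * l = l * z) (hz2 : z * z = 1) {B : Type*} [CommGroup B] (χ : S →* B) : χ ⟨z, hz⟩ = 1 := by
  let H : Subgroup L := S.subgroupOf L
  let χ' : H →* B := χ.comp (Subgroup.subgroupOfEquivOfLe hS.1).toMonoidHom
  have hodd := index_odd hS
  have h1 := transfer_of_mem_center χ' (⟨z, hS.1 hz⟩ : L) (by
    rw [Subgroup.mem_center_iff]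
    intro l
    exact Subtype.ext (hzc l l.2).symm) (show (⟨z, hS.1 hz⟩ : L) ∈ H from hz)
  have h2 : MonoidHom.transfer χ' (⟨z, hS.1 hz⟩ : L) = 1 := by
    have h3 : (⟨z, hS.1 hz⟩ : L) ∈ (MonoidHom.transfer χ').ker := by
      have h4 : commutator L ≤ (MonoidHom.transfer χ').ker := Abelianization.commutator_subset_ker _
      rw [hL.1.commutator_eq_top] at h4
      exact h4 (Subgroup.mem_top _)
    exact h3
  rw [h2] at h1
  have h3 : χ' ⟨(⟨z, hS.1 hz⟩ : L), hz⟩ * χ' ⟨(⟨z, hS.1 hz⟩ : L), hz⟩ = 1 := by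
    rw [← map_mul]
    have : (⟨(⟨z, hS.1 hz⟩ : L), hz⟩ : H) * ⟨(⟨z, hS.1 hz⟩ : L), hz⟩ = 1 := by
      apply Subtype.ext; apply Subtype.ext
      exact hz2
    rw [this, map_one]
  obtain ⟨m, hm⟩ := hodd
  change 1 = χ' ⟨(⟨z, hS.1 hz⟩ : L), hz⟩ ^ H.index at h1
  have hm' : H.index = 2 * m + 1 := hm
  rw [hm', pow_succ, pow_mul, pow_two, h3, one_pow, one_mul] at h1
  exact h1.symm

/-! ### The configuration -/

/-- the configuration (beta1) -/
structure B1 (L S A R : Subgroup G) (y : G) : Prop where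
  qs : IsQuasisimple L
  syl : IsSyl S L
  le : A ≤ S
  nrm : ∀ s ∈ S, cj s A = A
  ab : ∀ a ∈ A, ∀ b ∈ A, a * b = b * a
  self : ∀ s ∈ S, (∀ a ∈ A, s * a = a * s) → s ∈ A
  RL : ∀ x ∈ R, cj x L = L
  RS : ∀ x ∈ R, cj x S = S
  RA : ∀ x ∈ R, ∀ a ∈ A, x * a = a * x
  RC : ∀ x ∈ R, x ≠ 1 → ∀ s ∈ S, x * s = s * x → s ∈ A
  yS : y ∈ S
  yA : y ∉ A
  ysq : y * y ∈ A
  yinv : ∀ a ∈ A, y * a * y⁻¹ = a⁻¹
  phi : ∀ a ∈ A, ∃ x ∈ R, x * y * x⁻¹ = y * a

section
variable {L S A R : Subgroup G} {y : G}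

namespace B1

theorem central_mem (B : B1 L S A R y) {z : G} (hz : z ∈ S) (hzc : ∀ l ∈ L, z * l = l * z) : z ∈ A :=
  B.self z hz fun a ha => hzc a (B.syl.1 (B.le ha))

theorem central_sq (B : B1 L S A R y) {z : G} (hz : z ∈ S) (hzc : ∀ l ∈ L, z * l = l * z) : z * z = 1 := by
  have h1 := B.yinv z (B.central_mem hz hzc)
  have h2 := hzc y (B.syl.1 B.yS)
  have h3 : z = z⁻¹ := by
    rw [← h1, ← h2]; group
  calc z * z = z * z⁻¹ := by rw [← h3]
    _ = 1 := mul_inv_cancel z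

/-- `v⁻¹ x v x⁻¹ ∈ A` for `v ∈ S`, `x ∈ R` -/
theorem r_mem (B : B1 L S A R y) {v x : G} (hv : v ∈ S) (hx : x ∈ R) : v⁻¹ * (x * v * x⁻¹) ∈ A := by
  refine B.self _ (mul_mem (inv_mem hv) (conj_mem_of_cj (B.RS x hx) hv)) ?_
  intro a ha
  have h1 : x⁻¹ * a * x = a := by
    have := B.RA x hx a ha
    rw [mul_assoc, ← this]; group
  have h2 : v * a * v⁻¹ ∈ A := conj_mem_of_cj (B.nrm v hv) ha
  have h3 : x * (v * a * v⁻¹) * x⁻¹ = v * a * v⁻¹ := by
    rw [B.RA x hx _ h2]; group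
  calc v⁻¹ * (x * v * x⁻¹) * a = v⁻¹ * (x * (v * (x⁻¹ * a * x) * v⁻¹) * x⁻¹) * (x * v * x⁻¹) := by group
    _ = v⁻¹ * (x * (v * a * v⁻¹) * x⁻¹) * (x * v * x⁻¹) := by rw [h1]
    _ = v⁻¹ * (v * a * v⁻¹) * (x * v * x⁻¹) := by rw [h3]
    _ = a * (v⁻¹ * (x * v * x⁻¹)) := by group

/-- `R` fuses `v A`, for every `v ∈ S - A` -/
theorem surj [Finite G] (B : B1 L S A R y) {v : G} (hv : v ∈ S) (hvA : v ∉ A) {a : G} (ha : a ∈ A) :
    ∃ x ∈ R, x * v * x⁻¹ = v * a := by
  choose! f hf1 hf2 using B.phi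
  let F : A → R := fun a => ⟨f a, hf1 a a.2⟩
  have hF : Function.Injective F := by
    intro a b hab
    have h1 : f a = f b := congrArg Subtype.val hab
    have h2 := hf2 a a.2
    rw [h1, hf2 b b.2] at h2
    exact Subtype.ext (mul_left_cancel h2).symm
  let g : R → A := fun x => ⟨v⁻¹ * (x * v * (x : G)⁻¹), B.r_mem hv x.2⟩
  have hg : Function.Injective g := by
    intro x x' hxx
    have h1 : v⁻¹ * (x * v * (x : G)⁻¹) = v⁻¹ * (x' * v * (x' : G)⁻¹) := congrArg Subtype.val hxx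
    have h2 : (x : G) * v * (x : G)⁻¹ = x' * v * (x' : G)⁻¹ := mul_left_cancel h1
    by_contra hne
    refine hvA (B.RC ((x' : G)⁻¹ * x) (mul_mem (inv_mem x'.2) x.2) ?_ v hv ?_)
    · intro h3
      apply hne
      rw [inv_mul_eq_one] at h3
      exact Subtype.ext h3.symm
    · calc (x' : G)⁻¹ * x * v = (x' : G)⁻¹ * (x * v * (x : G)⁻¹) * x := by group
        _ = (x' : G)⁻¹ * (x' * v * (x' : G)⁻¹) * x := by rw [h2]
        _ = v * ((x' : G)⁻¹ * x) := by group
  have h3 : Nat.card A = Nat.card R :=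
    le_antisymm (Nat.card_le_card_of_injective F hF) (Nat.card_le_card_of_injective g hg)
  have h4 : Function.Bijective g := (Nat.bijective_iff_injective_and_card g).mpr ⟨hg, h3.symm⟩
  obtain ⟨x, hx⟩ := h4.2 ⟨a, ha⟩
  refine ⟨x, x.2, ?_⟩
  have h5 : v⁻¹ * (x * v * (x : G)⁻¹) = a := congrArg Subtype.val hx
  rw [← h5]; group

/-- squares lie in `A` -/
theorem sq_mem [Finite G] (B : B1 L S A R y) {z : G} (hz : z ∈ S) (hzc : ∀ l ∈ L, z * l = l * z) (hz1 : z ≠ 1)
    {v : G} (hv : v ∈ S) : v * v ∈ A := by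
  by_cases hvA : v ∈ A
  · exact mul_mem hvA hvA
  · obtain ⟨x, hx, h1⟩ := B.surj hv hvA (B.central_mem hz hzc)
    have hx1 : x ≠ 1 := by
      rintro rfl
      apply hz1
      have h2 : v * z = v := by rw [← h1]; group
      exact mul_eq_left.mp h2
    refine B.RC x hx hx1 _ (mul_mem hv hv) ?_
    have h3 := hzc v (B.syl.1 hv)
    calc x * (v * v) = (x * v * x⁻¹) * (x * v * x⁻¹) * x := by group
      _ = v * (z * v) * z * x := by rw [h1]; group
      _ = v * v * (z * z) * x := by rw [h3]; group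
      _ = v * v * x := by rw [B.central_sq hz hzc, mul_one]

/-- elements outside `A` invert `A` -/
theorem inv_of_not [Finite G] (B : B1 L S A R y) {z : G} (hz : z ∈ S) (hzc : ∀ l ∈ L, z * l = l * z) (hz1 : z ≠ 1)
    {v : G} (hv : v ∈ S) (hvA : v ∉ A) {a : G} (ha : a ∈ A) : v * a * v⁻¹ = a⁻¹ := by
  obtain ⟨x, hx, h1⟩ := B.surj hv hvA ha
  have h2 := B.RA x hx _ (B.sq_mem hz hzc hz1 hv)
  have h3 : v * v = (v * a) * (v * a) := by
    rw [← h1]
    calc v * v = (v * v) * x * x⁻¹ := by group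
      _ = x * (v * v) * x⁻¹ := by rw [h2]
      _ = _ := by group
  have h4 : v = a * (v * a) := by
    apply mul_left_cancel (a := v)
    rw [h3]; group
  calc v * a * v⁻¹ = a⁻¹ * (a * (v * a)) * v⁻¹ := by group
    _ = a⁻¹ := by rw [← h4]; group

/-- `S = A ∪ y A` -/
theorem two [Finite G] (B : B1 L S A R y) {z : G} (hz : z ∈ S) (hzc : ∀ l ∈ L, z * l = l * z) (hz1 : z ≠ 1)
    {v : G} (hv : v ∈ S) (hvA : v ∉ A) : y⁻¹ * v ∈ A := by
  refine B.self _ (mul_mem (inv_mem B.yS) hv) ?_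
  intro a ha
  have h1 := B.inv_of_not hz hzc hz1 hv hvA ha
  have h2 := B.yinv a ha
  calc y⁻¹ * v * a = y⁻¹ * (v * a * v⁻¹) * v := by group
    _ = y⁻¹ * (y * a * y⁻¹) * v := by rw [h1, h2]
    _ = a * (y⁻¹ * v) := by group

theorem sq_eq [Finite G] (B : B1 L S A R y) {z : G} (hz : z ∈ S) (hzc : ∀ l ∈ L, z * l = l * z) (hz1 : z ≠ 1)
    {v : G} (hv : v ∈ S) (hvA : v ∉ A) : v * v = y * y := by
  have h1 := B.two hz hzc hz1 hv hvA
  set a := y⁻¹ * v with ha
  have h2 : v = y * a := by rw [ha]; group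
  have h3 := B.yinv a h1
  have h4 : y * a = a⁻¹ * y := by rw [← h3]; group
  have h5 := B.ab _ B.ysq a h1
  calc v * v = (y * a) * (y * a) := by rw [h2]
    _ = (a⁻¹ * y) * (y * a) := by rw [h4]
    _ = a⁻¹ * ((y * y) * a) := by group
    _ = y * y := by rw [h5]; group

/-- involutions of `A` are central in `S` -/
theorem om_central [Finite G] (B : B1 L S A R y) {z : G} (hz : z ∈ S) (hzc : ∀ l ∈ L, z * l = l * z) (hz1 : z ≠ 1)
    {o : G} (ho : o ∈ A) (ho2 : o * o = 1) {s : G} (hs : s ∈ S) : s * o = o * s := by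
  by_cases hsA : s ∈ A
  · exact B.ab s hsA o ho
  · have h1 := B.inv_of_not hz hzc hz1 hs hsA ho
    rw [inv_of_sq ho2] at h1
    calc s * o = (s * o * s⁻¹) * s := by group
      _ = o * s := by rw [h1]

end B1

/-- (beta1) with a central element `z` of `L` in `S` -/
structure B2 (L S A R : Subgroup G) (y z : G) : Prop extends B1 L S A R y where
  zS : z ∈ S
  zc : ∀ l ∈ L, z * l = l * z
  z1 : z ≠ 1

variable {z : G}

namespace B2

theorem zA (B : B2 L S A R y z) : z ∈ A := B.central_mem B.zS B.zc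

theorem zsq (B : B2 L S A R y z) : z * z = 1 := B.central_sq B.zS B.zc

theorem inv' [Finite G] (B : B2 L S A R y z) {v : G} (hv : v ∈ S) (hvA : v ∉ A) {a : G} (ha : a ∈ A) :
    v * a * v⁻¹ = a⁻¹ := B.inv_of_not B.zS B.zc B.z1 hv hvA ha

theorem two' [Finite G] (B : B2 L S A R y z) {v : G} (hv : v ∈ S) (hvA : v ∉ A) : y⁻¹ * v ∈ A :=
  B.two B.zS B.zc B.z1 hv hvA

theorem sq' [Finite G] (B : B2 L S A R y z) {v : G} (hv : v ∈ S) (hvA : v ∉ A) : v * v = y * y :=
  B.sq_eq B.zS B.zc B.z1 hv hvA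

theorem om' [Finite G] (B : B2 L S A R y z) {o : G} (ho : o ∈ A) (ho2 : o * o = 1) {s : G} (hs : s ∈ S) :
    s * o = o * s := B.om_central B.zS B.zc B.z1 ho ho2 hs

theorem A_le (B : B2 L S A R y z) : A ≤ L := B.le.trans B.syl.1

/-- commutators of `S` are squares of elements of `A` -/
theorem comm_sq [Finite G] (B : B2 L S A R y z) {s t : G} (hs : s ∈ S) (ht : t ∈ S) :
    ∃ c ∈ A, s * t * s⁻¹ * t⁻¹ = c * c := by
  by_cases hsA : s ∈ A
  · by_cases htA : t ∈ A
    · refine ⟨1, one_mem _, ?_⟩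
      rw [B.ab s hsA t htA]; group
    · have h1 := B.inv' ht htA (inv_mem hsA)
      rw [inv_inv] at h1
      refine ⟨s, hsA, ?_⟩
      calc s * t * s⁻¹ * t⁻¹ = s * (t * s⁻¹ * t⁻¹) := by group
        _ = s * s := by rw [h1]
  · by_cases htA : t ∈ A
    · refine ⟨t⁻¹, inv_mem htA, ?_⟩
      rw [B.inv' hs hsA htA]
    · have h1 : s⁻¹ * t ∈ A := by
        have h2 := mul_mem (inv_mem (B.two' hs hsA)) (B.two' ht htA)
        have h3 : (y⁻¹ * s)⁻¹ * (y⁻¹ * t) = s⁻¹ * t := by group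
        rwa [h3] at h2
      refine ⟨s⁻¹ * t, h1, ?_⟩
      set c := s⁻¹ * t with hc
      have h2 : t = s * c := by rw [hc]; group
      have h3 := B.inv' hs hsA h1
      have h4 := B.inv' hs hsA (inv_mem h1)
      rw [inv_inv] at h4
      calc s * t * s⁻¹ * t⁻¹ = s * (s * c * s⁻¹) * c⁻¹ * s⁻¹ := by rw [h2]; group
        _ = (s * c⁻¹ * s⁻¹) * (s * c⁻¹ * s⁻¹) := by rw [h3]; group
        _ = c * c := by rw [h4]

/-- squares of elements of `A` -/
def Sq (B : B2 L S A R y z) : Subgroup S where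
  carrier := {s | ∃ c ∈ A, (s : G) = c * c}
  one_mem' := ⟨1, one_mem _, by simp⟩
  mul_mem' := by
    rintro a b ⟨c, hc, h1⟩ ⟨d, hd, h2⟩
    refine ⟨c * d, mul_mem hc hd, ?_⟩
    change (a : G) * b = _
    rw [h1, h2]
    have h := B.ab c hc d hd
    calc c * c * (d * d) = c * (c * d) * d := by group
      _ = c * (d * c) * d := by rw [h]
      _ = c * d * (c * d) := by group
  inv_mem' := by
    rintro a ⟨c, hc, h1⟩
    refine ⟨c⁻¹, inv_mem hc, ?_⟩
    change (a : G)⁻¹ = _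
    rw [h1]; group

theorem commutator_le [Finite G] (B : B2 L S A R y z) : commutator S ≤ B.Sq := by
  rw [commutator_def, Subgroup.commutator_le]
  intro a _ b _
  exact B.comm_sq a.2 b.2

/-- central elements of `L` in `S` are squares of elements of `A` -/
theorem exists_sqrt [Finite G] (B : B2 L S A R y z) : ∃ c ∈ A, z = c * c := by
  have h1 := center_transfer B.qs B.syl B.zS B.zc B.zsq (Abelianization.of (G := S))
  have h2 : (⟨z, B.zS⟩ : S) ∈ (Abelianization.of (G := S)).ker := h1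
  rw [Abelianization.ker_of] at h2
  exact B.commutator_le h2

theorem ypow_even (B : B2 L S A R y z) (j : ℕ) : y ^ (2 * j) ∈ A := by
  rw [pow_mul, pow_two]; exact pow_mem B.ysq j

theorem wsq (B : B2 L S A R y z) : (y * y) * (y * y) = 1 := by
  have h1 := B.yinv _ B.ysq
  have h2 : y * y = (y * y)⁻¹ := by
    rw [← h1]; group
  calc (y * y) * (y * y) = (y * y) * (y * y)⁻¹ := by rw [← h2]
    _ = 1 := mul_inv_cancel _

/-- **transfer**: `y` is `L`-conjugate into `A` -/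
theorem exists_conj [Finite G] (B : B2 L S A R y z) : ∃ g ∈ L, g * y * g⁻¹ ∈ A := by
  by_contra hno
  push Not at hno
  let H : Subgroup L := S.subgroupOf L
  let M : Subgroup H := (A.subgroupOf L).subgroupOf H
  have hM : ∀ x : H, x ∈ M ↔ ((x : L) : G) ∈ A := fun x => Iff.rfl
  let y' : H := ⟨⟨y, B.syl.1 B.yS⟩, B.yS⟩
  have hM2 : M.index = 2 := by
    rw [Subgroup.index_eq_two_iff]
    refine ⟨y', fun b => ?_⟩
    have e : (((b * y' : H) : L) : G) = ((b : L) : G) * y := rfl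
    rw [hM, hM, e]
    by_cases hb : ((b : L) : G) ∈ A
    · right
      refine ⟨hb, fun h1 => B.yA ?_⟩
      have h2 := mul_mem (inv_mem hb) h1
      rwa [inv_mul_cancel_left] at h2
    · left
      refine ⟨?_, hb⟩
      have h1 : y⁻¹ * ((b : L) : G)⁻¹ ∈ A := B.two' (inv_mem b.2) (fun h => hb (by simpa using inv_mem h))
      have h2 := inv_mem h1
      have h3 : (y⁻¹ * ((b : L) : G)⁻¹)⁻¹ = ((b : L) : G) * y := by group
      rwa [h3] at h2
  obtain ⟨H', hH'⟩ := TwoFusion.IndexTwo.exists_index_two H (index_odd B.syl) M hM2 y' (fun h => B.yA h) (by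
    intro k g₀ h
    rw [hM, hM]
    change ((g₀ : L) : G)⁻¹ * y ^ k * g₀ ∈ A ↔ y ^ k ∈ A
    have hS : ((g₀ : L) : G)⁻¹ * y ^ k * g₀ ∈ S := h
    have hw := B.wsq
    have hw2 : (y ^ 2) ^ 2 = 1 := by rw [pow_two (y ^ 2), pow_two]; exact hw
    have g₀L : (g₀ : G)⁻¹ ∈ L := inv_mem g₀.2
    have hno1 := hno _ g₀L
    rw [inv_inv] at hno1
    rcases Nat.even_or_odd' k with ⟨j, rfl | rfl⟩
    · refine ⟨fun _ => B.ypow_even j, fun _ => ?_⟩
      have e0 : y ^ (2 * j) * y ^ (2 * j) = ((y ^ 2) ^ 2) ^ j := by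
        rw [← pow_mul, ← pow_mul, ← pow_add]; congr 1; ring
      by_contra h1
      have h2 := B.sq' hS h1
      have h3 : ((g₀ : L) : G)⁻¹ * y ^ (2 * j) * g₀ * (((g₀ : L) : G)⁻¹ * y ^ (2 * j) * g₀) = 1 := by
        calc ((g₀ : L) : G)⁻¹ * y ^ (2 * j) * g₀ * (((g₀ : L) : G)⁻¹ * y ^ (2 * j) * g₀)
            = ((g₀ : L) : G)⁻¹ * (y ^ (2 * j) * y ^ (2 * j)) * g₀ := by group
          _ = ((g₀ : L) : G)⁻¹ * ((y ^ 2) ^ 2) ^ j * g₀ := by
              rw [e0]
          _ = 1 := by rw [hw2]; group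
      rw [h3] at h2
      apply h1
      rw [pow_mul, pow_two, ← h2]
      simp
    · constructor
      · intro h1
        exfalso
        rcases Nat.even_or_odd' j with ⟨i, rfl | rfl⟩
        · have e : y ^ (2 * (2 * i) + 1) = y := by
            rw [pow_succ, pow_mul, pow_mul, hw2]; simp
          rw [e] at h1
          exact hno1 h1
        · have e : y ^ (2 * (2 * i + 1) + 1) = y⁻¹ := by
            have e2 : y ^ (2 * (2 * i + 1) + 1) * y = ((y ^ 2) ^ 2) ^ (i + 1) := by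
              rw [← pow_succ, ← pow_mul, ← pow_mul]; congr 1
            rw [hw2, one_pow] at e2
            exact eq_inv_of_mul_eq_one_left e2
          rw [e] at h1
          apply hno1
          have h2 := inv_mem h1
          have h3 : (((g₀ : L) : G)⁻¹ * y⁻¹ * g₀)⁻¹ = ((g₀ : L) : G)⁻¹ * y * g₀ := by group
          rwa [h3] at h2
      · intro h1
        exfalso
        rw [pow_succ] at h1
        exact B.yA ((Subgroup.mul_mem_cancel_left _ (B.ypow_even j)).mp h1))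
  exact index_ne_two B.qs.1.commutator_eq_top H' hH'

/-! ### Centralisers of elements of `A` -/

/-- the elements of order at most two of `A` -/
def Om (B : B2 L S A R y z) : Subgroup G where
  carrier := {a | a ∈ A ∧ a * a = 1}
  one_mem' := ⟨one_mem _, by simp⟩
  mul_mem' := by
    rintro a b ⟨ha, h1⟩ ⟨hb, h2⟩
    refine ⟨mul_mem ha hb, ?_⟩
    have h := B.ab a ha b hb
    calc a * b * (a * b) = a * (b * a) * b := by group
      _ = a * a * (b * b) := by rw [← h]; group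
      _ = 1 := by rw [h1, h2, mul_one]
  inv_mem' := by
    rintro a ⟨ha, h1⟩
    refine ⟨inv_mem ha, ?_⟩
    rw [← mul_inv_rev, h1, inv_one]

theorem mem_Om (B : B2 L S A R y z) {a : G} : a ∈ B.Om ↔ a ∈ A ∧ a * a = 1 := Iff.rfl

/-- `A` is a Sylow subgroup of the centraliser of any of its elements of order at least four -/
theorem syl_cent [Finite G] (B : B2 L S A R y z) {b : G} (hb : b ∈ A) (hb2 : b * b ≠ 1) :
    IsSyl A (L ⊓ Subgroup.centralizer ({b} : Set G)) := by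
  have hA2 : IsPGroup 2 A := B.syl.2.1.to_le B.le
  have hAC : A ≤ L ⊓ Subgroup.centralizer ({b} : Set G) := by
    intro a ha
    rw [Subgroup.mem_inf, Subgroup.mem_centralizer_singleton_iff]
    exact ⟨B.A_le ha, B.ab a ha b hb⟩
  obtain ⟨T, hTC, hT2, hAT, hT⟩ := exists_syl hA2 hAC
  obtain ⟨k, hk, hkS⟩ := B.syl.2.2 T (hTC.trans inf_le_left) hT2
  set b' := k * b * k⁻¹ with hb'
  have hb'2 : b' * b' ≠ 1 := by
    intro h1
    apply hb2
    calc b * b = k⁻¹ * (b' * b') * k := by rw [hb']; group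
      _ = 1 := by rw [h1]; group
  have hb'S : b' ∈ S := hkS (conj_mem_cj (hAT hb))
  have hcomm : ∀ t ∈ cj k T, t * b' = b' * t := by
    intro t ht
    rw [mem_cj] at ht
    have h1 := Subgroup.mem_centralizer_singleton_iff.mp (Subgroup.mem_inf.mp (hTC ht)).2
    calc t * b' = k * ((k⁻¹ * t * k) * b) * k⁻¹ := by rw [hb']; group
      _ = k * (b * (k⁻¹ * t * k)) * k⁻¹ := by rw [h1]
      _ = b' * t := by rw [hb']; group
  have hcard : Nat.card T ≤ Nat.card A := by
    rw [← card_cj k T]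
    by_cases hbA : b' ∈ A
    · refine Nat.card_le_card_of_injective _ (Subgroup.inclusion_injective (?_ : cj k T ≤ A))
      intro t ht
      by_contra htA
      have h1 := B.inv' (hkS ht) htA hbA
      have h2 := hcomm t ht
      apply hb'2
      have h3 : b' = b'⁻¹ := by rw [← h1, h2]; group
      calc b' * b' = b' * b'⁻¹ := by rw [← h3]
        _ = 1 := mul_inv_cancel _
    · have hlt : B.Om < A := by
        refine lt_of_le_of_ne (fun a ha => ha.1) ?_
        intro h1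
        rw [← h1] at hb
        exact hb2 hb.2
      have h2 : 2 * Nat.card B.Om ≤ Nat.card A := by
        obtain ⟨m, hm⟩ := Subgroup.card_dvd_of_le hlt.le
        have hpos : 0 < Nat.card A := Nat.card_pos
        have h3 : m ≠ 0 := by rintro rfl; omega
        have h4 : m ≠ 1 := by
          rintro rfl
          rw [mul_one] at hm
          exact hlt.ne (Subgroup.eq_of_le_of_card_ge hlt.le hm.le)
        rw [hm, mul_comm]
        exact Nat.mul_le_mul_left _ (by omega)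
      refine le_trans (card_le_two_mul b' ?_) h2
      intro t ht
      have hin : ∀ s ∈ A, s * b' = b' * s → s ∈ B.Om := by
        intro s hs hsb
        refine ⟨hs, ?_⟩
        have h5 := B.inv' hb'S hbA hs
        have h6 : s = s⁻¹ := by rw [← h5, ← hsb]; group
        calc s * s = s * s⁻¹ := by rw [← h6]
          _ = 1 := mul_inv_cancel _
      by_cases htA : t ∈ A
      · exact Or.inl (hin t htA (hcomm t ht))
      · right
        have h5 : b'⁻¹ * t ∈ A := by
          have h6 := mul_mem (inv_mem (B.two' hb'S hbA)) (B.two' (hkS ht) htA)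
          have h7 : (y⁻¹ * b')⁻¹ * (y⁻¹ * t) = b'⁻¹ * t := by group
          rwa [h7] at h6
        refine hin _ h5 ?_
        have h8 := hcomm t ht
        calc b'⁻¹ * t * b' = b'⁻¹ * (t * b') := by group
          _ = b' * (b'⁻¹ * t) := by rw [h8]; group
  have hTA : A = T := Subgroup.eq_of_le_of_card_ge hAT hcard
  rw [← hTA] at hT hT2 hTC
  exact ⟨hTC, hT2, hT⟩

/-- `y² = z` -/
theorem ysq_eq [Finite G] (B : B2 L S A R y z) : y * y = z := by
  obtain ⟨c, hc, hcz⟩ := B.exists_sqrt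
  obtain ⟨g, hg, hb⟩ := B.exists_conj
  set b := g * y * g⁻¹ with hbd
  have hcy : c * y * c⁻¹ = z * y := by
    have h1 := B.yinv _ (inv_mem hc)
    rw [inv_inv] at h1
    calc c * y * c⁻¹ = c * (y * c⁻¹ * y⁻¹) * y := by group
      _ = z * y := by rw [h1, hcz]
  have hh : (g * c * g⁻¹) * b * (g * c * g⁻¹)⁻¹ = z * b := by
    calc (g * c * g⁻¹) * b * (g * c * g⁻¹)⁻¹ = g * (c * y * c⁻¹) * g⁻¹ := by rw [hbd]; group
      _ = (g * z) * y * g⁻¹ := by rw [hcy]; group
      _ = z * b := by rw [← B.zc g hg, hbd]; group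
  have hhL : g * c * g⁻¹ ∈ L := mul_mem (mul_mem hg (B.A_le hc)) (inv_mem hg)
  have hbsq : b * b = g * (y * y) * g⁻¹ := by rw [hbd]; group
  by_cases hb2 : b * b = 1
  · -- `b` is central in `S`
    exfalso
    have hSC : IsSyl S (L ⊓ Subgroup.centralizer ({b} : Set G)) := by
      refine B.syl.le inf_le_left fun s hs => ?_
      rw [Subgroup.mem_inf, Subgroup.mem_centralizer_singleton_iff]
      exact ⟨B.syl.1 hs, B.om' hb hb2 hs⟩
    obtain ⟨l, hl, hlS, s, hs, h1⟩ := fuse B.syl (fun s hs => cj_eq_of_mem hs) hSC B.zc B.zsq hhL hh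
    have h2 : l⁻¹ * s * l ∈ S := by
      rw [← hlS, mem_cj] at hs
      exact hs
    have h3 := B.om' hb hb2 h2
    have h4 : s * (l * b * l⁻¹) * s⁻¹ = l * b * l⁻¹ := by
      calc s * (l * b * l⁻¹) * s⁻¹ = l * ((l⁻¹ * s * l) * b) * l⁻¹ * s⁻¹ := by group
        _ = l * b * l⁻¹ := by rw [h3]; group
    rw [h4] at h1
    exact B.z1 (mul_eq_right.mp h1.symm)
  · obtain ⟨l, hl, hlA, s, hs, h1⟩ := fuse B.syl B.nrm (B.syl_cent hb hb2) B.zc B.zsq hhL hh
    have hb' : l * b * l⁻¹ ∈ A := conj_mem_of_cj hlA hb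
    set b' := l * b * l⁻¹ with hb'd
    have h2 : b' * b' = z := by
      by_cases hsA : s ∈ A
      · exfalso
        have h3 : s * b' * s⁻¹ = b' := by rw [B.ab s hsA b' hb']; group
        rw [h3] at h1
        exact B.z1 (mul_eq_right.mp h1.symm)
      · rw [B.inv' hs hsA hb'] at h1
        have h3 : z * (b' * b') = 1 := by
          rw [← mul_assoc, ← h1]; group
        calc b' * b' = z * z * (b' * b') := by rw [B.zsq, one_mul]
          _ = z := by rw [mul_assoc, h3, mul_one]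
    have h3 : (l * g) * (y * y) * (l * g)⁻¹ = z := by
      rw [← h2, hb'd, hbd]; group
    calc y * y = (l * g)⁻¹ * ((l * g) * (y * y) * (l * g)⁻¹) * (l * g) := by group
      _ = (l * g)⁻¹ * (z * (l * g)) := by rw [h3]; group
      _ = z := by rw [B.zc _ (mul_mem hl hg)]; group

theorem sqz [Finite G] (B : B2 L S A R y z) {v : G} (hv : v ∈ S) (hvA : v ∉ A) : v * v = z := by
  rw [B.sq' hv hvA, B.ysq_eq]

/-- involutions of `S` lie in `A` -/
theorem inv_mem_A [Finite G] (B : B2 L S A R y z) {v : G} (hv : v ∈ S) (hv2 : v * v = 1) : v ∈ A := by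
  by_contra h
  rw [B.sqz hv h] at hv2
  exact B.z1 hv2

/-! ### Squares which are involutions -/

/-- the only involution which is a square of an element of `A` is `z` -/
theorem sq_cases [Finite G] (B : B2 L S A R y z) {a₀ : G} (ha₀ : a₀ ∈ A) (h4 : (a₀ * a₀) * (a₀ * a₀) = 1) :
    a₀ * a₀ = 1 ∨ a₀ * a₀ = z := by
  by_contra hcon
  push Not at hcon
  obtain ⟨hne1, hnez⟩ := hcon
  obtain ⟨g, hg, hb⟩ := B.exists_conj
  set b := g * y * g⁻¹ with hbd
  have hb2 : b * b = z := by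
    calc b * b = g * (y * y) * g⁻¹ := by rw [hbd]; group
      _ = (g * z) * g⁻¹ := by rw [B.ysq_eq]
      _ = z := by rw [← B.zc g hg]; group
  have hA := B.syl_cent hb (by rw [hb2]; exact B.z1)
  -- `D = C_S(y)`
  set D : Subgroup G := S ⊓ Subgroup.centralizer ({y} : Set G) with hD
  have hmemD : ∀ x, x ∈ D ↔ x ∈ S ∧ x * y = y * x := by
    intro x
    rw [hD, Subgroup.mem_inf, Subgroup.mem_centralizer_singleton_iff]
  have hD2 : IsPGroup 2 D := B.syl.2.1.to_le inf_le_left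
  have hgD : cj g D ≤ L ⊓ Subgroup.centralizer ({b} : Set G) := by
    intro x hx
    rw [mem_cj, hmemD] at hx
    rw [Subgroup.mem_inf, Subgroup.mem_centralizer_singleton_iff]
    constructor
    · have : x = g * (g⁻¹ * x * g) * g⁻¹ := by group
      rw [this]
      exact mul_mem (mul_mem hg (B.syl.1 hx.1)) (inv_mem hg)
    · calc x * b = g * ((g⁻¹ * x * g) * y) * g⁻¹ := by rw [hbd]; group
        _ = g * (y * (g⁻¹ * x * g)) * g⁻¹ := by rw [hx.2]
        _ = b * x := by rw [hbd]; group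
  obtain ⟨k, hk, hkA⟩ := hA.2.2 (cj g D) hgD (hD2.map _)
  rw [← cj_mul] at hkA
  rw [Subgroup.mem_inf, Subgroup.mem_centralizer_singleton_iff] at hk
  have hg1 : k * g ∈ L := mul_mem hk.1 hg
  have hyD : y ∈ D := (hmemD y).mpr ⟨B.yS, rfl⟩
  generalize k * g = g₁ at hkA hg1
  set E := cj g₁ D with hE
  -- every subgroup of `A` is normal in `S`
  have hSE : ∀ s ∈ S, cj s E = E := by
    intro s hs
    refine Subgroup.eq_of_le_of_card_ge ?_ (card_cj s E).ge
    intro x hx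
    rw [mem_cj] at hx
    have h1 := hkA hx
    by_cases hsA : s ∈ A
    · have h2 := B.ab s hsA _ h1
      have h3 : x = s⁻¹ * x * s := by
        calc x = s * (s⁻¹ * x * s) * s⁻¹ := by group
          _ = s⁻¹ * x * s := by rw [h2]; group
      rw [h3]; exact hx
    · have h2 := B.inv' hs hsA h1
      have h3 : x = (s⁻¹ * x * s)⁻¹ := by rw [← h2]; group
      rw [h3]; exact inv_mem hx
  have hSN : IsSyl S (NL L E) :=
    B.syl.le (fun x hx => (mem_NL.mp hx).1) fun s hs => mem_NL.mpr ⟨B.syl.1 hs, hSE s hs⟩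
  set W : Subgroup G := NL S D with hW
  have hW2 : IsPGroup 2 W := B.syl.2.1.to_le fun x hx => (mem_NL.mp hx).1
  have hgW : cj g₁ W ≤ NL L E := by
    intro x hx
    rw [mem_cj, hW, mem_NL] at hx
    rw [mem_NL]
    constructor
    · have : x = g₁ * (g₁⁻¹ * x * g₁) * g₁⁻¹ := by group
      rw [this]
      exact mul_mem (mul_mem hg1 (B.syl.1 hx.1)) (inv_mem hg1)
    · have e : x * g₁ = g₁ * (g₁⁻¹ * x * g₁) := by group
      rw [hE, ← cj_mul, e, cj_mul, hx.2]
  obtain ⟨c, hc, hcS⟩ := hSN.2.2 (cj g₁ W) hgW (hW2.map _)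
  rw [mem_NL] at hc
  rw [← cj_mul] at hcS
  have hE2 : cj (c * g₁) D = E := by rw [cj_mul, ← hE, hc.2]
  have hg2 : c * g₁ ∈ L := mul_mem hc.1 hg1
  generalize c * g₁ = g₂ at hcS hE2 hg2
  have hyE : g₂ * y * g₂⁻¹ ∈ A := hkA (by rw [← hE2]; exact conj_mem_cj hyD)
  -- elements of order four of `A` normalise `D`
  have hAW : ∀ a ∈ A, (a * a) * (a * a) = 1 → a ∈ W := by
    intro a ha ha4
    rw [hW, mem_NL]
    refine ⟨B.le ha, ?_⟩
    refine Subgroup.eq_of_le_of_card_ge ?_ (card_cj a D).ge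
    intro x hx
    rw [mem_cj, hmemD] at hx
    have hxS : x ∈ S := by
      have : x = a * (a⁻¹ * x * a) * a⁻¹ := by group
      rw [this]
      exact mul_mem (mul_mem (B.le ha) hx.1) (inv_mem (B.le ha))
    rw [hmemD]
    refine ⟨hxS, ?_⟩
    -- `x` commutes with `a y a⁻¹ = a² y`
    have h1 : a * y * a⁻¹ = (a * a) * y := by
      have h2 := B.yinv _ (inv_mem ha)
      rw [inv_inv] at h2
      calc a * y * a⁻¹ = a * (y * a⁻¹ * y⁻¹) * y := by group
        _ = _ := by rw [h2]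
    have h3 : x * (a * y * a⁻¹) = (a * y * a⁻¹) * x := by
      calc x * (a * y * a⁻¹) = a * ((a⁻¹ * x * a) * y) * a⁻¹ := by group
        _ = a * (y * (a⁻¹ * x * a)) * a⁻¹ := by rw [hx.2]
        _ = _ := by group
    rw [h1] at h3
    have h4' := B.om' (mul_mem ha ha) ha4 hxS
    have h5 : (a * a) * (x * y) = (a * a) * (y * x) := by
      calc (a * a) * (x * y) = x * ((a * a) * y) := by rw [← mul_assoc, ← h4']; group
        _ = (a * a) * (y * x) := by rw [h3]; group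
    exact mul_left_cancel h5
  have hstep : ∀ a ∈ A, (a * a) * (a * a) = 1 → a * a ≠ z → g₂ * a * g₂⁻¹ ∈ A := by
    intro a ha ha4 haz
    have h1 : g₂ * a * g₂⁻¹ ∈ S := hcS (conj_mem_cj (hAW a ha ha4))
    by_contra h2
    have h3 := B.sqz h1 h2
    apply haz
    calc a * a = g₂⁻¹ * (g₂ * a * g₂⁻¹ * (g₂ * a * g₂⁻¹)) * g₂ := by group
      _ = g₂⁻¹ * (z * g₂) := by rw [h3]; group
      _ = z := by rw [B.zc _ hg2]; group
  have hall : ∀ a ∈ A, (a * a) * (a * a) = 1 → g₂ * a * g₂⁻¹ ∈ A := by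
    intro a ha ha4
    by_cases haz : a * a = z
    · have h1 := B.ab a ha a₀ ha₀
      have h2 : (a * a₀) * (a * a₀) = (a * a) * (a₀ * a₀) := by
        calc (a * a₀) * (a * a₀) = a * (a₀ * a) * a₀ := by group
          _ = _ := by rw [← h1]; group
      have h3 := hstep (a * a₀) (mul_mem ha ha₀) (by
        rw [h2, haz]
        have h5 := B.zc _ (B.A_le (mul_mem ha₀ ha₀))
        calc z * (a₀ * a₀) * (z * (a₀ * a₀)) = z * ((a₀ * a₀) * z) * (a₀ * a₀) := by group
          _ = (z * z) * ((a₀ * a₀) * (a₀ * a₀)) := by rw [← h5]; group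
          _ = 1 := by rw [B.zsq, h4, one_mul]) (by
        rw [h2, haz]
        intro h5
        exact hne1 (mul_eq_left.mp h5))
      have h4' := hstep a₀ ha₀ h4 hnez
      have h5 := mul_mem h3 (inv_mem h4')
      have h6 : g₂ * (a * a₀) * g₂⁻¹ * (g₂ * a₀ * g₂⁻¹)⁻¹ = g₂ * a * g₂⁻¹ := by group
      rwa [h6] at h5
    · exact hstep a ha ha4 haz
  -- the elements of order at most four
  let O4 : Subgroup G :=
    { carrier := {a | a ∈ A ∧ (a * a) * (a * a) = 1}
      one_mem' := ⟨one_mem _, by simp⟩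
      mul_mem' := by
        rintro a d ⟨ha, h1⟩ ⟨hd, h2⟩
        refine ⟨mul_mem ha hd, ?_⟩
        have h := B.ab a ha d hd
        have e : (a * d) * (a * d) = (a * a) * (d * d) := by
          calc (a * d) * (a * d) = a * (d * a) * d := by group
            _ = _ := by rw [← h]; group
        have h' := B.ab _ (mul_mem ha ha) _ (mul_mem hd hd)
        rw [e]
        calc a * a * (d * d) * (a * a * (d * d)) = (a * a) * ((d * d) * (a * a)) * (d * d) := by group
          _ = ((a * a) * (a * a)) * ((d * d) * (d * d)) := by rw [← h']; group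
          _ = 1 := by rw [h1, h2, mul_one]
      inv_mem' := by
        rintro a ⟨ha, h1⟩
        refine ⟨inv_mem ha, ?_⟩
        rw [← mul_inv_rev, ← mul_inv_rev, h1, inv_one] }
  have hO4 : cj g₂ O4 = O4 := by
    refine Subgroup.eq_of_le_of_card_ge ?_ (card_cj g₂ O4).ge
    intro x hx
    rw [mem_cj] at hx
    obtain ⟨h1, h2⟩ : g₂⁻¹ * x * g₂ ∈ A ∧ (g₂⁻¹ * x * g₂ * (g₂⁻¹ * x * g₂)) * (g₂⁻¹ * x * g₂ * (g₂⁻¹ * x * g₂)) = 1 := hx
    have h3 := hall _ h1 h2
    have h4 : g₂ * (g₂⁻¹ * x * g₂) * g₂⁻¹ = x := by group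
    rw [h4] at h3
    refine ⟨h3, ?_⟩
    calc (x * x) * (x * x) = g₂ * ((g₂⁻¹ * x * g₂ * (g₂⁻¹ * x * g₂)) * (g₂⁻¹ * x * g₂ * (g₂⁻¹ * x * g₂))) * g₂⁻¹ := by group
      _ = 1 := by rw [h2]; group
  have h1 : g₂ * y * g₂⁻¹ ∈ O4 := by
    refine ⟨hyE, ?_⟩
    have h2 := B.wsq
    calc (g₂ * y * g₂⁻¹ * (g₂ * y * g₂⁻¹)) * (g₂ * y * g₂⁻¹ * (g₂ * y * g₂⁻¹)) = g₂ * ((y * y) * (y * y)) * g₂⁻¹ := by group
      _ = 1 := by rw [h2]; group
  rw [← hO4, mem_cj] at h1
  have h2 : g₂⁻¹ * (g₂ * y * g₂⁻¹) * g₂ = y := by group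
  rw [h2] at h1
  exact B.yA h1.1

/-! ### The normaliser of `S` centralises the involutions of `A` -/

/-- the action of `x ∈ R` with `y^x = y f` on `S` -/
theorem act [Finite G] (B : B2 L S A R y z) {f x : G} (hf : f ∈ A) (hx : x ∈ R)
    (hxy : x * y * x⁻¹ = y * f) {s : G} (hs : s ∈ S) : (x * s * x⁻¹ = s ∨ x * s * x⁻¹ = s * f) := by
  by_cases hsA : s ∈ A
  · left
    rw [B.RA x hx s hsA]; group
  · right
    have h1 := B.two' hs hsA
    set a := y⁻¹ * s with ha
    have h2 : s = y * a := by rw [ha]; group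
    calc x * s * x⁻¹ = (x * y * x⁻¹) * (x * a * x⁻¹) := by rw [h2]; group
      _ = y * f * a := by rw [hxy, B.RA x hx a h1]; group
      _ = s * f := by rw [h2, mul_assoc, B.ab f hf a h1]; group

theorem act_inv [Finite G] (B : B2 L S A R y z) {f x : G} (hf : f ∈ A) (hf2 : f * f = 1) (hx : x ∈ R)
    (hxy : x * y * x⁻¹ = y * f) {s : G} (hs : s ∈ S) : (x⁻¹ * s * x = s ∨ x⁻¹ * s * x = s * f) := by
  have h1 : x⁻¹ * s * x ∈ S := by
    have := conj_mem_of_cj (cj_inv_eq (B.RS x hx)) hs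
    rwa [inv_inv] at this
  have h3 : x * f = f * x := B.RA x hx f hf
  rcases B.act hf hx hxy h1 with h2 | h2
  · left
    rw [← h2]; group
  · right
    have h4 : s = x⁻¹ * s * x * f := by rw [← h2]; group
    calc x⁻¹ * s * x = (x⁻¹ * s * x * f) * f := by rw [mul_assoc _ f f, hf2, mul_one]
      _ = s * f := by rw [← h4]

/-- `N_L(S)` centralises the involutions of `A` -/
theorem norm_fix [Finite G] (B : B2 L S A R y z) {n : G} (hn : n ∈ L) (hnS : cj n S = S) {f : G} (hf : f ∈ A)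
    (hf2 : f * f = 1) : n * f * n⁻¹ = f := by
  by_cases hf1 : f = 1
  · rw [hf1]; group
  by_cases hfz : f = z
  · rw [hfz, ← B.zc n hn]; group
  obtain ⟨x, hx, hxy⟩ := B.phi f hf
  set f' := n * f * n⁻¹ with hf'
  have hf'2 : f' * f' = 1 := by
    calc f' * f' = n * (f * f) * n⁻¹ := by rw [hf']; group
      _ = 1 := by rw [hf2]; group
  have hf'A : f' ∈ A := B.inv_mem_A (conj_mem_of_cj hnS (B.le hf)) hf'2
  -- `m = [x, n]`
  set m := x * n * x⁻¹ * n⁻¹ with hm
  have hmL : m ∈ L := mul_mem (conj_mem_of_cj (B.RL x hx) hn) (inv_mem hn)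
  have hmS : cj m S = S := by
    rw [hm]
    exact cj_mul_eq (cj_mul_eq (cj_mul_eq (B.RS x hx) hnS) (cj_inv_eq (B.RS x hx))) (cj_inv_eq hnS)
  have hninv : ∀ s ∈ S, n⁻¹ * s * n ∈ S := by
    intro s hs
    have := conj_mem_of_cj (cj_inv_eq hnS) hs
    rwa [inv_inv] at this
  -- action of `m` on `A₁ = Ω₁(A)`
  have hmo : ∀ o ∈ A, o * o = 1 → m * o * m⁻¹ = o := by
    intro o ho ho2
    have h1 : n⁻¹ * o * n ∈ A := B.inv_mem_A (hninv o (B.le ho)) (by
      calc n⁻¹ * o * n * (n⁻¹ * o * n) = n⁻¹ * (o * o) * n := by group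
        _ = 1 := by rw [ho2]; group)
    have h2 := B.RA x hx _ h1
    have h3 := B.RA x hx o ho
    calc m * o * m⁻¹ = x * n * (x⁻¹ * (n⁻¹ * o * n) * x) * n⁻¹ * x⁻¹ := by rw [hm]; group
      _ = x * n * (n⁻¹ * o * n) * n⁻¹ * x⁻¹ := by rw [mul_assoc x⁻¹, ← h2]; group
      _ = x * o * x⁻¹ := by group
      _ = o := by rw [h3]; group
  -- action of `m` on `S`
  have hms : ∀ s ∈ S, ∃ o ∈ A, o * o = 1 ∧ m * s * m⁻¹ = s * o ∧
      ((n⁻¹ * s * n) = y → o = f' ∨ o = f * f') := by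
    intro s hs
    have h1 := hninv s hs
    have hff : f * f' = f' * f := B.ab f hf f' hf'A
    have key : ∀ e e' : G, e ∈ A → x * s * x⁻¹ = s * e → x⁻¹ * (n⁻¹ * s * n) * x = (n⁻¹ * s * n) * e' → 
        n * e' * n⁻¹ ∈ A → m * s * m⁻¹ = s * (e * (n * e' * n⁻¹)) := by
      intro e e' he h2 h3 h4
      calc m * s * m⁻¹ = x * n * (x⁻¹ * (n⁻¹ * s * n) * x) * n⁻¹ * x⁻¹ := by rw [hm]; group
        _ = x * n * ((n⁻¹ * s * n) * e') * n⁻¹ * x⁻¹ := by rw [h3]
        _ = (x * s * x⁻¹) * (x * (n * e' * n⁻¹) * x⁻¹) := by group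
        _ = s * e * (n * e' * n⁻¹) := by rw [h2, B.RA x hx _ h4]; group
        _ = _ := by group
    have hff2 : (f * f') * (f * f') = 1 := by
      calc (f * f') * (f * f') = f * (f' * f) * f' := by group
        _ = (f * f) * (f' * f') := by rw [← hff]; group
        _ = 1 := by rw [hf2, hf'2, mul_one]
    rcases B.act hf hx hxy hs with h2 | h2
    · rcases B.act_inv hf hf2 hx hxy h1 with h3 | h3
      · refine ⟨1, one_mem _, by simp, ?_, ?_⟩
        · have := key 1 1 (one_mem _) (by rw [h2, mul_one]) (by rw [h3, mul_one]) (by simp)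
          simpa using this
        · intro hy
          exfalso
          rw [hy] at h3
          have h4 : x * y * x⁻¹ = y := by
            calc x * y * x⁻¹ = x * (x⁻¹ * y * x) * x⁻¹ := by rw [h3]
              _ = y := by group
          rw [hxy] at h4
          exact hf1 (mul_eq_left.mp h4)
      · refine ⟨f', hf'A, hf'2, ?_, fun _ => Or.inl rfl⟩
        have := key 1 f (one_mem _) (by rw [h2, mul_one]) h3 hf'A
        rwa [one_mul] at this
    · rcases B.act_inv hf hf2 hx hxy h1 with h3 | h3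
      · refine ⟨f, hf, hf2, ?_, ?_⟩
        · have := key f 1 hf h2 (by rw [h3, mul_one]) (by simp)
          simpa using this
        · intro hy
          exfalso
          rw [hy] at h3
          have h4 : x * y * x⁻¹ = y := by
            calc x * y * x⁻¹ = x * (x⁻¹ * y * x) * x⁻¹ := by rw [h3]
              _ = y := by group
          rw [hxy] at h4
          exact hf1 (mul_eq_left.mp h4)
      · exact ⟨f * f', mul_mem hf hf'A, hff2, key f f hf h2 h3 hf'A, fun _ => Or.inr rfl⟩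
  -- `m²` centralises `S`
  have hmm : ∀ s ∈ S, (m * m) * s * (m * m)⁻¹ = s := by
    intro s hs
    obtain ⟨o, ho, ho2, h1, -⟩ := hms s hs
    calc (m * m) * s * (m * m)⁻¹ = m * (m * s * m⁻¹) * m⁻¹ := by group
      _ = m * (s * o) * m⁻¹ := by rw [h1]
      _ = (m * s * m⁻¹) * (m * o * m⁻¹) := by group
      _ = s * (o * o) := by rw [h1, hmo o ho ho2]; group
      _ = s := by rw [ho2, mul_one]
  -- an odd power of `m` lies in `S`
  obtain ⟨j, e, hje⟩ := TwoFull.exists_odd_pow m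
  have hm1S : m ^ (2 * j + 1) ∈ S :=
    mem_of_norm B.syl (pow_mem hmL _) (mem_NL.mp (pow_mem (mem_NL.mpr ⟨hmL, hmS⟩) (2 * j + 1))).2 hje
  have hm1 : ∀ s ∈ S, m ^ (2 * j + 1) * s * (m ^ (2 * j + 1))⁻¹ = m * s * m⁻¹ := by
    intro s hs
    have h1 : ∀ i : ℕ, (m * m) ^ i * s * ((m * m) ^ i)⁻¹ = s := by
      intro i
      induction i with
      | zero => simp
      | succ i ih =>
        calc (m * m) ^ (i + 1) * s * ((m * m) ^ (i + 1))⁻¹ = (m * m) ^ i * ((m * m) * s * (m * m)⁻¹) * ((m * m) ^ i)⁻¹ := by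
              rw [pow_succ]; group
          _ = s := by rw [hmm s hs, ih]
    calc m ^ (2 * j + 1) * s * (m ^ (2 * j + 1))⁻¹ = m * ((m * m) ^ j * s * ((m * m) ^ j)⁻¹) * m⁻¹ := by
          rw [pow_succ', pow_mul, pow_two]; group
      _ = m * s * m⁻¹ := by rw [h1]
  -- evaluate at `s = n y n⁻¹`
  have hsS : n * y * n⁻¹ ∈ S := conj_mem_of_cj hnS B.yS
  obtain ⟨o, ho, ho2, h1, h2⟩ := hms _ hsS
  have h3 : o = f' ∨ o = f * f' := h2 (by group)
  have h4 : o = 1 ∨ o = z := by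
    obtain ⟨c, hc, h5⟩ := B.comm_sq (inv_mem hsS) hm1S
    have h6 : (n * y * n⁻¹)⁻¹ * m ^ (2 * j + 1) * ((n * y * n⁻¹)⁻¹)⁻¹ * (m ^ (2 * j + 1))⁻¹ = o := by
      calc (n * y * n⁻¹)⁻¹ * m ^ (2 * j + 1) * ((n * y * n⁻¹)⁻¹)⁻¹ * (m ^ (2 * j + 1))⁻¹
          = (n * y * n⁻¹)⁻¹ * (m ^ (2 * j + 1) * (n * y * n⁻¹) * (m ^ (2 * j + 1))⁻¹) := by group
        _ = o := by rw [hm1 _ hsS, h1]; group
    rw [h6] at h5
    have h7 := B.sq_cases hc (by rw [← h5]; exact ho2)
    rwa [← h5] at h7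
  have hf'z : f' ≠ z := by
    intro h5
    apply hfz
    calc f = n⁻¹ * f' * n := by rw [hf']; group
      _ = n⁻¹ * (z * n) := by rw [h5]; group
      _ = z := by rw [B.zc n hn]; group
  have hf'1 : f' ≠ 1 := by
    intro h5
    apply hf1
    calc f = n⁻¹ * f' * n := by rw [hf']; group
      _ = 1 := by rw [h5]; group
  rcases h3 with h3 | h3
  · exfalso
    rcases h4 with h4 | h4
    · exact hf'1 (h3.symm.trans h4)
    · exact hf'z (h3.symm.trans h4)
  · rcases h4 with h4 | h4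
    · -- `f f' = 1`
      calc f' = (f * f) * f' := by rw [hf2, one_mul]
        _ = f * (f * f') := by group
        _ = f := by rw [← h3, h4, mul_one]
    · -- `f' = f z`
      exfalso
      have h5 : n * f * n⁻¹ = z * f := by
        calc n * f * n⁻¹ = (f * f) * f' := by rw [hf2, one_mul]
          _ = f * (f * f') := by group
          _ = f * z := by rw [← h3, h4]
          _ = z * f := (B.zc f (B.A_le hf)).symm
      obtain ⟨i, e', hie⟩ := TwoFull.exists_odd_pow n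
      have h6 := conj_npow n f z B.zsq (B.zc n hn).symm h5 i
      have h7 : n ^ (2 * i + 1) ∈ S :=
        mem_of_norm B.syl (pow_mem hn _) (mem_NL.mp (pow_mem (mem_NL.mpr ⟨hn, hnS⟩) (2 * i + 1))).2 hie
      have h8 := B.om' hf hf2 h7
      rw [h8] at h6
      have h9 : f * n ^ (2 * i + 1) * (n ^ (2 * i + 1))⁻¹ = f := by group
      rw [h9] at h6
      exact B.z1 (mul_eq_right.mp h6.symm)

/-- **(beta1)**: `z` is the only involution of `S` -/
theorem main [Finite G] (B : B2 L S A R y z) {t : G} (ht : t ∈ S) (ht2 : t * t = 1) (ht1 : t ≠ 1) : t = z := by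
  by_contra htz
  have htA := B.inv_mem_A ht ht2
  by_cases htc : ∀ l ∈ L, t * l = l * t
  · have B' : B2 L S A R y t := { B with zS := ht, zc := htc, z1 := ht1 }
    exact htz (B'.ysq_eq.symm.trans B.ysq_eq)
  · push Not at htc
    obtain ⟨l₀, hl₀, hne₀⟩ := htc
    have htL := B.syl.1 ht
    have hev : 2 ∣ Nat.card L := by
      have h1 : orderOf (⟨t, htL⟩ : L) = 2 := by
        rw [orderOf_eq_prime_iff]
        refine ⟨Subtype.ext ?_, fun h => ht1 (congrArg Subtype.val h)⟩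
        change t ^ 2 = 1
        rw [pow_two]; exact ht2
      rw [← h1]
      exact orderOf_dvd_natCard _
    obtain ⟨l, hl, hlne, hlc⟩ := ZStar.zst B.qs hev ht2 (cj_eq_of_mem htL) ⟨l₀, hl₀, hne₀⟩
    have hSC : IsSyl S (L ⊓ Subgroup.centralizer ({t} : Set G)) := by
      refine B.syl.le inf_le_left fun s hs => ?_
      rw [Subgroup.mem_inf, Subgroup.mem_centralizer_singleton_iff]
      exact ⟨B.syl.1 hs, B.om' htA ht2 hs⟩
    have hl2 : (l * t * l⁻¹) ^ 2 ^ 1 = 1 := by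
      calc (l * t * l⁻¹) ^ 2 ^ 1 = l * (t * t) * l⁻¹ := by rw [pow_one, pow_two]; group
        _ = 1 := by rw [ht2]; group
    obtain ⟨k, hk, hkS⟩ := hSC.2.2 (Subgroup.zpowers (l * t * l⁻¹)) (by
      rw [Subgroup.zpowers_le, Subgroup.mem_inf, Subgroup.mem_centralizer_singleton_iff]
      exact ⟨mul_mem (mul_mem hl htL) (inv_mem hl), hlc.symm⟩) (isPGroup_zpowers hl2)
    have h1 := hkS (conj_mem_cj (Subgroup.mem_zpowers (l * t * l⁻¹)))
    rw [Subgroup.mem_inf, Subgroup.mem_centralizer_singleton_iff] at hk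
    have e : k * (l * t * l⁻¹) * k⁻¹ = (k * l) * t * (k * l)⁻¹ := by group
    rw [e] at h1
    have h2 : (k * l) * t * (k * l)⁻¹ * ((k * l) * t * (k * l)⁻¹) = 1 := by
      calc (k * l) * t * (k * l)⁻¹ * ((k * l) * t * (k * l)⁻¹) = (k * l) * (t * t) * (k * l)⁻¹ := by group
        _ = 1 := by rw [ht2]; group
    have h3 := B.inv_mem_A h1 h2
    obtain ⟨n, hn, hnS, h4⟩ := burnsideZ B.syl (mul_mem hk.1 hl) (fun s hs => B.om' htA ht2 hs)
      (fun s hs => B.om' h3 h2 hs)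
    rw [B.norm_fix hn hnS htA ht2, ← e] at h4
    apply hlne
    calc l * t * l⁻¹ = k⁻¹ * (k * (l * t * l⁻¹) * k⁻¹) * k := by group
      _ = k⁻¹ * (t * k) := by rw [← h4]; group
      _ = t := by rw [← hk.2]; group

end B2

/-- **(beta1)**, final form: if `Z(L) ∩ S ≠ 1` then all involutions of `S` are equal -/
theorem beta_one [Finite G] (B : B1 L S A R y) (hz : ∃ z ∈ S, z ≠ 1 ∧ ∀ l ∈ L, z * l = l * z) {t t' : G} (ht : t ∈ S)
    (ht2 : t * t = 1) (ht1 : t ≠ 1) (ht' : t' ∈ S) (ht'2 : t' * t' = 1) (ht'1 : t' ≠ 1) : t = t' := by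
  obtain ⟨z, hzS, hz1, hzc⟩ := hz
  have B' : B2 L S A R y z := { B with zS := hzS, zc := hzc, z1 := hz1 }
  rw [B'.main ht ht2 ht1, B'.main ht' ht'2 ht'1]

end

end Cfsg.Agent.OddHalf.D3.BEven.BetaOne
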