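import Cfsg.Agent.OddHalf.D3.EvMax
import Cfsg.Agent.OddHalf.D3.BEven.Alpha
import Cfsg.Agent.OddHalf.D3.BEven.BetaOne

/-!
# ODD D3 (iii), even centre: the split into (alpha), (beta1), (beta2) (text of helper760, bb ODD 13086)

`Q ∩ A` is normal in a `Q`-invariant Sylow 2-subgroup `S` of the member `A`; (alpha) and (beta1) are discharged.
-/

set_option autoImplicit false

namespace Cfsg.Agent.OddHalf.D3.BEven.Split

open Cfsg Cfsg.Agent.OddHalf.D3.ThreeDefs Cfsg.Agent.OddHalf.D3.ThreeFam Cfsg.Agent.OddHalf.D3.ThreeMain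
open Cfsg.Agent.OddHalf.D3.Swap Cfsg.Agent.OddHalf.D3.TwoCfg Cfsg.Agent.OddHalf.D3.TwoNF Cfsg.Agent.OddHalf.D3.TwoKey
open Cfsg.Agent.OddHalf.D3.EvDefs Cfsg.Agent.OddHalf.D3.EvSwap Cfsg.Agent.OddHalf.D3.EvDiag Cfsg.Agent.OddHalf.D3.EvMax
open Cfsg.Agent.OddHalf.D3.BTwo
open scoped commutatorElement

universe u

variable {G : Type u} [Group G]

/-- a central involution modulo `K` in a normal subgroup `N > K` of the 2-group `T` -/
theorem exists_mod [Finite G] {T N K : Subgroup G} (hT : IsPGroup 2 T) (hNT : N ≤ T) (hKN : K ≤ N)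
    (hnN : ∀ t ∈ T, cj t N = N) (hnK : ∀ t ∈ T, cj t K = K) (hne : ¬ N ≤ K) :
    ∃ y ∈ N, y ∉ K ∧ y * y ∈ K ∧ ∀ t ∈ T, t * y * t⁻¹ * y⁻¹ ∈ K := by
  have hKn : (K.subgroupOf T).Normal := by
    refine ⟨fun k hk t => ?_⟩
    rw [Subgroup.mem_subgroupOf] at hk ⊢
    exact conj_mem_of_cj (hnK t t.2) hk
  let π : T →* T ⧸ K.subgroupOf T := QuotientGroup.mk' (K.subgroupOf T)
  have hπ : ∀ t : T, π t = 1 ↔ (t : G) ∈ K := by
    intro t
    rw [← MonoidHom.mem_ker, QuotientGroup.ker_mk', Subgroup.mem_subgroupOf]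
  have hsurj : Function.Surjective π := QuotientGroup.mk'_surjective _
  have hQ : IsPGroup 2 (⊤ : Subgroup (T ⧸ K.subgroupOf T)) := by
    refine IsPGroup.to_subgroup ?_ _
    exact hT.of_surjective π hsurj
  obtain ⟨x, hx, hxK⟩ := SetLike.not_le_iff_exists.mp hne
  obtain ⟨w, hw, hw1, hw2, hwc⟩ := exists_central (Q := (⊤ : Subgroup (T ⧸ K.subgroupOf T)))
    (N := (N.subgroupOf T).map π) hQ le_top (by
      intro q _
      obtain ⟨t, rfl⟩ := hsurj q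
      ext z
      obtain ⟨s, rfl⟩ := hsurj z
      rw [mem_cj]
      have key : ∀ t s : T, π s ∈ (N.subgroupOf T).map π → π (t⁻¹ * s * t) ∈ (N.subgroupOf T).map π := by
        rintro t s ⟨n, hn, hns⟩
        refine ⟨t⁻¹ * n * t, ?_, by rw [map_mul, map_mul, map_mul, map_mul, hns]⟩
        have := conj_mem_of_cj (hnN _ (inv_mem t.2)) (show (n : G) ∈ N from hn)
        rwa [inv_inv] at this
      constructor
      · intro h
        have := key t⁻¹ (t⁻¹ * s * t) (by simpa using h)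
        have e : t⁻¹⁻¹ * (t⁻¹ * s * t) * t⁻¹ = s := by group
        rwa [e] at this
      · intro h
        have := key t s h
        simpa using this)
    ⟨π ⟨x, hNT hx⟩, ⟨⟨x, hNT hx⟩, hx, rfl⟩, fun h => hxK ((hπ _).mp h)⟩
  obtain ⟨y, hy, rfl⟩ := hw
  refine ⟨y, hy, fun h => hw1 ((hπ y).mpr h), ?_, ?_⟩
  · rw [← map_mul] at hw2
    exact (hπ _).mp hw2
  · intro t ht
    have h1 := hwc (π ⟨t, ht⟩) (Subgroup.mem_top _)
    have h2 : π (⟨t, ht⟩ * y * ⟨t, ht⟩⁻¹ * y⁻¹) = 1 := by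
      rw [map_mul, map_mul, map_mul, map_inv, map_inv, ← h1]
      group
    exact (hπ _).mp h2

/-- the intersection of the conjugates of `P` under `T` -/
def core (T P : Subgroup G) : Subgroup G where
  carrier := {x | ∀ t ∈ T, t * x * t⁻¹ ∈ P}
  one_mem' := fun t _ => by simp
  mul_mem' := by
    intro a b ha hb t ht
    have := mul_mem (ha t ht) (hb t ht)
    have e : t * a * t⁻¹ * (t * b * t⁻¹) = t * (a * b) * t⁻¹ := by group
    rwa [e] at this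
  inv_mem' := by
    intro a ha t ht
    have := inv_mem (ha t ht)
    have e : (t * a * t⁻¹)⁻¹ = t * a⁻¹ * t⁻¹ := by group
    rwa [e] at this

theorem mem_core {T P : Subgroup G} {x : G} : x ∈ core T P ↔ ∀ t ∈ T, t * x * t⁻¹ ∈ P := Iff.rfl

theorem core_le {T P : Subgroup G} : core T P ≤ P := by
  intro x hx
  have := hx 1 (one_mem _)
  simpa using this

theorem cj_core {T P : Subgroup G} : ∀ t ∈ T, cj t (core T P) = core T P := by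
  have key : ∀ t ∈ T, ∀ x ∈ core T P, t * x * t⁻¹ ∈ core T P := by
    intro t ht x hx s hs
    have := hx (s * t) (mul_mem hs ht)
    have e : s * t * x * (s * t)⁻¹ = s * (t * x * t⁻¹) * s⁻¹ := by group
    rwa [e] at this
  intro t ht
  ext x
  rw [mem_cj]
  constructor
  · intro h
    have := key t ht _ h
    have e : t * (t⁻¹ * x * t) * t⁻¹ = x := by group
    rwa [e] at this
  · intro h
    have := key t⁻¹ (inv_mem ht) _ h
    rwa [inv_inv] at this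

section
variable {𝓒 : Set (Set (Subgroup G))} {Q : Subgroup G}

/-- a `Q`-invariant Sylow 2-subgroup `S` of the member `A` -/
structure Sit (𝓒 : Set (Set (Subgroup G))) (Q : Subgroup G) (c : Set (Subgroup G)) (A S : Subgroup G) : Prop where
  hc : c ∈ 𝓒
  hQc : Q ≤ Nm c
  hA : A ∈ c
  syl : IsSyl S A
  inv : ∀ q ∈ Q, cj q S = S

theorem exists_sit [Finite G] (C : ECfg 𝓒 Q) {c : Set (Subgroup G)} (hc : c ∈ 𝓒) (hQc : Q ≤ Nm c)
    {A : Subgroup G} (hA : A ∈ c) : ∃ S, Sit 𝓒 Q c A S := by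
  obtain ⟨P, hPA, hP, hPn, hPc⟩ := exists_inv_syl C.pg (fun q hq => hQc hq A hA)
  exact ⟨P, hc, hQc, hA, ⟨hPA, hP, hPc⟩, hPn⟩

namespace Sit

variable {c : Set (Subgroup G)} {A S : Subgroup G}

/-- the 2-group `S Q` -/
def T (s : Sit 𝓒 Q c A S) : Subgroup G := mulSub S Q s.inv

theorem T_two [Finite G] (s : Sit 𝓒 Q c A S) (C : ECfg 𝓒 Q) : IsPGroup 2 s.T :=
  isPGroup_mulSub (h := s.inv) s.syl.2.1 C.pg

theorem S_le_T (s : Sit 𝓒 Q c A S) : S ≤ s.T := le_mulSub_left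

theorem Q_le_T (s : Sit 𝓒 Q c A S) : Q ≤ s.T := le_mulSub_right

theorem cj_S (s : Sit 𝓒 Q c A S) : ∀ t ∈ s.T, cj t S = S := by
  rintro _ ⟨a, ha, q, hq, rfl⟩
  exact cj_mul_eq (cj_eq_of_mem ha) (s.inv q hq)

theorem inf_le [Finite G] (s : Sit 𝓒 Q c A S) (C : ECfg 𝓒 Q) : Q ⊓ A ≤ S := by
  have h : ∀ w ∈ Q ⊓ A, cj w S = S := fun w hw => s.inv w (Subgroup.mem_inf.mp hw).1
  have hT := isPGroup_mulSub (h := h) s.syl.2.1 (C.pg.to_le inf_le_left)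
  have h1 := s.syl.eq (mulSub_le s.syl.1 inf_le_right) hT le_mulSub_left
  rw [← h1]
  exact le_mulSub_right

/-- `S` is not in `Q` -/
theorem not_le [Finite G] (s : Sit 𝓒 Q c A S) (F : EFam3 𝓒) (C : ECfg 𝓒 Q) : ¬ S ≤ Q ⊓ A := by
  intro h
  obtain ⟨z, hz, hz2, hz1, hzc⟩ := F.ec c s.hc A s.hA
  refine syl_not_comm (qs_perfect (F.qs c s.hc A s.hA)) s.syl hz hz2 hz1 hzc ?_
  intro x hx y hy
  exact inf_abelian F C s.hc s.hQc s.hA x (h hx) y (h hy)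

/-- **the key point**: an element `y` outside `Q`, with `[T, y] ≤ K ≤ Q`, `y² ∈ K` is a witness -/
theorem wit_of (s : Sit 𝓒 Q c A S) {K : Subgroup G} (hK : K ≤ Q) {y : G} (hyA : y ∈ A) (hyQ : y ∉ Q) (hy2 : y * y ∈ K)
    (hyT : ∀ t ∈ s.T, t * y * t⁻¹ * y⁻¹ ∈ K) : Wit Q A y := by
  have key : ∀ q ∈ Q, y * q * y⁻¹ ∈ Q := by
    intro q hq
    have h1 := hK (hyT q⁻¹ (inv_mem (s.Q_le_T hq)))
    have h2 := mul_mem hq h1
    have e : q * (q⁻¹ * y * q⁻¹⁻¹ * y⁻¹) = y * q * y⁻¹ := by group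
    rwa [e] at h2
  refine ⟨hyA, ?_, hyQ, hK hy2⟩
  refine Subgroup.ext fun x => ?_
  rw [mem_cj]
  constructor
  · intro h
    have := key _ h
    have e : y * (y⁻¹ * x * y) * y⁻¹ = x := by group
    rwa [e] at this
  · intro h
    have h1 := key _ h
    have h2 := mul_mem (mul_mem (inv_mem (hK hy2)) h1) (hK hy2)
    have e : (y * y)⁻¹ * (y * x * y⁻¹) * (y * y) = y⁻¹ * x * y := by group
    rwa [e] at h2

/-- `Q ∩ A` is normal in `S Q` -/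
theorem cj_inf_A [Finite G] (s : Sit 𝓒 Q c A S) (F : EFam3 𝓒) (C : ECfg 𝓒 Q) : ∀ t ∈ s.T, cj t (Q ⊓ A) = Q ⊓ A := by
  have hKP : core s.T (Q ⊓ A) ≤ Q ⊓ A := core_le
  obtain ⟨y, hy, hyK, hy2, hyT⟩ := exists_mod (K := core s.T (Q ⊓ A)) (s.T_two C) s.S_le_T
    (hKP.trans (s.inf_le C)) s.cj_S cj_core (fun h => s.not_le F C (h.trans hKP))
  have hyA : y ∈ A := s.syl.1 hy
  have hyQ : y ∉ Q := by
    intro hyQ
    apply hyK
    intro t ht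
    have h1 := hKP (hyT t ht)
    have h2 := mul_mem h1 (Subgroup.mem_inf.mpr ⟨hyQ, hyA⟩)
    have e : t * y * t⁻¹ * y⁻¹ * y = t * y * t⁻¹ := by group
    rwa [e] at h2
  have w := s.wit_of (hKP.trans inf_le_left) hyA hyQ hy2 hyT
  obtain ⟨d, hd, hQd, hdc⟩ := C.other c
  obtain ⟨M, hM⟩ := F.exists_mem hd
  have hle : Q ⊓ A ≤ core s.T (Q ⊓ A) := by
    intro a ha
    obtain ⟨b, hb, hba⟩ := surj F C s.hc hd (Ne.symm hdc) s.hQc hQd s.hA hM w (Subgroup.mem_inf.mp ha).1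
      (Subgroup.mem_inf.mp ha).2
    have hbT : b⁻¹ ∈ s.T := inv_mem (s.Q_le_T (mem_QC.mp hb).1)
    have h1 := hyT _ hbT
    have e : b⁻¹ * y * b⁻¹⁻¹ * y⁻¹ = b⁻¹ * (y * b * y⁻¹) := by group
    rw [e, hba] at h1
    exact h1
  have heq : core s.T (Q ⊓ A) = Q ⊓ A := le_antisymm hKP hle
  intro t ht
  rw [← heq]
  exact cj_core t ht

/-- an element `y` of a normal subgroup `N > Q ∩ A` of `S Q` -/
theorem exists_y [Finite G] (s : Sit 𝓒 Q c A S) (F : EFam3 𝓒) (C : ECfg 𝓒 Q) {N : Subgroup G} (hNS : N ≤ S)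
    (hPN : Q ⊓ A ≤ N) (hn : ∀ t ∈ s.T, cj t N = N) (hne : ¬ N ≤ Q ⊓ A) :
    ∃ y ∈ N, y ∉ Q ⊓ A ∧ y * y ∈ Q ⊓ A ∧ Wit Q A y := by
  obtain ⟨y, hy, hyK, hy2, hyT⟩ := exists_mod (K := Q ⊓ A) (s.T_two C) (hNS.trans s.S_le_T)
    hPN hn (s.cj_inf_A F C) hne
  have hyA : y ∈ A := s.syl.1 (hNS hy)
  exact ⟨y, hy, hyK, hy2, s.wit_of inf_le_left hyA (fun h => hyK (Subgroup.mem_inf.mpr ⟨h, hyA⟩)) hy2 hyT⟩

/-- if `Q ∩ A` is not elementary it is self-centralising in `S` -/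
theorem self [Finite G] (s : Sit 𝓒 Q c A S) (F : EFam3 𝓒) (C : ECfg 𝓒 Q) {a₀ : G} (ha₀ : a₀ ∈ Q ⊓ A)
    (ha₀2 : a₀ * a₀ ≠ 1) : ∀ x ∈ S, (∀ a ∈ Q ⊓ A, x * a = a * x) → x ∈ Q ⊓ A := by
  let N : Subgroup G := S ⊓ Subgroup.centralizer ((Q ⊓ A : Subgroup G) : Set G)
  have hN : ∀ x, x ∈ N ↔ x ∈ S ∧ ∀ a ∈ Q ⊓ A, x * a = a * x := by
    intro x
    rw [Subgroup.mem_inf, Subgroup.mem_centralizer_iff]
    exact and_congr_right fun _ => forall₂_congr fun _ _ => eq_comm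
  by_contra hcon
  push Not at hcon
  obtain ⟨x, hx, hxc, hxP⟩ := hcon
  obtain ⟨y, hy, hyP, hy2, w⟩ := s.exists_y F C (N := N) inf_le_left (by
    intro x hx
    exact (hN x).mpr ⟨s.inf_le C hx, inf_abelian F C s.hc s.hQc s.hA x hx⟩) (by
    have key : ∀ t ∈ s.T, ∀ x ∈ N, t * x * t⁻¹ ∈ N := by
      intro t ht x hx
      rw [hN] at hx ⊢
      refine ⟨conj_mem_of_cj (s.cj_S t ht) hx.1, fun a ha => ?_⟩
      have h1 : t⁻¹ * a * t ∈ Q ⊓ A := by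
        have := conj_mem_of_cj (s.cj_inf_A F C _ (inv_mem ht)) ha
        rwa [inv_inv] at this
      have h2 := hx.2 _ h1
      calc t * x * t⁻¹ * a = t * (x * (t⁻¹ * a * t)) * t⁻¹ := by group
        _ = t * ((t⁻¹ * a * t) * x) * t⁻¹ := by rw [h2]
        _ = a * (t * x * t⁻¹) := by group
    intro t ht
    ext x
    rw [mem_cj]
    constructor
    · intro h
      have := key t ht _ h
      have e : t * (t⁻¹ * x * t) * t⁻¹ = x := by group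
      rwa [e] at this
    · intro h
      have := key t⁻¹ (inv_mem ht) _ h
      rwa [inv_inv] at this) (fun h => hxP (h ((hN x).mpr ⟨hx, hxc⟩)))
  have h1 := inverts F C s.hc s.hQc s.hA w (Subgroup.mem_inf.mp ha₀).1 (Subgroup.mem_inf.mp ha₀).2
  have h2 := ((hN y).mp hy).2 a₀ ha₀
  apply ha₀2
  have h3 : a₀ = a₀⁻¹ := by
    rw [← h1, h2]; group
  calc a₀ * a₀ = a₀ * a₀⁻¹ := by rw [← h3]
    _ = 1 := mul_inv_cancel _

/-- the involutions of `S` are not all equal -/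
theorem not_uniq [Finite G] (s : Sit 𝓒 Q c A S) (F : EFam3 𝓒) (C : ECfg 𝓒 Q)
    (h : ∀ x ∈ S, ∀ y ∈ S, x * x = 1 → x ≠ 1 → y * y = 1 → y ≠ 1 → x = y) : False := by
  obtain ⟨z, hz, hz1, hzQ⟩ := C.inv c s.hc s.hQc
  have hzP := Zc_le_mem F C s.hc s.hQc s.hA (Subgroup.mem_inf.mpr ⟨hzQ, hz⟩)
  obtain ⟨a, ha, ha2, ha1, haz⟩ := F.rk c s.hc A s.hA z
  obtain ⟨k, hk, hkS⟩ := s.syl.2.2 (Subgroup.zpowers a) (by rw [Subgroup.zpowers_le]; exact ha)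
    (isPGroup_of_sq fun w hw => by
      obtain ⟨m, rfl⟩ := Subgroup.mem_zpowers_iff.mp hw
      have h2 : a ^ (2 : ℤ) = 1 := by rw [zpow_ofNat, pow_two]; exact ha2
      rw [← zpow_add, ← two_mul, zpow_mul, h2, one_zpow])
  have h1 : k * a * k⁻¹ ∈ S := hkS (conj_mem_cj (Subgroup.mem_zpowers a))
  have h2 := h _ h1 z (s.inf_le C hzP) (by
    calc k * a * k⁻¹ * (k * a * k⁻¹) = k * (a * a) * k⁻¹ := by group
      _ = 1 := by rw [ha2]; group) (fun e => ha1 (by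
    calc a = k⁻¹ * (k * a * k⁻¹) * k := by group
      _ = 1 := by rw [e]; group)) (Zc_sq hz) hz1
  apply haz
  have h3 := hz.2.2 A s.hA k hk
  calc a = k⁻¹ * (k * a * k⁻¹) * k := by group
    _ = k⁻¹ * (z * k) := by rw [h2]; group
    _ = z := by rw [h3]; group

/-- **(alpha)**: `Q ∩ A` is not central -/
theorem not_central [Finite G] (s : Sit 𝓒 Q c A S) (F : EFam3 𝓒) (C : ECfg 𝓒 Q) (h : Q ⊓ A ≤ Zc c) : False := by
  obtain ⟨d, hd, hQd, hdc⟩ := C.other c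
  obtain ⟨M, hM⟩ := F.exists_mem hd
  obtain ⟨A', hA', hne⟩ := F.two c s.hc A
  have hB : ∀ b ∈ Q ⊓ Zc d, b ∈ QC Q M := by
    intro b hb
    rw [Subgroup.mem_inf] at hb
    exact mem_QC.mpr ⟨hb.1, hb.2.2.2 M hM⟩
  have heq : Q ⊓ A = Q ⊓ Zc c := le_antisymm (le_inf inf_le_left h) (Zc_le_mem F C s.hc s.hQc s.hA)
  have hAL : AL A (Q ⊓ Zc d) (Q ⊓ A) S := by
    refine ⟨qs_perfect (F.qs c s.hc A s.hA), ?_, ?_, ?_, ?_, ?_, s.inf_le C, ⟨s.syl.1, s.syl.2.1, ?_⟩, ?_, ?_, ?_, ?_⟩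
    · intro b hb; exact s.hQc (Subgroup.mem_inf.mp hb).1 A s.hA
    · intro b hb; exact Zc_sq (Subgroup.mem_inf.mp hb).2
    · intro z hz; exact Zc_sq (h hz)
    · intro z hz x hx; exact (h hz).2.2 A s.hA x hx
    · intro z hz b hb
      exact comm_of_two F.toEFam C.pg s.hc hd (Ne.symm hdc) s.hQc hQd hA' hM
        (inf_le_QC F.toEFam s.hc hA' s.hA (Ne.symm hne) hz) (hB b hb)
    · intro R hR hR2; exact s.syl.card_le hR hR2
    · intro b hb; exact s.inv b (Subgroup.mem_inf.mp hb).1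
    · rw [heq, card_Zc_inf F C s.hc hd (Ne.symm hdc) s.hQc hQd]
    · intro b hb hb1 x hx hxb
      exact mem_of_comm F C s.hc hd (Ne.symm hdc) s.hQc hQd s.hA hM s.syl.1 s.syl.2.1 s.inv hx (hB b hb) hb1 hxb.symm
    · intro b hb hbA
      exact tri_QC F.toEFam C.pg s.hc hd (Ne.symm hdc) s.hA hM b (hB b hb) hbA
  obtain ⟨b, hb, hb1, hbQ⟩ := C.inv d hd hQd
  exact s.not_uniq F C (alpha hAL ⟨b, Subgroup.mem_inf.mpr ⟨hbQ, hb⟩, hb1⟩)

/-- **(beta1)**: `Q ∩ A` is elementary abelian -/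
theorem elem [Finite G] (s : Sit 𝓒 Q c A S) (F : EFam3 𝓒) (C : ECfg 𝓒 Q) : ∀ a ∈ Q ⊓ A, a * a = 1 := by
  by_contra hcon
  push Not at hcon
  obtain ⟨a₀, ha₀, ha₀2⟩ := hcon
  obtain ⟨y, hy, hyP, hy2, w⟩ := s.exists_y F C (N := S) le_rfl (s.inf_le C) s.cj_S (s.not_le F C)
  obtain ⟨d, hd, hQd, hdc⟩ := C.other c
  obtain ⟨M, hM⟩ := F.exists_mem hd
  obtain ⟨A', hA', hne⟩ := F.two c s.hc A
  have hRA : ∀ x ∈ QC Q M, ∀ a ∈ Q ⊓ A, x * a = a * x := fun x hx a ha =>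
    (comm_of_two F.toEFam C.pg s.hc hd (Ne.symm hdc) s.hQc hQd hA' hM
      (inf_le_QC F.toEFam s.hc hA' s.hA (Ne.symm hne) ha) hx).symm
  have hB : BetaOne.B1 A S (Q ⊓ A) (QC Q M) y := by
    refine ⟨F.qs c s.hc A s.hA, s.syl, s.inf_le C, ?_, inf_abelian F C s.hc s.hQc s.hA, s.self F C ha₀ ha₀2, ?_, ?_,
      hRA, ?_, hy, hyP, hy2, ?_, ?_⟩
    · intro x hx; exact s.cj_inf_A F C x (s.S_le_T hx)
    · intro x hx; exact s.hQc (mem_QC.mp hx).1 A s.hA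
    · intro x hx; exact s.inv x (mem_QC.mp hx).1
    · intro x hx hx1 t ht hxt
      exact mem_of_comm F C s.hc hd (Ne.symm hdc) s.hQc hQd s.hA hM s.syl.1 s.syl.2.1 s.inv ht hx hx1 hxt
    · intro a ha
      exact inverts F C s.hc s.hQc s.hA w (Subgroup.mem_inf.mp ha).1 (Subgroup.mem_inf.mp ha).2
    · intro a ha
      obtain ⟨b, hb, hba⟩ := surj F C s.hc hd (Ne.symm hdc) s.hQc hQd s.hA hM (Wit.inv w) (Subgroup.mem_inf.mp ha).1
        (Subgroup.mem_inf.mp ha).2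
      refine ⟨b, hb, ?_⟩
      have h1 := hRA b hb a ha
      rw [inv_inv] at hba
      calc b * y * b⁻¹ = y * (b * (b⁻¹ * (y⁻¹ * b * y)) * b⁻¹) := by group
        _ = y * (b * a * b⁻¹) := by rw [hba]
        _ = y * a := by rw [h1]; group
  obtain ⟨z, hz, hz1, hzQ⟩ := C.inv c s.hc s.hQc
  have hzP := Zc_le_mem F C s.hc s.hQc s.hA (Subgroup.mem_inf.mpr ⟨hzQ, hz⟩)
  refine s.not_uniq F C ?_
  intro x hx x' hx' hx2 hx1 hx'2 hx'1
  exact BetaOne.beta_one hB ⟨z, s.inf_le C hzP, hz1, hz.2.2 A s.hA⟩ hx hx2 hx1 hx' hx'2 hx'1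

end Sit

/-- all groups `Q ∩ A` are elementary abelian -/
theorem el [Finite G] (F : EFam3 𝓒) (C : ECfg 𝓒 Q) : ∀ c ∈ 𝓒, Q ≤ Nm c → ∀ A ∈ c, ∀ x ∈ Q, x ∈ A → x * x = 1 := by
  intro c hc hQc A hA x hx hxA
  obtain ⟨S, s⟩ := exists_sit C hc hQc hA
  exact s.elem F C x (Subgroup.mem_inf.mpr ⟨hx, hxA⟩)

/-- no group `Q ∩ A` is central -/
theorem nz [Finite G] (F : EFam3 𝓒) (C : ECfg 𝓒 Q) : ∀ c ∈ 𝓒, Q ≤ Nm c → ∀ A ∈ c, ∃ x ∈ Q, x ∈ A ∧ x ∉ Zc c := by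
  intro c hc hQc A hA
  obtain ⟨S, s⟩ := exists_sit C hc hQc hA
  by_contra hcon
  push Not at hcon
  exact s.not_central F C fun x hx => hcon x (Subgroup.mem_inf.mp hx).1 (Subgroup.mem_inf.mp hx).2

/-- at most two members in all classes -/
theorem le2 [Finite G] (F : EFam3 𝓒) (C : ECfg 𝓒 Q) : ∀ Λ ∈ 𝓒, AtMostTwo Λ := by
  obtain ⟨c, hc, -, -, -, hQc, -⟩ := C.ex
  have h : AtMostTwo c := by
    by_contra hcon
    obtain ⟨A, hA⟩ := F.exists_mem hc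
    obtain ⟨A', hA', hne⟩ := F.two c hc A
    obtain ⟨B, hB, hBA, hBA'⟩ := three_of_not hcon A A'
    have h1 := inf_eq_Zc_of_three F C hc hQc hA hA' hB hne hBA hBA'
    obtain ⟨x, hx, hxA, hxZ⟩ := nz F C c hc hQc A hA
    have h2 : x ∈ Q ⊓ Zc c := by rw [← h1]; exact Subgroup.mem_inf.mpr ⟨hx, hxA⟩
    exact hxZ (Subgroup.mem_inf.mp h2).2
  intro Λ hΛ
  obtain ⟨g, rfl⟩ := F.toEFam.trc hc hΛ
  exact atMostTwo_cjs g h

/-- **the split**: only (beta2) is left -/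
theorem kill_of [Finite G] (F : EFam3 𝓒) (C : ECfg 𝓒 Q)
    (hbeta2 : (∀ Λ ∈ 𝓒, AtMostTwo Λ) → (∀ c ∈ 𝓒, Q ≤ Nm c → ∀ A ∈ c, ∀ x ∈ Q, x ∈ A → x * x = 1) →
      (∀ c ∈ 𝓒, Q ≤ Nm c → ∀ A ∈ c, ∃ x ∈ Q, x ∈ A ∧ x ∉ Zc c) → False) : False :=
  hbeta2 (le2 F C) (el F C) (nz F C)

end

end Cfsg.Agent.OddHalf.D3.BEven.Split
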