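import Cfsg.Agent.OddHalf.D3.BEven.BetaTwo
import Cfsg.Agent.OddHalf.D3.BEven.Split

/-!
# ODD D3 (iii), even centre: the configuration does not exist
-/

set_option autoImplicit false

namespace Cfsg.Agent.OddHalf.D3.BEven

open Cfsg.Agent.OddHalf.D3.EvMax (EFam3 ECfg)

universe u

/-- **kill** -/
theorem kill {G : Type u} [Group G] [Finite G] {𝓒 : Set (Set (Subgroup G))} {Q : Subgroup G} (F : EFam3 𝓒)
    (C : ECfg 𝓒 Q) : False :=
  Split.kill_of F C fun h2 el nz => beta2_false' F C h2 el nz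

end Cfsg.Agent.OddHalf.D3.BEven
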