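import Cfsg.Agent.OddHalf.D3.BEven.Frame

/-!
# ODD D3 (iii), even centre, `n = 2`, (mv)-world, (beta2): the swapping elements (text of helper159, bb ODD 10707)
-/

set_option autoImplicit false

namespace Cfsg.Agent.OddHalf.D3.BEven

open Cfsg Cfsg.Agent.OddHalf.D3.ThreeDefs Cfsg.Agent.OddHalf.D3.ThreeFam Cfsg.Agent.OddHalf.D3.ThreeMain
open Cfsg.Agent.OddHalf.D3.Swap Cfsg.Agent.OddHalf.D3.TwoCfg Cfsg.Agent.OddHalf.D3.TwoNF
open Cfsg.Agent.OddHalf.D3.EvDefs Cfsg.Agent.OddHalf.D3.TwoAct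
open Cfsg.Agent.OddHalf.D3.TwoBB (NQ mem_NQ XQ Ends JQ mem_JQ mk_eq_one mk_eq_mk wit_of_mem)
open scoped commutatorElement

universe u

variable {G : Type u} [Group G]

/-- (beta2) -/
structure B2 (𝓒 : Set (Set (Subgroup G))) (Q : Subgroup G) : Prop extends MW 𝓒 Q where
  el : ∀ c ∈ 𝓒, Q ≤ Nm c → ∀ A ∈ c, ∀ x ∈ Q, x ∈ A → x * x = 1
  nz : ∀ c ∈ 𝓒, Q ≤ Nm c → ∀ A ∈ c, ∃ x ∈ Q, x ∈ A ∧ x ∉ Zc c

variable {𝓒 : Set (Set (Subgroup G))} {Q : Subgroup G}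

/-- (a) -/
theorem eq_one_of_prod [Finite G] (F : EFam 𝓒) (C : B2 𝓒 Q) {c d : Set (Subgroup G)} (hc : c ∈ 𝓒) (hd : d ∈ 𝓒)
    (hcd : c ≠ d) (hQc : Q ≤ Nm c) (hQd : Q ≤ Nm d) {A A' M : Subgroup G} (hA : A ∈ c) (hA' : A' ∈ c) (hne : A' ≠ A)
    (hM : M ∈ d) {a b : G} (ha : a ∈ Q) (haA : a ∈ A) (hb : b ∈ Q) (hbA : b ∈ A') (hab : ∀ m ∈ M, a * b * m = m * (a * b)) :
    a * b = 1 := by
  by_contra hab1
  have hcomm : ∀ a ∈ A, ∀ b ∈ A', a * b = b * a := F.comm c hc A hA A' hA' (Ne.symm hne)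
  have ha2 := C.el c hc hQc A hA a ha haA
  have hb2 := C.el c hc hQc A' hA' b hb hbA
  have h2 : a * b * (a * b) = 1 := by
    calc a * b * (a * b) = a * (b * a) * b := by group
      _ = a * (a * b) * b := by rw [hcomm a haA b hbA]
      _ = (a * a) * (b * b) := by group
      _ = 1 := by rw [ha2, hb2, one_mul]
  obtain ⟨s, w⟩ := C.wit c hc hQc A hA
  have h1 := C.inverts F hc hQc hA w ha haA
  rw [inv_of_sq ha2] at h1
  have h3 : s * a = a * s := mul_inv_eq_iff_eq_mul.mp h1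
  have h4 := hcomm s w.mem b hbA
  refine C.mv c hc d hd hcd hQc hQd A hA s w (F.cen hd (u := a * b) ⟨h2, hab1, M, hM, hab⟩ ?_)
  rw [mul_assoc, ← h4, ← mul_assoc, ← h3, mul_assoc]

/-- (a), for elements of `M` -/
theorem eq_one_of_prod' [Finite G] (F : EFam 𝓒) (C : B2 𝓒 Q) {c d : Set (Subgroup G)} (hc : c ∈ 𝓒) (hd : d ∈ 𝓒)
    (hcd : c ≠ d) (hQc : Q ≤ Nm c) (hQd : Q ≤ Nm d) {A A' M : Subgroup G} (hA : A ∈ c) (hA' : A' ∈ c) (hne : A' ≠ A)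
    (hM : M ∈ d) {a b : G} (ha : a ∈ Q) (haA : a ∈ A) (hb : b ∈ Q) (hbA : b ∈ A') (hab : a * b ∈ M) : a * b = 1 := by
  obtain ⟨M', hM', hne'⟩ := F.two d hd M
  exact eq_one_of_prod F C hc hd hcd hQc hQd hA hA' hne hM' ha haA hb hbA
    fun m hm => (F.comm d hd M hM M' hM' (Ne.symm hne') _ hab m hm)

/-- **(KEY)** -/
theorem key [Finite G] (F : EFam 𝓒) (C : B2 𝓒 Q) {c : Set (Subgroup G)} (hc : c ∈ 𝓒) (hQc : Q ≤ Nm c)
    {A A' : Subgroup G} (hA : A ∈ c) (hA' : A' ∈ c) (hne : A' ≠ A) {s q : G} (w : Wit Q A s) (hq : q ∈ Q)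
    (h : s * q ∈ A') : False := by
  obtain ⟨d, hd, hQd, hdc⟩ := C.other c
  obtain ⟨M, hM, -⟩ := F.two d hd ⊥
  have hQA : ∀ q ∈ Q, cj q A = A := fun q hq => hQc hq A hA
  have hQA' : ∀ q ∈ Q, cj q A' = A' := fun q hq => hQc hq A' hA'
  -- `s q` is a witness for `A'`
  have w' : Wit Q A' (s * q) := by
    refine ⟨h, cj_mul_eq w.norm (cj_eq_of_mem hq), fun h1 => w.not ?_, ?_⟩
    · have : s = s * q * q⁻¹ := by group
      rw [this]; exact mul_mem h1 (inv_mem hq)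
    · have h1 : s * q * s⁻¹ ∈ Q := conj_mem_of_cj w.norm hq
      have : s * q * (s * q) = (s * q * s⁻¹) * (s * s) * q := by group
      rw [this]
      exact mul_mem (mul_mem h1 w.sq) hq
  have key : ∀ x ∈ Q, x ∈ M → x⁻¹ * (s * x * s⁻¹) ∈ A' := by
    intro x hx hxM
    set y := q * x * q⁻¹ with hy
    have hyQ : y ∈ Q := mul_mem (mul_mem hq hx) (inv_mem hq)
    have hyM : y ∈ M := conj_mem_of_cj (hQd hq M hM) hxM
    have h1 := r_mem hQA' w' (le_refl Q) hx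
    have h2 := r_mem hQA w (le_refl Q) hyQ
    rw [Subgroup.mem_inf] at h1 h2
    have e : (x⁻¹ * ((s * q) * x * (s * q)⁻¹)) * (y⁻¹ * (s * y * s⁻¹))⁻¹ = x⁻¹ * y := by
      rw [hy]; group
    have h3 := eq_one_of_prod' F C hc hd (Ne.symm hdc) hQc hQd hA' hA (Ne.symm hne) hM h1.1 h1.2
      (inv_mem h2.1) (inv_mem h2.2) (by rw [e]; exact mul_mem (inv_mem hxM) hyM)
    have h4 : x⁻¹ * y = 1 := by rw [← e]; exact h3
    have h5 : x = y := inv_mul_eq_one.mp h4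
    rw [← h5] at h3
    have h6 := mul_inv_eq_one.mp h3
    rw [← h6]
    exact h1.2
  obtain ⟨x, hx, hxA, hxn⟩ := C.nz c hc hQc A hA
  obtain ⟨b, hb, hbx⟩ := (C.rp' F hc hd (Ne.symm hdc) hQc hQd hA hM w).surj hQA w
    (C.card_eq F hc hd hQc hQd hA hM).le hx hxA
  rw [Subgroup.mem_inf] at hb
  have h1 := key b hb.1 hb.2
  rw [hbx] at h1
  exact hxn ((C.mem_D F hc hQc hA hA' hne hx).mp ⟨hxA, h1⟩)

/-! ### The action -/

section act

/-- the action of `N_G(Q)` -/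
def actE (F : EFam 𝓒) (g : NQ Q) (A : Ends 𝓒 Q) : Ends 𝓒 Q :=
  ⟨cj (g : G) A.1, by
    obtain ⟨c, hc, hQc, hA⟩ := A.2
    exact ⟨cjs g c, F.conj g c hc, le_Nm_cjs g.2 hQc, cj_mem_cjs hA⟩⟩

/-- the permutation representation of `N_G(Q)` -/
def rho0 (F : EFam 𝓒) : NQ Q →* Equiv.Perm (Ends 𝓒 Q) where
  toFun g := ⟨actE F g, actE F g⁻¹, fun A => Subtype.ext (cj_inv_cj _ _), fun A => Subtype.ext (cj_cj_inv _ _)⟩
  map_one' := Equiv.ext fun A => Subtype.ext (cj_one _)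
  map_mul' := fun a b => Equiv.ext fun A => Subtype.ext (cj_mul _ _ _)

/-- the permutation representation of `N_G(Q) / Q` -/
def rho (F : EFam 𝓒) : XQ Q →* Equiv.Perm (Ends 𝓒 Q) :=
  QuotientGroup.lift (Q.subgroupOf (NQ Q)) (rho0 F) (by
    intro x hx
    refine Equiv.ext fun A => Subtype.ext ?_
    obtain ⟨c, hc, hQc, hA⟩ := A.2
    exact hQc hx A.1 hA)

theorem exists_partner (F : EFam 𝓒) (A : Ends 𝓒 Q) :
    ∃ B : Ends 𝓒 Q, B.1 ≠ A.1 ∧ ∃ c ∈ 𝓒, Q ≤ Nm c ∧ A.1 ∈ c ∧ B.1 ∈ c := by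
  obtain ⟨c, hc, hQc, hA⟩ := A.2
  obtain ⟨B, hB, hne⟩ := F.two c hc A.1
  exact ⟨⟨B, c, hc, hQc, hB⟩, hne, c, hc, hQc, hA, hB⟩

/-- the partner -/
noncomputable def partner (F : EFam 𝓒) (A : Ends 𝓒 Q) : Ends 𝓒 Q := (exists_partner F A).choose

theorem partner_ne (F : EFam 𝓒) (A : Ends 𝓒 Q) : (partner F A).1 ≠ A.1 := (exists_partner F A).choose_spec.1

theorem partner_mem (F : EFam 𝓒) (A : Ends 𝓒 Q) : ∃ c ∈ 𝓒, Q ≤ Nm c ∧ A.1 ∈ c ∧ (partner F A).1 ∈ c :=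
  (exists_partner F A).choose_spec.2

theorem partner_eq (F : EF2 𝓒) {A B : Ends 𝓒 Q} (hne : B.1 ≠ A.1) {c : Set (Subgroup G)} (hc : c ∈ 𝓒) (hA : A.1 ∈ c)
    (hB : B.1 ∈ c) : partner F.toEFam A = B := by
  obtain ⟨c', hc', hQc', hA', hP⟩ := partner_mem F.toEFam A
  have h1 := F.class_unique hc hc' hA hA'
  subst h1
  rcases F.le2 c hc A.1 hA B.1 hB _ hP with h | h | h
  · exact absurd h.symm hne
  · exact absurd h.symm (partner_ne F.toEFam A)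
  · exact Subtype.ext h.symm

/-- different classes -/
theorem class_ne (F : EF2 𝓒) {α β : Ends 𝓒 Q} (h1 : β ≠ α) (h2 : β ≠ partner F.toEFam α) {c d : Set (Subgroup G)}
    (hc : c ∈ 𝓒) (hα : α.1 ∈ c) (hβ : β.1 ∈ d) : c ≠ d := by
  rintro rfl
  exact h2 (partner_eq F (fun h => h1 (Subtype.ext h)) hc hα hβ).symm

/-- no element of `J α ∩ J (σ α)` -/
theorem no_both [Finite G] (F : EF2 𝓒) (C : B2 𝓒 Q) {α : Ends 𝓒 Q} {t : XQ Q} (ht : t ∈ JQ Q α.1)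
    (ht' : t ∈ JQ Q (partner F.toEFam α).1) (ht2 : t * t = 1) : t = 1 := by
  by_contra ht1
  obtain ⟨s, w, hst⟩ := wit_of_mem ht ht2 ht1
  obtain ⟨s', hs', hst'⟩ := mem_JQ.mp ht'
  obtain ⟨c, hc, hQc, hα, hP⟩ := partner_mem F.toEFam α
  have h1 : (s : G)⁻¹ * s' ∈ Q := mk_eq_mk.mp (hst.trans hst'.symm)
  refine key F.toEFam C hc hQc hα hP (partner_ne F.toEFam α) w h1 ?_
  have e : (s : G) * ((s : G)⁻¹ * s') = s' := by group
  rw [e]; exact hs'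

/-- **the action** -/
noncomputable def act [Finite G] (F : EF2 𝓒) (C : B2 𝓒 Q) : Act (XQ Q) (Ends 𝓒 Q) where
  ρ := rho F.toEFam
  σ := partner F.toEFam
  σσ := by
    intro α
    obtain ⟨c, hc, hQc, hα, hP⟩ := partner_mem F.toEFam α
    exact partner_eq F (Ne.symm (partner_ne F.toEFam α)) hc hP hα
  σne := fun α h => partner_ne F.toEFam α (congrArg Subtype.val h)
  σeq := by
    intro x α
    obtain ⟨g, rfl⟩ := QuotientGroup.mk_surjective x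
    obtain ⟨c, hc, hQc, hα, hP⟩ := partner_mem F.toEFam α
    refine partner_eq F ?_ (F.conj g c hc) (cj_mem_cjs hα) (cj_mem_cjs hP)
    exact fun h => partner_ne F.toEFam α (cj_injective _ h)
  J := fun α => JQ Q α.1
  Jfix := by
    intro α t ht
    obtain ⟨s, hs, rfl⟩ := mem_JQ.mp ht
    exact Subtype.ext (cj_eq_of_mem hs)
  Jconj := by
    intro x α y hy
    obtain ⟨g, rfl⟩ := QuotientGroup.mk_surjective x
    obtain ⟨s, hs, rfl⟩ := mem_JQ.mp hy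
    refine mem_JQ.mpr ⟨g * s * g⁻¹, ?_, rfl⟩
    exact conj_mem_cj hs
  Jinv := by
    intro α
    obtain ⟨c, hc, hQc, hα⟩ := α.2
    obtain ⟨s, w⟩ := C.wit c hc hQc α.1 hα
    refine ⟨((⟨s, w.norm⟩ : NQ Q) : XQ Q), mem_JQ.mpr ⟨⟨s, w.norm⟩, w.mem, rfl⟩, ?_, ?_⟩
    · change (((⟨s, w.norm⟩ : NQ Q) * ⟨s, w.norm⟩ : NQ Q) : XQ Q) = 1
      rw [mk_eq_one]
      exact w.sq
    · intro h
      exact w.not (mk_eq_one.mp h)
  Jcomm := by
    intro α a ha b hb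
    obtain ⟨s, hs, rfl⟩ := mem_JQ.mp ha
    obtain ⟨t, ht, rfl⟩ := mem_JQ.mp hb
    obtain ⟨c, hc, hQc, hα, hP⟩ := partner_mem F.toEFam α
    change ((s * t : NQ Q) : XQ Q) = ((t * s : NQ Q) : XQ Q)
    congr 1
    exact Subtype.ext (F.comm c hc α.1 hα _ hP (Ne.symm (partner_ne F.toEFam α)) s hs t ht)
  Jtri := fun α t ht ht' ht2 => no_both F C ht ht' ht2
  A1 := by
    intro α β h1 h2 t ht2 hα hβ
    obtain ⟨g, rfl⟩ := QuotientGroup.mk_surjective t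
    obtain ⟨c, hc, hQc, hαc⟩ := α.2
    obtain ⟨d, hd, hQd, hβd⟩ := β.2
    have hcd := class_ne F h1 h2 hc hαc hβd
    have h3 : cj (g : G) α.1 = α.1 := congrArg Subtype.val hα
    have h4 : cj (g : G) β.1 = β.1 := congrArg Subtype.val hβ
    have h5 : ((g * g : NQ Q) : XQ Q) = 1 := ht2
    rw [mk_eq_one] at h5
    change ((g : NQ Q) : XQ Q) = 1
    rw [mk_eq_one]
    have hz := sq_pgroup C.pg h5
    have hn : ∀ w ∈ Subgroup.zpowers (g : G), cj w Q = Q := by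
      have : Subgroup.zpowers (g : G) ≤ NQ Q := by
        rw [Subgroup.zpowers_le]; exact g.2
      exact fun w hw => this hw
    have hg1 := mem_Nm_of_cj F hc hαc h3
    have hg2 := mem_Nm_of_cj F hd hβd h4
    have h6 := C.mx c hc d hd hcd hQc hQd (mulSub Q (Subgroup.zpowers (g : G)) hn) (isPGroup_mulSub C.pg hz)
      (mulSub_le hQc (by rw [Subgroup.zpowers_le]; exact hg1)) (mulSub_le hQd (by rw [Subgroup.zpowers_le]; exact hg2))
    exact (Subgroup.eq_of_le_of_card_ge le_mulSub_left h6).ge (le_mulSub_right (Subgroup.mem_zpowers _))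
  A6 := by
    intro α β a ha b hb ha2 ha1 hb2 hb1 hab
    have habc : a * b = b * a := by
      obtain ⟨s, hs, rfl⟩ := mem_JQ.mp ha
      obtain ⟨t, ht, rfl⟩ := mem_JQ.mp hb
      obtain ⟨c, hc, hQc, hα, hP⟩ := partner_mem F.toEFam α
      change ((s * t : NQ Q) : XQ Q) = ((t * s : NQ Q) : XQ Q)
      congr 1
      exact Subtype.ext (F.comm c hc α.1 hα _ hP (Ne.symm (partner_ne F.toEFam α)) s hs t ht)
    have hab2 : a * b * (a * b) = 1 := by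
      calc a * b * (a * b) = a * (b * a) * b := by group
        _ = a * (a * b) * b := by rw [habc]
        _ = (a * a) * (b * b) := by group
        _ = 1 := by rw [ha2, hb2, one_mul]
    have hab1 : a * b ≠ 1 := by
      intro h
      have h1 : a = b := by rw [eq_inv_of_mul_eq_one_left h, inv_of_sq hb2]
      subst h1
      exact ha1 (no_both F C ha hb ha2)
    obtain ⟨c, hc, hQc, hα, hP⟩ := partner_mem F.toEFam α
    by_cases h1 : β = α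
    · subst h1
      have h2 : b ∈ JQ Q β.1 := by
        have : b = a⁻¹ * (a * b) := by group
        rw [this]; exact mul_mem (inv_mem ha) hab
      exact hb1 (no_both F C h2 hb hb2)
    by_cases h2 : β = partner F.toEFam α
    · subst h2
      have h3 : a ∈ JQ Q (partner F.toEFam α).1 := by
        have : a = (a * b) * b⁻¹ := by group
        rw [this]; exact mul_mem hab (inv_mem hb)
      exact ha1 (no_both F C ha h3 ha2)
    · obtain ⟨d, hd, hQd, hβ⟩ := β.2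
      have hcd := class_ne F h1 h2 hc hα hβ
      obtain ⟨r, w, hr⟩ := wit_of_mem hab hab2 hab1
      obtain ⟨s, hs, rfl⟩ := mem_JQ.mp ha
      obtain ⟨t, ht, rfl⟩ := mem_JQ.mp hb
      have h3 : ((s * t : NQ Q) : G)⁻¹ * r ∈ Q := mk_eq_mk.mp hr.symm
      refine C.mv d hd c hc (Ne.symm hcd) hQd hQc β.1 hβ r w ?_
      have e : (r : G) = (s : G) * t * (((s * t : NQ Q) : G)⁻¹ * r) := by push_cast; group
      rw [e]
      exact mul_mem (mul_mem (F.mem_le_St hc hα hs) (F.mem_le_St hc hP ht)) (Nm_le_St c (hQc h3))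

/-- **The swapping elements.** -/
theorem exists_conf [Finite G] (F : EF2 𝓒) (C : B2 𝓒 Q) {c d : Set (Subgroup G)} (hc : c ∈ 𝓒) (hd : d ∈ 𝓒)
    (hcd : c ≠ d) (hQc : Q ≤ Nm c) (hQd : Q ≤ Nm d) :
    ∃ L1 ∈ c, ∃ L2 ∈ c, ∃ M1 ∈ d, ∃ M2 ∈ d, L2 ≠ L1 ∧ M2 ≠ M1 ∧
      ∃ g1 g2 h1 h2 : G, Wit Q L1 g1 ∧ Wit Q L2 g2 ∧ Wit Q M1 h1 ∧ Wit Q M2 h2 ∧
        cj (h1 * h2) L1 = L2 ∧ cj (g1 * g2) M1 = M2 := by
  obtain ⟨L1, hL1, -⟩ := F.two c hc ⊥
  obtain ⟨M1, hM1, -⟩ := F.two d hd ⊥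
  set A := act F C with hA
  let α : Ends 𝓒 Q := ⟨L1, c, hc, hQc, hL1⟩
  let β : Ends 𝓒 Q := ⟨M1, d, hd, hQd, hM1⟩
  have h1 : β ≠ α := by
    intro h
    have h3 : M1 = L1 := congrArg Subtype.val h
    subst h3
    exact hcd (F.class_unique hc hd hL1 hM1)
  obtain ⟨c', hc', hQc', hα, hP⟩ := partner_mem F.toEFam α
  have hcc : c' = c := F.class_unique hc' hc hα hL1
  subst hcc
  obtain ⟨d', hd', hQd', hβ, hP'⟩ := partner_mem F.toEFam β
  have hdd : d' = d := F.class_unique hd' hd hβ hM1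
  subst hdd
  have h2 : β ≠ A.σ α := by
    intro h
    have h3 : M1 = (partner F.toEFam α).1 := congrArg Subtype.val h
    rw [← h3] at hP
    exact hcd (F.class_unique hc hd hP hM1)
  obtain ⟨a, ha, ha2, ha1⟩ := A.Jinv α
  obtain ⟨b, hb, hb2, hb1⟩ := A.Jinv (A.σ α)
  obtain ⟨a', ha', ha2', ha1'⟩ := A.Jinv β
  obtain ⟨b', hb', hb2', hb1', e1, e2⟩ := A.main h1 h2 ha ha2 ha1 hb hb2 hb1 ha' ha2' ha1'
  obtain ⟨g1, w1, rfl⟩ := wit_of_mem ha ha2 ha1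
  obtain ⟨g2, w2, rfl⟩ := wit_of_mem hb hb2 hb1
  obtain ⟨k1, w3, rfl⟩ := wit_of_mem ha' ha2' ha1'
  obtain ⟨k2, w4, rfl⟩ := wit_of_mem hb' hb2' hb1'
  refine ⟨L1, hL1, (partner F.toEFam α).1, hP, M1, hM1, (partner F.toEFam β).1, hP',
    partner_ne F.toEFam α, partner_ne F.toEFam β, g1, g2, k1, k2, w1, w2, w3, w4, ?_, ?_⟩
  · exact congrArg Subtype.val e1
  · exact congrArg Subtype.val e2

end act

end Cfsg.Agent.OddHalf.D3.BEven
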