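import Cfsg.Agent.OddHalf.D3.BTwo.Grow
import Cfsg.Agent.OddHalf.D3.BEven.Conf

/-!
# ODD D3 (iii), even centre, `n = 2`, (mv)-world, (beta2): the abstract configuration (text of helper159, bb ODD 10707)

`L a i` (`a i : Bool`): the two members of the class `a`; `T`: maximal 2-subgroup normalising the four members;
`g a i ∈ L a i` normalises `T`. All groups `P a i = T ∩ L a i` are elementary, `D a = P a 0 ∩ P a 1 ≠ P a i`.
-/

set_option autoImplicit false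

namespace Cfsg.Agent.OddHalf.D3.BEven

open Cfsg.Agent.OddHalf.D3.ThreeDefs Cfsg.Agent.OddHalf.D3.ThreeFam Cfsg.Agent.OddHalf.D3.ThreeMain
  Cfsg.Agent.OddHalf.D3.ThreeEnd
open Cfsg.Agent.OddHalf.D3.BTwo (comm_mem comm_mem' conj_eq_comm_mul comm_eq_one comm_one_of exists_two exists_fix Gd
  comm_mul_of dbl mem_dbl bool_third dich)
open scoped commutatorElement

universe u

variable {G : Type u} [Group G]

/-- The configuration (beta2). -/
structure BE (L : Bool → Bool → Subgroup G) (T : Subgroup G) (g : Bool → Bool → G) : Prop where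
  comm : ∀ a i i', i ≠ i' → ∀ x ∈ L a i, ∀ y ∈ L a i', x * y = y * x
  inj : ∀ a i b k, L a i = L b k → a = b ∧ i = k
  dis : ∀ a i b k, a ≠ b → ∀ x ∈ T, x ∈ L a i → x ∈ L b k → x = 1
  fus : ∀ a i b k x y, x ∈ T → x ∈ L a i → x ≠ 1 → y * x * y⁻¹ ∈ L b k → ∀ i', ∃ k', cj y (L a i') = L b k'
  mem : ∀ S : Subgroup G, IsPGroup 2 S → T ≤ S → ∀ a i b k, a ≠ b → ∀ d ∈ S, d ∈ L a i → ∀ x ∈ T, x ∈ L b k →
    x ≠ 1 → d * x = x * d → d ∈ T
  two : IsPGroup 2 T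
  nrm : ∀ t ∈ T, ∀ a i, cj t (L a i) = L a i
  el : ∀ a i, ∀ x ∈ T, x ∈ L a i → x * x = 1
  nz : ∀ a i i', i ≠ i' → ∃ x ∈ T, x ∈ L a i ∧ x ∉ L a i'
  prod : ∀ a i i' b k, a ≠ b → i ≠ i' → ∀ x ∈ T, x ∈ L a i → ∀ y ∈ T, y ∈ L a i' → x * y ∈ L b k → x * y = 1
  gm : ∀ a i, g a i ∈ L a i
  gT : ∀ a i, cj (g a i) T = T
  gn : ∀ a i, g a i ∉ T
  gs : ∀ a i, g a i * g a i ∈ T
  sw : ∀ a b, a ≠ b → ∀ k k', k ≠ k' → ∀ i i', i ≠ i' → cj (g b k * g b k') (L a i) = L a i'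

namespace BE

variable {L : Bool → Bool → Subgroup G} {T : Subgroup G} {g : Bool → Bool → G}

/-- members of one class normalise each other -/
theorem cj_same (h : BE L T g) {a i : Bool} {d : G} (hd : d ∈ L a i) (i' : Bool) : cj d (L a i') = L a i' := by
  by_cases hi : i = i'
  · subst hi; exact cj_eq_of_mem hd
  · exact cj_eq_of_comm (h.comm a i i' hi d hd)

/-- the groups `P` of different classes commute -/
theorem comm_ne (h : BE L T g) {a b i k : Bool} (hab : a ≠ b) {x y : G} (hx : x ∈ T) (hxL : x ∈ L a i) (hy : y ∈ T)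
    (hyL : y ∈ L b k) : x * y = y * x := by
  apply comm_eq_one
  refine h.dis a i b k hab _ ?_ (comm_mem hxL (h.nrm y hy a i)) (comm_mem' hyL (h.nrm x hx b k))
  rw [commutatorElement_def]
  exact mul_mem (mul_mem (mul_mem hx hy) (inv_mem hx)) (inv_mem hy)

theorem comm_P (h : BE L T g) {a i : Bool} {x y : G} (hx : x ∈ T) (hxL : x ∈ L a i) (hy : y ∈ T)
    (hyL : y ∈ L a i) : x * y = y * x := by
  refine comm_of_sq (E := T ⊓ L a i) (fun z hz => ?_) ⟨hx, hxL⟩ ⟨hy, hyL⟩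
  exact h.el a i z hz.1 hz.2

/-- all the groups `P` commute -/
theorem cT (h : BE L T g) {a b i k : Bool} {x y : G} (hx : x ∈ T) (hxL : x ∈ L a i) (hy : y ∈ T)
    (hyL : y ∈ L b k) : x * y = y * x := by
  by_cases hab : a = b
  · subst hab
    by_cases hik : i = k
    · subst hik; exact h.comm_P hx hxL hy hyL
    · exact h.comm a i k hik x hxL y hyL
  · exact h.comm_ne hab hx hxL hy hyL

variable [Finite G]

theorem exS (h : BE L T g) (a i : Bool) : ∃ S : Subgroup G, IsPGroup 2 S ∧ T ≤ S ∧ g a i ∈ S :=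
  exists_two h.two (h.gT a i) (h.gs a i)

omit [Finite G] in
theorem g_conj (h : BE L T g) (a i : Bool) {x : G} (hx : x ∈ T) : g a i * x * (g a i)⁻¹ ∈ T :=
  conj_mem_of_cj (h.gT a i) hx

theorem gd (h : BE L T g) (a i b k : Bool) : ∃ S, Gd L T a i b k S (g a i) := by
  obtain ⟨S, hS, hTS, hgS⟩ := h.exS a i
  exact ⟨S, hS, hTS, hgS, h.gm a i, h.gn a i, fun x hx _ => h.g_conj a i hx, fun x hx _ => h.g_conj a i hx⟩

section gd
variable {a i b k : Bool} {S : Subgroup G} {d : G}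

omit [Finite G] in
theorem rT (_h : BE L T g) (D : Gd L T a i b k S d) {x : G} (hx : x ∈ T) (hxL : x ∈ L b k) : ⁅d, x⁆ ∈ T := by
  rw [commutatorElement_def]
  exact mul_mem (D.R x hx hxL) (inv_mem hx)

omit [Finite G] in
theorem rL (h : BE L T g) (D : Gd L T a i b k S d) {x : G} (hx : x ∈ T) : ⁅d, x⁆ ∈ L a i :=
  comm_mem D.dL (h.nrm x hx a i)

omit [Finite G] in
theorem rmul (h : BE L T g) (D : Gd L T a i b k S d) {x y : G} (hx : x ∈ T) (hxL : x ∈ L b k)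
    (hy : y ∈ T) (hyL : y ∈ L b k) : ⁅d, x * y⁆ = ⁅d, x⁆ * ⁅d, y⁆ :=
  comm_mul_of (h.cT hx hxL (h.rT D hy hyL) (h.rL D hy))

omit [Finite G] in
theorem rinj (h : BE L T g) (hab : a ≠ b) (D : Gd L T a i b k S d) {x : G} (hx : x ∈ T) (hxL : x ∈ L b k)
    (h1 : ⁅d, x⁆ = 1) : x = 1 := by
  by_contra hx1
  exact D.nT (h.mem S D.hS D.TS a i b k hab d D.dS D.dL x hx hxL hx1 (comm_eq_one h1))

/-- the homomorphism `⁅d, ·⁆ : P b k → P a i` -/
def hom (h : BE L T g) (D : Gd L T a i b k S d) : ↥(T ⊓ L b k) →* ↥(T ⊓ L a i) where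
  toFun x := ⟨⁅d, (x : G)⁆, h.rT D x.2.1 x.2.2, h.rL D x.2.1⟩
  map_one' := by
    apply Subtype.ext
    simp
  map_mul' := by
    intro x y
    exact Subtype.ext (h.rmul D x.2.1 x.2.2 y.2.1 y.2.2)

omit [Finite G] in
theorem hom_injective (h : BE L T g) (hab : a ≠ b) (D : Gd L T a i b k S d) : Function.Injective (h.hom D) := by
  rw [injective_iff_map_eq_one]
  intro x hx
  exact Subtype.ext (h.rinj hab D x.2.1 x.2.2 (congrArg Subtype.val hx))

end gd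

omit [Finite G] in
theorem exists_ne (a : Bool) : ∃ b, a ≠ b := ⟨!a, by cases a <;> decide⟩

theorem card_eq (h : BE L T g) (a i b k : Bool) : Nat.card ↥(T ⊓ L a i) = Nat.card ↥(T ⊓ L b k) := by
  have key : ∀ a i b k : Bool, a ≠ b → Nat.card ↥(T ⊓ L a i) ≤ Nat.card ↥(T ⊓ L b k) := by
    intro a i b k hab
    obtain ⟨S, D⟩ := h.gd b k a i
    exact Nat.card_le_card_of_injective _ (h.hom_injective (Ne.symm hab) D)
  have key2 : ∀ a i b k : Bool, Nat.card ↥(T ⊓ L a i) ≤ Nat.card ↥(T ⊓ L b k) := by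
    intro a i b k
    by_cases hab : a = b
    · subst hab
      obtain ⟨c, hc⟩ := exists_ne a
      exact (key a i c i hc).trans (key c i a k (Ne.symm hc))
    · exact key a i b k hab
  exact le_antisymm (key2 a i b k) (key2 b k a i)

omit [Finite G] in
/-- `P a i ≠ 1` -/
theorem P_ne (h : BE L T g) (a i : Bool) : ∃ x ∈ T ⊓ L a i, x ≠ 1 := by
  obtain ⟨i', hi⟩ := exists_ne i
  obtain ⟨x, hx, hxL, hx'⟩ := h.nz a i i' hi
  exact ⟨x, ⟨hx, hxL⟩, fun h1 => hx' (h1 ▸ one_mem _)⟩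

section gd2
variable {a i b k : Bool} {S : Subgroup G} {d : G}

theorem rsurj (h : BE L T g) (hab : a ≠ b) (D : Gd L T a i b k S d) {p : G} (hp : p ∈ T) (hpL : p ∈ L a i) :
    ∃ x ∈ T, x ∈ L b k ∧ ⁅d, x⁆ = p := by
  have h1 : Function.Bijective (h.hom D) := by
    rw [Nat.bijective_iff_injective_and_card]
    exact ⟨h.hom_injective hab D, h.card_eq b k a i⟩
  obtain ⟨x, hx⟩ := h1.2 ⟨p, hp, hpL⟩
  exact ⟨x, x.2.1, x.2.2, congrArg Subtype.val hx⟩

/-- `d² ∈ T` -/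
theorem d_sq (h : BE L T g) (hab : a ≠ b) (D : Gd L T a i b k S d) : d * d ∈ T := by
  obtain ⟨p, hp, hp2, hp1, hdp⟩ := exists_fix D.hS D.dS (P := T ⊓ L a i) (inf_le_left.trans D.TS)
    (fun x hx => ⟨D.P x hx.1 hx.2, (L a i).mul_mem ((L a i).mul_mem D.dL hx.2) ((L a i).inv_mem D.dL)⟩) (h.P_ne a i)
  obtain ⟨x, hx, hxL, hxp⟩ := h.rsurj hab D hp.1 hp.2
  have hx1 : x ≠ 1 := by
    rintro rfl
    apply hp1
    rw [← hxp]; simp
  refine h.mem S D.hS D.TS a i b k hab _ (mul_mem D.dS D.dS) (mul_mem D.dL D.dL) x hx hxL hx1 ?_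
  have h1 : d * x * d⁻¹ = p * x := by rw [conj_eq_comm_mul, hxp]
  have h2 : d * (p * x) * d⁻¹ = x := by
    calc d * (p * x) * d⁻¹ = (d * p * d⁻¹) * (d * x * d⁻¹) := by group
      _ = (p * d * d⁻¹) * (p * x) := by rw [h1, hdp]
      _ = (p * p) * x := by group
      _ = x := by rw [hp2, one_mul]
  calc d * d * x = d * (d * x * d⁻¹) * d⁻¹ * (d * d) := by group
    _ = d * (p * x) * d⁻¹ * (d * d) := by rw [h1]
    _ = x * (d * d) := by rw [h2]

/-- `d` centralises `P a i` -/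
theorem d_comm (h : BE L T g) (hab : a ≠ b) (D : Gd L T a i b k S d) {p : G} (hp : p ∈ T) (hpL : p ∈ L a i) :
    d * p = p * d := by
  obtain ⟨x, hx, hxL, hxp⟩ := h.rsurj hab D hp hpL
  have h1 : d * x * d⁻¹ = p * x := by rw [conj_eq_comm_mul, hxp]
  have h2 : (d * d) * x = x * (d * d) := h.cT (h.d_sq hab D) (mul_mem D.dL D.dL) hx hxL
  have h3 : (d * p * d⁻¹) * (p * x) = x := by
    calc (d * p * d⁻¹) * (p * x) = (d * p * d⁻¹) * (d * x * d⁻¹) := by rw [h1]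
      _ = d * (p * x) * d⁻¹ := by group
      _ = d * (d * x * d⁻¹) * d⁻¹ := by rw [h1]
      _ = (d * d) * x * (d * d)⁻¹ := by group
      _ = x := by rw [h2]; group
  have h4 : (d * p * d⁻¹) * p = 1 := by
    calc (d * p * d⁻¹) * p = (d * p * d⁻¹) * (p * x) * x⁻¹ := by group
      _ = 1 := by rw [h3]; group
  have h5 : d * p * d⁻¹ = p := by
    rw [eq_inv_of_mul_eq_one_left h4, inv_of_sq (h.el a i p hp hpL)]
  exact mul_inv_eq_iff_eq_mul.mp h5

end gd2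

theorem g_cent (h : BE L T g) (a i : Bool) {p : G} (hp : p ∈ T) (hpL : p ∈ L a i) : g a i * p = p * g a i := by
  obtain ⟨b, hab⟩ := exists_ne a
  obtain ⟨S, D⟩ := h.gd a i b i
  exact h.d_comm hab D hp hpL

omit [Finite G] in
theorem cm_T (h : BE L T g) {x : G} (hx : x ∈ T) (a i : Bool) : ⁅g a i, x⁆ ∈ T := by
  rw [commutatorElement_def]
  exact mul_mem (h.g_conj a i hx) (inv_mem hx)

omit [Finite G] in
theorem cm_L (h : BE L T g) {x : G} (hx : x ∈ T) (a i : Bool) : ⁅g a i, x⁆ ∈ L a i := comm_mem (h.gm a i) (h.nrm x hx a i)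

theorem cm_one (h : BE L T g) {a b : Bool} (hab : a ≠ b) {i k : Bool} {x : G} (hx : x ∈ T) (hxL : x ∈ L b k)
    (h1 : ⁅g a i, x⁆ = 1) : x = 1 := by
  obtain ⟨S, D⟩ := h.gd a i b k
  exact h.rinj hab D hx hxL h1

theorem cm_surj (h : BE L T g) {a b : Bool} (hab : a ≠ b) (i k : Bool) {p : G} (hp : p ∈ T) (hpL : p ∈ L a i) :
    ∃ x ∈ T, x ∈ L b k ∧ ⁅g a i, x⁆ = p := by
  obtain ⟨S, D⟩ := h.gd a i b k
  exact h.rsurj hab D hp hpL

section sw
variable {a b i i' k k' : Bool}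

omit [Finite G] in
/-- conjugation by `g b k g b k'` -/
theorem j_conj (h : BE L T g) (hk : k ≠ k') {p : G} (hp : p ∈ T) :
    g b k * g b k' * p * (g b k * g b k')⁻¹ = ⁅g b k, p⁆ * ⁅g b k', p⁆ * p := by
  have h1 : g b k * ⁅g b k', p⁆ = ⁅g b k', p⁆ * g b k := h.comm b k k' hk _ (h.gm b k) _ (h.cm_L hp b k')
  have h2 : ⁅g b k, p⁆ * ⁅g b k', p⁆ = ⁅g b k', p⁆ * ⁅g b k, p⁆ := h.comm b k k' hk _ (h.cm_L hp b k) _ (h.cm_L hp b k')
  calc g b k * g b k' * p * (g b k * g b k')⁻¹ = g b k * (g b k' * p * (g b k')⁻¹) * (g b k)⁻¹ := by group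
    _ = g b k * (⁅g b k', p⁆ * p) * (g b k)⁻¹ := by rw [conj_eq_comm_mul (g b k') p]
    _ = (g b k * ⁅g b k', p⁆) * p * (g b k)⁻¹ := by group
    _ = (⁅g b k', p⁆ * g b k) * p * (g b k)⁻¹ := by rw [h1]
    _ = ⁅g b k', p⁆ * (g b k * p * (g b k)⁻¹) := by group
    _ = ⁅g b k', p⁆ * (⁅g b k, p⁆ * p) := by rw [conj_eq_comm_mul (g b k) p]
    _ = (⁅g b k', p⁆ * ⁅g b k, p⁆) * p := by group
    _ = _ := by rw [h2]

omit [Finite G] in
theorem j_T (h : BE L T g) {p : G} (hp : p ∈ T) : g b k * g b k' * p * (g b k * g b k')⁻¹ ∈ T := by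
  have : g b k * g b k' * p * (g b k * g b k')⁻¹ = g b k * (g b k' * p * (g b k')⁻¹) * (g b k)⁻¹ := by group
  rw [this]
  exact h.g_conj b k (h.g_conj b k' hp)

omit [Finite G] in
theorem j_L (h : BE L T g) (hab : a ≠ b) (hk : k ≠ k') (hi : i ≠ i') {p : G} (hpL : p ∈ L a i) :
    g b k * g b k' * p * (g b k * g b k')⁻¹ ∈ L a i' := by
  have h1 := conj_mem_cj (g := g b k * g b k') hpL
  rwa [h.sw a b hab k k' hk i i' hi] at h1

omit [Finite G] in
/-- (c): `⁅g b k, D a⁆ ≤ D b` -/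
theorem cm_D (h : BE L T g) (hab : a ≠ b) (hi : i ≠ i') (hk : k ≠ k') {z : G} (hz : z ∈ T) (hz1 : z ∈ L a i)
    (hz2 : z ∈ L a i') : ⁅g b k, z⁆ ∈ L b k' := by
  have h1 : ⁅g b k, z⁆ * ⁅g b k', z⁆ ∈ L a i := by
    have h2 := h.j_conj (b := b) hk hz
    have h3 : ⁅g b k, z⁆ * ⁅g b k', z⁆ = g b k * g b k' * z * (g b k * g b k')⁻¹ * z⁻¹ := by rw [h2]; group
    rw [h3]
    exact mul_mem (h.j_L hab hk (Ne.symm hi) hz2) (inv_mem hz1)
  have h2 := h.prod b k k' a i (Ne.symm hab) hk _ (h.cm_T hz b k) (h.cm_L hz b k) _ (h.cm_T hz b k') (h.cm_L hz b k') h1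
  rw [eq_inv_of_mul_eq_one_left h2]
  exact inv_mem (h.cm_L hz b k')

end sw

end BE

end Cfsg.Agent.OddHalf.D3.BEven
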