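import Cfsg.Agent.OddHalf.D3.BEven.AlphaEnd

/-!
# ODD D3 (b), even centre, (alpha): `S = X` is impossible (average over the odd group `N_M(S) / S`)
-/

set_option autoImplicit false

namespace Cfsg.Agent.OddHalf.D3.BEven

open Cfsg.Agent.OddHalf.D3.ThreeDefs Cfsg.Agent.OddHalf.D3.ThreeFam Cfsg.Agent.OddHalf.D3.ThreeMain
  Cfsg.Agent.OddHalf.D3.ThreeEnd Cfsg.Agent.OddHalf.D3.BTwo
open scoped commutatorElement IsMulCommutative

universe u

/-! ### averaging -/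

section Avg

variable {N : Type*} [Group N] [Finite N] {A : Type*} [CommGroup A] (S : Subgroup N)

/-- the product over `N / S` of a function which is constant on the cosets `n S` -/
noncomputable def avg (F : N → A) (hF : ∀ n, ∀ s ∈ S, F (n * s) = F n) : A := by
  classical
  have := Fintype.ofFinite (N ⧸ S)
  exact ∏ q : N ⧸ S, Quotient.liftOn' q F (fun a b hab => by
    rw [QuotientGroup.leftRel_apply] at hab
    have := hF a _ hab
    rw [mul_inv_cancel_left] at this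
    exact this.symm)

variable {S}

theorem avg_eq_out (F : N → A) (hF : ∀ n, ∀ s ∈ S, F (n * s) = F n) [Fintype (N ⧸ S)] :
    avg S F hF = ∏ q : N ⧸ S, F q.out := by
  classical
  unfold avg
  refine Finset.prod_congr (by ext; simp) ?_
  intro q _
  conv_lhs => rw [← Quotient.out_eq' q]
  rfl

theorem avg_mul (F F' : N → A) (hF : ∀ n, ∀ s ∈ S, F (n * s) = F n) (hF' : ∀ n, ∀ s ∈ S, F' (n * s) = F' n) :
    avg S (fun n => F n * F' n) (fun n s hs => by rw [hF n s hs, hF' n s hs]) = avg S F hF * avg S F' hF' := by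
  classical
  have := Fintype.ofFinite (N ⧸ S)
  rw [avg_eq_out, avg_eq_out, avg_eq_out, Finset.prod_mul_distrib]

theorem avg_congr {F F' : N → A} (hF : ∀ n, ∀ s ∈ S, F (n * s) = F n) (hF' : ∀ n, ∀ s ∈ S, F' (n * s) = F' n)
    (e : ∀ n, F n = F' n) : avg S F hF = avg S F' hF' := by
  classical
  have := Fintype.ofFinite (N ⧸ S)
  rw [avg_eq_out, avg_eq_out]
  exact Finset.prod_congr rfl fun q _ => e _

theorem avg_const (a : A) : avg S (fun _ => a) (fun _ _ _ => rfl) = a ^ S.index := by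
  classical
  have := Fintype.ofFinite (N ⧸ S)
  rw [avg_eq_out, Finset.prod_const, Finset.card_univ, ← Nat.card_eq_fintype_card]
  rfl

theorem avg_shift (F : N → A) (hF : ∀ n, ∀ s ∈ S, F (n * s) = F n) (m : N) :
    avg S (fun n => F (m * n)) (fun n s hs => by rw [← mul_assoc, hF _ s hs]) = avg S F hF := by
  classical
  have := Fintype.ofFinite (N ⧸ S)
  have key : ∀ q : N ⧸ S, ∀ n : N, (n : N ⧸ S) = q → F q.out = F n := by
    intro q n hn
    have h1 : ((q.out : N) : N ⧸ S) = (n : N ⧸ S) := by rw [hn]; exact Quotient.out_eq' q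
    have h2 := QuotientGroup.eq.mp h1
    have h3 := hF q.out _ h2
    rw [mul_inv_cancel_left] at h3
    exact h3.symm
  rw [avg_eq_out, avg_eq_out]
  refine Fintype.prod_equiv (MulAction.toPerm m) _ _ fun q => ?_
  symm
  refine key _ _ ?_
  change ((m * q.out : N) : N ⧸ S) = m • q
  have : ((m * q.out : N) : N ⧸ S) = m • ((q.out : N) : N ⧸ S) := rfl
  rw [this]
  congr 1
  exact Quotient.out_eq' q

end Avg

variable {G : Type u} [Group G]

namespace AD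

variable {M B Z S : Subgroup G}

/-- the case `S = X` -/
theorem eq_Z_of_le_X [Finite G] (h : AD M B Z S) (hB : 2 < Nat.card B) : S ≤ Z := by
  classical
  have hX : S ≤ h.X := h.le_X hB
  obtain ⟨b, hb, hb1⟩ : ∃ c ∈ B, c ≠ 1 := by
    by_contra hcon
    push Not at hcon
    have : B = ⊥ := (Subgroup.eq_bot_iff_forall B).mpr hcon
    rw [this, Subgroup.card_bot] at hB
    omega
  have hSS : ∀ s ∈ S, ∀ t ∈ S, ⁅s, t⁆ ∈ Z := h.comm_S hB hb hb1
  have hbc : ∀ s ∈ S, ⁅s, b⁆ ∈ Z := fun s hs => (hX hs).2 b hb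
  have hcen : ∀ z ∈ Z, z ∈ Subgroup.center G := fun z hz => Subgroup.mem_center_iff.mpr fun x => h.Zn hz x
  -- the normaliser
  obtain ⟨N, hN⟩ : ∃ N : Subgroup G, N = M ⊓ Subgroup.normalizer (S : Set G) := ⟨_, rfl⟩
  have hmem : ∀ x, x ∈ N ↔ x ∈ M ∧ cj x S = S := by
    intro x
    rw [hN, Subgroup.mem_inf]
    exact ⟨fun hx => ⟨hx.1, cj_of_mem_normalizer hx.2⟩, fun hx => ⟨hx.1, mem_normalizer_of_cj hx.2⟩⟩
  have hSN : S ≤ N := fun s hs => (hmem s).mpr ⟨h.syl.le hs, cj_eq_of_mem hs⟩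
  obtain ⟨S0, hS0⟩ : ∃ S0 : Subgroup N, S0 = S.subgroupOf N := ⟨_, rfl⟩
  have hS0m : ∀ n : N, n ∈ S0 ↔ (n : G) ∈ S := by intro n; rw [hS0]; exact Subgroup.mem_subgroupOf
  -- the index is odd
  have hodd : Odd S0.index := by
    obtain ⟨P, hP⟩ := exists_sylow (h.syl.mono (K' := N) (by rw [hN]; exact inf_le_left) hSN)
    have : Fact (Nat.Prime 2) := ⟨Nat.prime_two⟩
    have h1 := P.not_dvd_index
    rw [hP, ← hS0] at h1
    exact Nat.odd_iff.mpr (by omega)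
  have hcS : ∀ n : N, ∀ v ∈ S, (n : G)⁻¹ * v * n ∈ S := by
    intro n v hv
    rw [← mem_cj, ((hmem n).mp n.2).2]; exact hv
  -- the functions
  let F : S → N → Subgroup.center G := fun v n => ⟨⁅(n : G)⁻¹ * v * n, b⁆, hcen _ (hbc _ (hcS n v v.2))⟩
  have hF : ∀ v : S, ∀ n, ∀ s ∈ S0, F v (n * s) = F v n := by
    intro v n s hs
    rw [hS0m] at hs
    apply Subtype.ext
    change ⁅((n * s : N) : G)⁻¹ * v * (n * s : N), b⁆ = ⁅(n : G)⁻¹ * v * n, b⁆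
    obtain ⟨y, hy⟩ : ∃ y, y = (n : G)⁻¹ * v * n := ⟨_, rfl⟩
    have hyS : y ∈ S := by rw [hy]; exact hcS n v v.2
    have e1 : ((n * s : N) : G)⁻¹ * v * (n * s : N) = (s : G)⁻¹ * y * s := by
      rw [Subgroup.coe_mul, hy]; group
    rw [e1, ← hy]
    have h1 := hSS _ (inv_mem hs) y hyS
    have e2 : (s : G)⁻¹ * y * s = ⁅(s : G)⁻¹, y⁆ * y := by rw [commutatorElement_def]; group
    rw [e2, co_mul_left (h.Zc _ (hbc y hyS)), commutatorElement_eq_one_iff_mul_comm.mpr (h.Zc _ h1 b), one_mul]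
  let Φ : S → Subgroup.center G := fun v => avg S0 (F v) (hF v)
  have hΦmul : ∀ v w : S, Φ (v * w) = Φ v * Φ w := by
    intro v w
    change avg S0 _ _ = avg S0 _ _ * avg S0 _ _
    rw [← avg_mul]
    apply avg_congr
    intro n
    apply Subtype.ext
    change ⁅(n : G)⁻¹ * (v * w : S) * n, b⁆ = ⁅(n : G)⁻¹ * v * n, b⁆ * ⁅(n : G)⁻¹ * w * n, b⁆
    rw [← co_mul_left (h.Zc _ (hbc _ (hcS n w w.2)))]
    congr 1
    rw [Subgroup.coe_mul]; group
  have hΦ1 : Φ 1 = 1 := by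
    have := hΦmul 1 1
    rw [mul_one] at this
    exact (left_eq_mul.mp this)
  have hΦZ : ∀ v : S, (v : G) ∈ Z → Φ v = 1 := by
    intro v hv
    have : Φ v = avg S0 (fun _ => (1 : Subgroup.center G)) (fun _ _ _ => rfl) := by
      apply avg_congr
      intro n
      apply Subtype.ext
      change ⁅(n : G)⁻¹ * v * n, b⁆ = 1
      have e : (n : G)⁻¹ * v * n = v := by rw [h.Zn hv]; group
      rw [e]
      exact commutatorElement_eq_one_iff_mul_comm.mpr (h.Zc _ hv b)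
    rw [this, avg_const, one_pow]
  -- invariance
  have hΦinv : ∀ (v : S) (m : G) (hm : m ∈ N) (hv : m * v * m⁻¹ ∈ S), Φ ⟨m * v * m⁻¹, hv⟩ = Φ v := by
    intro v m hm hv
    change avg S0 _ _ = avg S0 _ _
    rw [← avg_shift (F v) (hF v) (⟨m, hm⟩⁻¹ : N)]
    apply avg_congr
    intro n
    apply Subtype.ext
    change ⁅(n : G)⁻¹ * (m * v * m⁻¹) * n, b⁆ = ⁅(((⟨m, hm⟩⁻¹ : N) * n : N) : G)⁻¹ * v * ((⟨m, hm⟩⁻¹ : N) * n : N), b⁆
    congr 1
    rw [Subgroup.coe_mul, Subgroup.coe_inv]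
    group
  -- the kernel of `Φ`
  let D : Subgroup G :=
    { carrier := {v | ∃ hv : v ∈ S, Φ ⟨v, hv⟩ = 1}
      one_mem' := ⟨one_mem _, hΦ1⟩
      mul_mem' := by
        rintro v w ⟨hv, h1⟩ ⟨hw, h2⟩
        refine ⟨mul_mem hv hw, ?_⟩
        have := hΦmul ⟨v, hv⟩ ⟨w, hw⟩
        rw [h1, h2, one_mul] at this
        exact this
      inv_mem' := by
        rintro v ⟨hv, h1⟩
        refine ⟨inv_mem hv, ?_⟩
        have h2 := hΦmul ⟨v, hv⟩ ⟨v⁻¹, inv_mem hv⟩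
        rw [h1, one_mul] at h2
        rw [← h2]
        have e : (⟨v, hv⟩ * ⟨v⁻¹, inv_mem hv⟩ : S) = 1 := Subtype.ext (mul_inv_cancel v)
        rw [e, hΦ1] }
  have hSD : S ≤ D := by
    refine focal h.perf h.syl (fun z hz m _ => h.Zc z hz m) hSS
      (fun z hz => ⟨h.ZS hz, hΦZ ⟨z, h.ZS hz⟩ hz⟩) ?_
    intro s hs n hn hnS
    have hns : n * s * n⁻¹ ∈ S := conj_mem_of_cj hnS hs
    have h1 := hΦinv ⟨s, hs⟩ n ((hmem n).mpr ⟨hn, hnS⟩) hns
    have h2 := hΦmul ⟨n * s * n⁻¹, hns⟩ ⟨s, hs⟩⁻¹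
    have h3 := hΦmul ⟨s, hs⟩ ⟨s, hs⟩⁻¹
    rw [mul_inv_cancel, hΦ1] at h3
    rw [h1, ← h3] at h2
    exact ⟨mul_mem hns (inv_mem hs), h2⟩
  -- every `[n⁻¹ v n, b]` is `[v, σ] [v, b]`
  have hσ : ∀ n : N, ∃ σ ∈ S, ∀ v ∈ S, ⁅(n : G)⁻¹ * v * n, b⁆ = ⁅v, σ⁆ * ⁅v, b⁆ := by
    intro n
    obtain ⟨hnM, hnS⟩ := (hmem n).mp n.2
    obtain ⟨c, hc⟩ : ∃ c, c = (n : G) * b * (n : G)⁻¹ * b⁻¹ := ⟨_, rfl⟩
    have hcM : c ∈ M := by
      have e : c = n * (b * (n : G)⁻¹ * b⁻¹) := by rw [hc]; group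
      rw [e]; exact mul_mem hnM (h.conj_mem_M hb (inv_mem hnM))
    have hcS' : cj c S = S := by
      rw [hc]
      exact cj_mul_eq (cj_mul_eq (cj_mul_eq hnS (h.BS b hb)) (cj_inv_eq hnS)) (cj_inv_eq (h.BS b hb))
    have h1 : ∀ s ∈ S, ⁅c, s⁆ ∈ Z := by
      intro s hs
      have e1 : (n : G) * b * (n : G)⁻¹ ∈ h.CZ s := by
        rw [h.mem_CZ_comm, h.mem_CZ]
        have h3 := hbc _ (hcS n s hs)
        have e : ⁅s, (n : G) * b * (n : G)⁻¹⁆ = n * ⁅(n : G)⁻¹ * s * n, b⁆ * (n : G)⁻¹ := by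
          simp only [commutatorElement_def]; group
        rw [e, h.Zn h3]
        have : ⁅(n : G)⁻¹ * s * n, b⁆ * n * (n : G)⁻¹ = ⁅(n : G)⁻¹ * s * n, b⁆ := by group
        rw [this]; exact h3
      have e2 : b ∈ h.CZ s := by rw [h.mem_CZ_comm, h.mem_CZ]; exact hbc s hs
      rw [← h.mem_CZ, hc]
      exact mul_mem e1 (inv_mem e2)
    obtain ⟨σ, hσS, hσ⟩ := inner_of h.syl (fun z hz m _ => h.Zc z hz m) h.ZZ hcM hcS' h1
    refine ⟨σ, hσS, fun v hv => ?_⟩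
    have h3 := hbc _ (hcS n v hv)
    have e : ⁅(n : G)⁻¹ * v * n, b⁆ = ⁅v, c * b⁆ := by
      have e1 : ⁅v, c * b⁆ = n * ⁅(n : G)⁻¹ * v * n, b⁆ * (n : G)⁻¹ := by
        rw [hc]; simp only [commutatorElement_def]; group
      rw [e1, h.Zn h3]; group
    rw [e, co_mul_right (h.Zc _ (hbc v hv))]
    congr 1
    have e3 := hσ v⁻¹ (inv_mem hv)
    calc ⁅v, c⁆ = v * (c * v⁻¹ * c⁻¹) := by rw [commutatorElement_def]; group
      _ = ⁅v, σ⁆ := by rw [e3, commutatorElement_def]; group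
  choose σ hσS hσ using hσ
  have := Fintype.ofFinite (N ⧸ S0)
  -- the product
  obtain ⟨τ, hτS, hτ⟩ : ∃ τ ∈ S, ∀ v (hv : v ∈ S), ((Φ ⟨v, hv⟩ : Subgroup.center G) : G) = ⁅v, τ⁆ * ⁅v, b⁆ := by
    have key : ∀ T : Finset (N ⧸ S0), ∃ τ ∈ S, ∀ v (hv : v ∈ S),
        ((∏ q ∈ T, F ⟨v, hv⟩ q.out : Subgroup.center G) : G) = ⁅v, τ⁆ * ⁅v, b⁆ ^ T.card := by
      intro T
      induction T using Finset.induction_on with
      | empty =>
        refine ⟨1, one_mem _, fun v hv => ?_⟩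
        simp
      | insert q T hq ih =>
        obtain ⟨τ, hτS, hτ⟩ := ih
        refine ⟨σ q.out * τ, mul_mem (hσS _) hτS, fun v hv => ?_⟩
        rw [Finset.prod_insert hq, Subgroup.coe_mul, hτ v hv, Finset.card_insert_of_notMem hq, pow_succ]
        change ⁅(q.out : G)⁻¹ * v * (q.out : N), b⁆ * _ = _
        rw [hσ _ v hv, co_mul_right (h.Zc _ (hSS v hv τ hτS))]
        have h1 := hSS v hv τ hτS
        calc ⁅v, σ q.out⁆ * ⁅v, b⁆ * (⁅v, τ⁆ * ⁅v, b⁆ ^ T.card)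
            = ⁅v, σ q.out⁆ * (⁅v, b⁆ * ⁅v, τ⁆) * ⁅v, b⁆ ^ T.card := by group
          _ = ⁅v, σ q.out⁆ * (⁅v, τ⁆ * ⁅v, b⁆) * ⁅v, b⁆ ^ T.card := by rw [h.Zn h1]
          _ = ⁅v, σ q.out⁆ * ⁅v, τ⁆ * (⁅v, b⁆ ^ T.card * ⁅v, b⁆) := by
              rw [← pow_succ, pow_succ']; simp only [mul_assoc]
    obtain ⟨τ, hτS, hτ⟩ := key Finset.univ
    refine ⟨τ, hτS, fun v hv => ?_⟩
    have h1 : Φ ⟨v, hv⟩ = ∏ q : N ⧸ S0, F ⟨v, hv⟩ q.out := avg_eq_out _ _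
    rw [h1, hτ v hv, Finset.card_univ, ← Nat.card_eq_fintype_card]
    congr 1
    have h2 : Nat.card (N ⧸ S0) = S0.index := rfl
    rw [h2]
    obtain ⟨k, hk⟩ := hodd
    rw [hk, pow_succ, pow_mul, pow_two, h.ZZ _ (hbc v hv), one_pow, one_mul]
  have hone : ∀ v ∈ S, ⁅v, τ⁆ * ⁅v, b⁆ = 1 := by
    intro v hv
    obtain ⟨hv', h1⟩ := hSD hv
    rw [← hτ v hv, h1]; rfl
  have h1 := hone τ hτS
  rw [commutatorElement_self, one_mul] at h1
  have hτZ := h.mem_Z_of hτS hb hb1 h1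
  intro v hv
  have h2 := hone v hv
  rw [commutatorElement_eq_one_iff_mul_comm.mpr (h.Zn hτZ v), one_mul] at h2
  exact h.mem_Z_of hv hb hb1 h2

/-- **(alpha), `2 < |B|`** -/
theorem eq_bot [Finite G] (h : AD M B Z S) (hB : 2 < Nat.card B) : S = ⊥ := by
  have h1 := h.eq_Z_of_le_X hB
  rw [eq_bot_iff]
  refine focal (Z := ⊥) h.perf h.syl ?_ ?_ bot_le ?_
  · intro z hz m _
    rw [Subgroup.mem_bot.mp hz, one_mul, mul_one]
  · intro s hs t _
    rw [Subgroup.mem_bot]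
    exact commutatorElement_eq_one_iff_mul_comm.mpr (h.Zc s (h1 hs) t)
  · intro s hs n _ _
    rw [Subgroup.mem_bot]
    exact commutatorElement_eq_one_iff_mul_comm.mpr (h.Zn (h1 hs) n)

end AD

end Cfsg.Agent.OddHalf.D3.BEven
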