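import Cfsg.Agent.OddHalf.D3.BEven.Focal

/-!
# ODD D3 (b), even centre, (alpha) (bb ODD 12923, 13086): structure of `S`

`M` perfect normal, `B` elementary abelian, `Z` elementary abelian central, `S ∈ Syl₂(M)`, `|Z| ≤ |B|`,
`C_S(b) ≤ Z` for `b ∈ B#`.  If `2 < |B|`, then `S = X` or `S = X ∪ g X` with `X = {v ∈ S : [v, B] ≤ Z}`.
-/

set_option autoImplicit false

namespace Cfsg.Agent.OddHalf.D3.BEven

open Cfsg.Agent.OddHalf.D3.ThreeDefs Cfsg.Agent.OddHalf.D3.ThreeFam Cfsg.Agent.OddHalf.D3.ThreeMain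
  Cfsg.Agent.OddHalf.D3.ThreeEnd Cfsg.Agent.OddHalf.D3.BTwo
open scoped commutatorElement

universe u

variable {G : Type u} [Group G]

structure AD (M B Z S : Subgroup G) : Prop where
  perf : ⁅M, M⁆ = M
  nrm : ∀ b ∈ B, cj b M = M
  BB : ∀ b ∈ B, b * b = 1
  ZZ : ∀ z ∈ Z, z * z = 1
  Zc : ∀ z ∈ Z, ∀ x : G, z * x = x * z
  ZS : Z ≤ S
  syl : SylIn M S
  BS : ∀ b ∈ B, cj b S = S
  card : Nat.card Z ≤ Nat.card B
  cen : ∀ b ∈ B, b ≠ 1 → ∀ s ∈ S, s * b = b * s → s ∈ Z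
  disj : ∀ b ∈ B, b ∈ M → b = 1

theorem co_mul_left {v w b : G} (h : ∀ x, ⁅w, b⁆ * x = x * ⁅w, b⁆) : ⁅v * w, b⁆ = ⁅v, b⁆ * ⁅w, b⁆ := by
  calc ⁅v * w, b⁆ = v * ⁅w, b⁆ * v⁻¹ * ⁅v, b⁆ := by simp only [commutatorElement_def]; group
    _ = ⁅w, b⁆ * v * v⁻¹ * ⁅v, b⁆ := by rw [h]
    _ = ⁅w, b⁆ * ⁅v, b⁆ := by group
    _ = _ := h _

theorem co_mul_right {v b c : G} (h : ∀ x, ⁅v, c⁆ * x = x * ⁅v, c⁆) : ⁅v, b * c⁆ = ⁅v, b⁆ * ⁅v, c⁆ := by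
  calc ⁅v, b * c⁆ = ⁅v, b⁆ * (b * ⁅v, c⁆) * b⁻¹ := by simp only [commutatorElement_def]; group
    _ = ⁅v, b⁆ * (⁅v, c⁆ * b) * b⁻¹ := by rw [h b]
    _ = _ := by group

namespace AD

variable {M B Z S : Subgroup G}

theorem Zn (h : AD M B Z S) {z : G} (hz : z ∈ Z) (x : G) : x * z = z * x := (h.Zc z hz x).symm

/-- the subgroup `{v ∈ S : [v, B] ≤ Z}` -/
def X (h : AD M B Z S) : Subgroup G where
  carrier := {v | v ∈ S ∧ ∀ b ∈ B, ⁅v, b⁆ ∈ Z}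
  one_mem' := ⟨one_mem _, fun b _ => by rw [commutatorElement_one_left]; exact one_mem _⟩
  mul_mem' := by
    rintro a b ⟨ha, ha'⟩ ⟨hb, hb'⟩
    refine ⟨mul_mem ha hb, fun c hc => ?_⟩
    rw [co_mul_left (h.Zc _ (hb' c hc))]
    exact mul_mem (ha' c hc) (hb' c hc)
  inv_mem' := by
    rintro a ⟨ha, ha'⟩
    refine ⟨inv_mem ha, fun c hc => ?_⟩
    have : ⁅a⁻¹, c⁆ = ⁅a, c⁆⁻¹ := by
      calc ⁅a⁻¹, c⁆ = a⁻¹ * (⁅a, c⁆⁻¹ * a) := by simp only [commutatorElement_def]; group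
        _ = a⁻¹ * (a * ⁅a, c⁆⁻¹) := by rw [h.Zc _ (inv_mem (ha' c hc))]
        _ = _ := by group
    rw [this]; exact inv_mem (ha' c hc)

theorem mem_X (h : AD M B Z S) {v : G} : v ∈ h.X ↔ v ∈ S ∧ ∀ b ∈ B, ⁅v, b⁆ ∈ Z := Iff.rfl

theorem X_le (h : AD M B Z S) : h.X ≤ S := fun _ hv => hv.1

theorem Z_le_X (h : AD M B Z S) : Z ≤ h.X := fun z hz => ⟨h.ZS hz, fun b _ => by
  rw [commutatorElement_eq_one_iff_mul_comm.mpr (h.Zc z hz b)]; exact one_mem _⟩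

theorem co_self {z b : G} (hz : z * z = 1) (hb : z = b) : z * b = 1 := by rw [← hb, hz]

theorem inv_of_Z (h : AD M B Z S) {z : G} (hz : z ∈ Z) : z⁻¹ = z := inv_of_sq (h.ZZ z hz)

theorem inv_of_B (h : AD M B Z S) {z : G} (hz : z ∈ B) : z⁻¹ = z := inv_of_sq (h.BB z hz)

/-- `[v, b] = 1` only for `v ∈ Z` -/
theorem mem_Z_of (h : AD M B Z S) {v b : G} (hv : v ∈ S) (hb : b ∈ B) (hb1 : b ≠ 1) (e : ⁅v, b⁆ = 1) : v ∈ Z :=
  h.cen b hb hb1 v hv (commutatorElement_eq_one_iff_mul_comm.mp e)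

/-- `[v, b] = [v, c]` only for `b = c` -/
theorem inj_right (h : AD M B Z S) {v b c : G} (hv : v ∈ h.X) (hvZ : v ∉ Z) (hb : b ∈ B) (hc : c ∈ B)
    (e : ⁅v, b⁆ = ⁅v, c⁆) : b = c := by
  by_contra hne
  apply hvZ
  refine h.mem_Z_of hv.1 (mul_mem hb hc) (fun h1 => hne ?_) ?_
  · rw [eq_inv_of_mul_eq_one_left h1, h.inv_of_B hc]
  · rw [co_mul_right (h.Zc _ (hv.2 c hc)), e, h.ZZ _ (hv.2 c hc)]

/-- `[v, b] = [w, b]` only for `v w ∈ Z` -/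
theorem inj_left (h : AD M B Z S) {v w b : G} (hv : v ∈ h.X) (hw : w ∈ h.X) (hb : b ∈ B) (hb1 : b ≠ 1)
    (e : ⁅v, b⁆ = ⁅w, b⁆) : v * w ∈ Z := by
  refine h.mem_Z_of (mul_mem hv.1 hw.1) hb hb1 ?_
  rw [co_mul_left (h.Zc _ (hw.2 b hb)), e, h.ZZ _ (hw.2 b hb)]

variable {b₁ : G}

theorem sq_mem (h : AD M B Z S) (hb : b₁ ∈ B) (hb1 : b₁ ≠ 1) {v : G} (hv : v ∈ h.X) : v * v ∈ Z :=
  h.inj_left hv hv hb hb1 rfl

theorem mul_mem_iff (h : AD M B Z S) (hb : b₁ ∈ B) (hb1 : b₁ ≠ 1) {v w : G} (hv : v ∈ h.X) : v * w ∈ Z ↔ v⁻¹ * w ∈ Z := by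
  have h1 := h.sq_mem hb hb1 hv
  have e : v⁻¹ * w = (v * v)⁻¹ * (v * w) := by group
  rw [e]
  constructor
  · intro h2; exact mul_mem (inv_mem h1) h2
  · intro h2
    have := mul_mem h1 h2
    rwa [mul_inv_cancel_left] at this

theorem comm_mem (h : AD M B Z S) (hb : b₁ ∈ B) (hb1 : b₁ ≠ 1) {v w : G} (hv : v ∈ h.X) (hw : w ∈ h.X) : ⁅v, w⁆ ∈ Z := by
  have h1 : v * w ∈ h.X := mul_mem hv hw
  have h2 : w * v ∈ h.X := mul_mem hw hv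
  have e : ⁅v * w, b₁⁆ = ⁅w * v, b₁⁆ := by
    rw [co_mul_left (h.Zc _ (hw.2 b₁ hb)), co_mul_left (h.Zc _ (hv.2 b₁ hb)), h.Zc _ (hv.2 b₁ hb)]
  have h3 := h.inj_left h1 h2 hb hb1 e
  have h4 := h.sq_mem hb hb1 h2
  have e2 : ⁅v, w⁆ = (v * w * (w * v)) * (w * v * (w * v))⁻¹ := by rw [commutatorElement_def]; group
  rw [e2]
  exact mul_mem h3 (inv_mem h4)

/-- `(v b)² = 1` iff `[v, b] = v²` -/
theorem sq_iff (h : AD M B Z S) {v b : G} (hv : v ∈ h.X) (hb : b ∈ B) : v * b * (v * b) = 1 ↔ ⁅v, b⁆ = v * v := by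
  have h1 := hv.2 b hb
  have e : v * b * (v * b) = v * v * ⁅v, b⁆⁻¹ := by
    have e1 : b * v * b⁻¹ = ⁅v, b⁆⁻¹ * v := by rw [commutatorElement_def]; group
    calc v * b * (v * b) = v * (b * v * b⁻¹) * (b * b) := by group
      _ = v * (⁅v, b⁆⁻¹ * v) := by rw [e1, h.BB b hb, mul_one]
      _ = v * (v * ⁅v, b⁆⁻¹) := by rw [h.Zc _ (inv_mem h1)]
      _ = _ := by group
  rw [e]
  constructor
  · intro h2; exact (mul_inv_eq_one.mp h2).symm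
  · intro h2; rw [h2, mul_inv_cancel]

theorem comm_BZ (h : AD M B Z S) {b c : G} (hb : b ∈ B) (hc : c ∈ B) : b * c = c * b := comm_of_sq h.BB hb hc

theorem BX (h : AD M B Z S) : ∀ b ∈ B, cj b h.X = h.X := by
  have key : ∀ b ∈ B, ∀ v ∈ h.X, b * v * b⁻¹ ∈ h.X := by
    intro b hb v hv
    have e : b * v * b⁻¹ = ⁅v, b⁆⁻¹ * v := by rw [commutatorElement_def]; group
    rw [e]
    exact mul_mem (inv_mem (h.Z_le_X (hv.2 b hb))) hv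
  intro b hb
  ext x
  rw [mem_cj]
  constructor
  · intro hx
    have := key b hb _ hx
    have e : b * (b⁻¹ * x * b) * b⁻¹ = x := by group
    rwa [e] at this
  · intro hx
    have := key b⁻¹ (inv_mem hb) x hx
    rwa [inv_inv] at this

/-- the 2-group `S B` -/
def W (h : AD M B Z S) : Subgroup G := mulSub S B h.BS

/-- the 2-group `X B` -/
def XB (h : AD M B Z S) : Subgroup G := mulSub h.X B h.BX

/-- the elementary abelian group `Z B` -/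
def E (_h : AD M B Z S) : Subgroup G := mulSub Z B (comm_cj fun z hz b _ => _h.Zc z hz b)

theorem W_two (h : AD M B Z S) : IsPGroup 2 h.W := isPGroup_mulSub h.syl.two (isPGroup_of_sq h.BB)

theorem XB_le (h : AD M B Z S) : h.XB ≤ h.W := by
  rintro _ ⟨v, hv, b, hb, rfl⟩
  exact ⟨v, hv.1, b, hb, rfl⟩

theorem B_S (h : AD M B Z S) {b : G} (hb : b ∈ B) (hbS : b ∈ S) : b = 1 := h.disj b hb (h.syl.le hbS)

theorem mem_XB_S (h : AD M B Z S) {x : G} (hx : x ∈ h.XB) (hxS : x ∈ S) : x ∈ h.X := by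
  obtain ⟨v, hv, b, hb, rfl⟩ := hx
  have hbS : b ∈ S := by
    have : b = v⁻¹ * (v * b) := by group
    rw [this]; exact mul_mem (inv_mem hv.1) hxS
  rw [h.B_S hb hbS, mul_one]; exact hv

theorem B_XB (h : AD M B Z S) : B ≤ h.XB := le_mulSub_right

theorem X_XB (h : AD M B Z S) : h.X ≤ h.XB := le_mulSub_left

theorem E_le (h : AD M B Z S) : h.E ≤ h.XB := by
  rintro _ ⟨z, hz, b, hb, rfl⟩
  exact ⟨z, h.Z_le_X hz, b, hb, rfl⟩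

theorem E_sq (h : AD M B Z S) : ∀ x ∈ h.E, x * x = 1 := sq_mulSub (fun z hz b _ => h.Zc z hz b) h.ZZ h.BB

theorem mem_E_S (h : AD M B Z S) {x : G} (hx : x ∈ h.E) (hxS : x ∈ S) : x ∈ Z := by
  obtain ⟨z, hz, b, hb, rfl⟩ := hx
  have hbS : b ∈ S := by
    have : b = z⁻¹ * (z * b) := by group
    rw [this]; exact mul_mem (inv_mem (h.ZS hz)) hxS
  rw [h.B_S hb hbS, mul_one]; exact hz

theorem card_E [Finite G] (h : AD M B Z S) : Nat.card h.E = Nat.card Z * Nat.card B :=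
  card_mulSub fun _ hx hxB => h.B_S hxB (h.ZS hx)

theorem co_mem_S (h : AD M B Z S) {g b : G} (hg : g ∈ S) (hb : b ∈ B) : ⁅g, b⁆ ∈ S := by
  have e : ⁅g, b⁆ = g * (b * g⁻¹ * b⁻¹) := by rw [commutatorElement_def]; group
  rw [e]
  exact mul_mem hg (conj_mem_of_cj (h.BS b hb) (inv_mem hg))

/-- `g ∈ S` normalising `Z B` is in `X` -/
theorem mem_X_of_E (h : AD M B Z S) {g : G} (hg : g ∈ S) (hE : ∀ b ∈ B, g * b * g⁻¹ ∈ h.E) : g ∈ h.X := by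
  refine ⟨hg, fun b hb => h.mem_E_S ?_ (h.co_mem_S hg hb)⟩
  have e : ⁅g, b⁆ = g * b * g⁻¹ * b⁻¹ := commutatorElement_def _ _
  rw [e]
  exact mul_mem (hE b hb) (inv_mem (le_mulSub_right hb))

/-! ### an element `g ∈ S - X` normalising `X B` -/

structure Gx (h : AD M B Z S) (g : G) : Prop where
  mem : g ∈ S
  not : g ∉ h.X
  nrm : cj g h.XB = h.XB

theorem Gx.f_mem {h : AD M B Z S} {g : G} (hg : Gx h g) {b : G} (hb : b ∈ B) : ⁅g, b⁆ ∈ h.X := by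
  refine h.mem_XB_S ?_ (h.co_mem_S hg.mem hb)
  rw [commutatorElement_def]
  exact mul_mem (conj_mem_of_cj hg.nrm (h.B_XB hb)) (inv_mem (h.B_XB hb))

theorem Gx.eq {g b : G} : g * b * g⁻¹ = ⁅g, b⁆ * b := by rw [commutatorElement_def]; group

theorem Gx.f_sq {h : AD M B Z S} {g : G} (_hg : Gx h g) {b : G} (hb : b ∈ B) : ⁅g, b⁆ * b * (⁅g, b⁆ * b) = 1 := by
  rw [← Gx.eq]
  calc g * b * g⁻¹ * (g * b * g⁻¹) = g * (b * b) * g⁻¹ := by group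
    _ = 1 := by rw [h.BB b hb]; group

theorem Gx.f_co {h : AD M B Z S} {g : G} (hg : Gx h g) {b : G} (hb : b ∈ B) : ⁅⁅g, b⁆, b⁆ = ⁅g, b⁆ * ⁅g, b⁆ :=
  (h.sq_iff (hg.f_mem hb) hb).mp (hg.f_sq hb)

/-- `f` is a homomorphism modulo `Z` -/
theorem Gx.f_mul {h : AD M B Z S} {g : G} (hg : Gx h g) {b c : G} (hb : b ∈ B) (hc : c ∈ B) :
    ∃ z ∈ Z, ⁅g, b * c⁆ = z * (⁅g, b⁆ * ⁅g, c⁆) := by
  have h1 := (hg.f_mem hc).2 b hb
  refine ⟨⁅⁅g, c⁆, b⁆⁻¹, inv_mem h1, ?_⟩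
  have e : b * ⁅g, c⁆ * b⁻¹ = ⁅⁅g, c⁆, b⁆⁻¹ * ⁅g, c⁆ := by simp only [commutatorElement_def]; group
  calc ⁅g, b * c⁆ = ⁅g, b⁆ * (b * ⁅g, c⁆ * b⁻¹) := by simp only [commutatorElement_def]; group
    _ = ⁅g, b⁆ * ⁅⁅g, c⁆, b⁆⁻¹ * ⁅g, c⁆ := by rw [e]; group
    _ = ⁅⁅g, c⁆, b⁆⁻¹ * ⁅g, b⁆ * ⁅g, c⁆ := by rw [h.Zc _ (inv_mem h1)]
    _ = _ := by group

theorem Gx.f_not {h : AD M B Z S} {g : G} (hg : Gx h g) {k : G} (hk : k ∈ B) (hk1 : k ≠ 1) : ⁅g, k⁆ ∉ Z := by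
  intro hkZ
  obtain ⟨b, hb, hbZ⟩ : ∃ b ∈ B, ⁅g, b⁆ ∉ Z := by
    by_contra hcon
    push Not at hcon
    exact hg.not ⟨hg.mem, hcon⟩
  obtain ⟨z, hz, e⟩ := hg.f_mul hk hb
  have hkb := mul_mem hk hb
  -- `f (k b) = z' f b`
  have hz' : z * ⁅g, k⁆ ∈ Z := mul_mem hz hkZ
  have e1 : ⁅g, k * b⁆ = (z * ⁅g, k⁆) * ⁅g, b⁆ := by rw [e]; group
  have h1 := hg.f_sq hkb
  rw [e1] at h1
  have h2 : ⁅g, b⁆ * (k * b) * (⁅g, b⁆ * (k * b)) = 1 := by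
    calc ⁅g, b⁆ * (k * b) * (⁅g, b⁆ * (k * b))
        = ((z * ⁅g, k⁆) * (z * ⁅g, k⁆)) * (⁅g, b⁆ * (k * b) * (⁅g, b⁆ * (k * b))) := by rw [h.ZZ _ hz', one_mul]
      _ = (z * ⁅g, k⁆) * ((z * ⁅g, k⁆) * (⁅g, b⁆ * (k * b))) * (⁅g, b⁆ * (k * b)) := by group
      _ = (z * ⁅g, k⁆) * ((⁅g, b⁆ * (k * b)) * (z * ⁅g, k⁆)) * (⁅g, b⁆ * (k * b)) := by
        rw [h.Zc _ hz' (⁅g, b⁆ * (k * b))]
      _ = (z * ⁅g, k⁆) * ⁅g, b⁆ * (k * b) * ((z * ⁅g, k⁆) * ⁅g, b⁆ * (k * b)) := by group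
      _ = 1 := h1
  have h3 := (h.sq_iff (hg.f_mem hb) hkb).mp h2
  have h4 := h.inj_right (hg.f_mem hb) hbZ hkb hb (by rw [h3, hg.f_co hb])
  apply hk1
  calc k = k * b * b⁻¹ := by group
    _ = 1 := by rw [h4, mul_inv_cancel]

/-- `f` is onto modulo `Z` -/
theorem Gx.f_surj [Finite G] {h : AD M B Z S} {g : G} (hg : Gx h g) (hb : b₁ ∈ B) (hb1 : b₁ ≠ 1) {v : G} (hv : v ∈ h.X) :
    ∃ b ∈ B, v * ⁅g, b⁆ ∈ Z := by
  let φ : B → Z := fun b => ⟨⁅⁅g, (b : G)⁆, b₁⁆, (hg.f_mem b.2).2 b₁ hb⟩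
  have hφ : Function.Injective φ := by
    rintro ⟨b, hbB⟩ ⟨c, hcB⟩ e
    have e1 : ⁅⁅g, b⁆, b₁⁆ = ⁅⁅g, c⁆, b₁⁆ := congrArg Subtype.val e
    have h1 := h.inj_left (hg.f_mem hbB) (hg.f_mem hcB) hb hb1 e1
    obtain ⟨z, hz, e2⟩ := hg.f_mul hbB hcB
    have h2 : ⁅g, b * c⁆ ∈ Z := by rw [e2]; exact mul_mem hz h1
    have h3 : b * c = 1 := by
      by_contra hne
      exact hg.f_not (mul_mem hbB hcB) hne h2
    apply Subtype.ext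
    change b = c
    rw [eq_inv_of_mul_eq_one_left h3, h.inv_of_B hcB]
  have hcard : Nat.card B = Nat.card Z := le_antisymm (Nat.card_le_card_of_injective φ hφ) h.card
  have hsurj : Function.Surjective φ := by
    have := Fintype.ofFinite B
    have := Fintype.ofFinite Z
    exact ((Fintype.bijective_iff_injective_and_card φ).mpr ⟨hφ, by
      rw [← Nat.card_eq_fintype_card, ← Nat.card_eq_fintype_card]; exact hcard⟩).2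
  obtain ⟨⟨b, hbB⟩, e⟩ := hsurj ⟨⁅v, b₁⁆, hv.2 b₁ hb⟩
  exact ⟨b, hbB, h.inj_left hv (hg.f_mem hbB) hb hb1 (congrArg Subtype.val e).symm⟩

/-- the involutions of `X B` are in `Z B` or in `g Z B g⁻¹` -/
theorem Gx.inv_or [Finite G] {h : AD M B Z S} {g : G} (hg : Gx h g) (hb : b₁ ∈ B) (hb1 : b₁ ≠ 1) {x : G} (hx : x ∈ h.XB)
    (hx2 : x * x = 1) : x ∈ h.E ∨ x ∈ cj g h.E := by
  obtain ⟨v, hv, b, hbB, rfl⟩ := hx
  by_cases hvZ : v ∈ Z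
  · exact Or.inl ⟨v, hvZ, b, hbB, rfl⟩
  obtain ⟨c, hc, hvc⟩ := hg.f_surj hb hb1 hv
  obtain ⟨z, hz⟩ : ∃ z, z = v * ⁅g, c⁆ := ⟨_, rfl⟩
  rw [← hz] at hvc
  have hf := h.sq_mem hb hb1 (hg.f_mem hc)
  -- `v = z' f c`
  obtain ⟨z', hz'⟩ : ∃ z', z' = z * (⁅g, c⁆ * ⁅g, c⁆)⁻¹ := ⟨_, rfl⟩
  have hz'Z : z' ∈ Z := by rw [hz']; exact mul_mem hvc (inv_mem hf)
  have ev : v = z' * ⁅g, c⁆ := by rw [hz', hz]; group
  have hcZ : ⁅g, c⁆ ∉ Z := fun h1 => hvZ (by rw [ev]; exact mul_mem hz'Z h1)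
  have h2 : ⁅g, c⁆ * b * (⁅g, c⁆ * b) = 1 := by
    rw [ev] at hx2
    calc ⁅g, c⁆ * b * (⁅g, c⁆ * b) = (z' * z') * (⁅g, c⁆ * b * (⁅g, c⁆ * b)) := by rw [h.ZZ _ hz'Z, one_mul]
      _ = z' * (z' * (⁅g, c⁆ * b)) * (⁅g, c⁆ * b) := by group
      _ = z' * ((⁅g, c⁆ * b) * z') * (⁅g, c⁆ * b) := by rw [h.Zc _ hz'Z (⁅g, c⁆ * b)]
      _ = z' * ⁅g, c⁆ * b * (z' * ⁅g, c⁆ * b) := by group
      _ = 1 := hx2
  have h3 := (h.sq_iff (hg.f_mem hc) hbB).mp h2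
  have h4 := h.inj_right (hg.f_mem hc) hcZ hbB hc (by rw [h3, hg.f_co hc])
  right
  rw [mem_cj, ev, h4]
  refine ⟨z', hz'Z, c, hc, ?_⟩
  have e : ⁅g, c⁆ * c = g * c * g⁻¹ := Gx.eq.symm
  calc g⁻¹ * (z' * ⁅g, c⁆ * c) * g = g⁻¹ * z' * (⁅g, c⁆ * c) * g := by group
    _ = g⁻¹ * z' * (g * c * g⁻¹) * g := by rw [e]
    _ = g⁻¹ * (z' * g) * c := by group
    _ = g⁻¹ * (g * z') * c := by rw [h.Zc _ hz'Z]
    _ = _ := by group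

theorem cjE_of_X (h : AD M B Z S) {g : G} (hg : g ∈ h.X) : cj g h.E = h.E := by
  have key : ∀ g ∈ h.X, ∀ x ∈ h.E, g * x * g⁻¹ ∈ h.E := by
    rintro g hg _ ⟨z, hz, b, hb, rfl⟩
    refine ⟨z * ⁅g, b⁆, mul_mem hz (hg.2 b hb), b, hb, ?_⟩
    calc g * (z * b) * g⁻¹ = (g * z) * b * g⁻¹ := by group
      _ = (z * g) * b * g⁻¹ := by rw [h.Zc z hz]
      _ = _ := by rw [commutatorElement_def]; group
  ext x
  rw [mem_cj]
  constructor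
  · intro hx
    have := key g hg _ hx
    have e : g * (g⁻¹ * x * g) * g⁻¹ = x := by group
    rwa [e] at this
  · intro hx
    have := key g⁻¹ (inv_mem hg) x hx
    rwa [inv_inv] at this

theorem cjE_of_XB (h : AD M B Z S) {x : G} (hx : x ∈ h.XB) : cj x h.E = h.E := by
  obtain ⟨v, hv, b, hb, rfl⟩ := hx
  exact cj_mul_eq (h.cjE_of_X hv) (cj_eq_of_mem (le_mulSub_right hb))

/-- an element of `S` which normalises `Z B` is in `X` -/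
theorem mem_X_of_cj (h : AD M B Z S) {g : G} (hg : g ∈ S) (hE : cj g h.E = h.E) : g ∈ h.X :=
  h.mem_X_of_E hg fun _ hb => conj_mem_of_cj hE (le_mulSub_right hb)

theorem Gx.disj [Finite G] {h : AD M B Z S} {g : G} (hg : Gx h g) {x : G} (hx : x ∈ h.E) (hx' : x ∈ cj g h.E) :
    x ∈ Z := by
  obtain ⟨z, hz, b, hb, rfl⟩ := hx
  rw [mem_cj] at hx'
  obtain ⟨z', hz', c, hc, e⟩ := hx'
  have e1 : z * b = z' * (⁅g, c⁆ * c) := by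
    calc z * b = g * (g⁻¹ * (z * b) * g) * g⁻¹ := by group
      _ = g * z' * c * g⁻¹ := by rw [e]; group
      _ = z' * g * c * g⁻¹ := by rw [h.Zc z' hz']
      _ = _ := by rw [commutatorElement_def]; group
  have hbc : b * c⁻¹ = z⁻¹ * z' * ⁅g, c⁆ * (c * c⁻¹) := by
    calc b * c⁻¹ = z⁻¹ * (z * b) * c⁻¹ := by group
      _ = _ := by rw [e1]; group
  rw [mul_inv_cancel, mul_one] at hbc
  have h1 : b * c⁻¹ = 1 := by
    refine h.B_S (mul_mem hb (inv_mem hc)) ?_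
    rw [hbc]
    exact mul_mem (mul_mem (inv_mem (h.ZS hz)) (h.ZS hz')) (h.co_mem_S hg.mem hc)
  have h2 : ⁅g, c⁆ ∈ Z := by
    have : ⁅g, c⁆ = (z⁻¹ * z')⁻¹ * (b * c⁻¹) := by rw [hbc]; group
    rw [this, h1, mul_one]
    exact inv_mem (mul_mem (inv_mem hz) hz')
  have h3 : c = 1 := by
    by_contra hne
    exact hg.f_not hc hne h2
  rw [h3, inv_one, mul_one] at h1
  rw [h1, mul_one]; exact hz

/-- all such `g` conjugate `Z B` to the same group -/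
theorem Gx.same [Finite G] {h : AD M B Z S} {g k : G} (hg : Gx h g) (hk : Gx h k) (hb : b₁ ∈ B) (hb1 : b₁ ≠ 1) :
    g⁻¹ * k ∈ h.X := by
  have h1 : ∀ b ∈ B, k * b * k⁻¹ ∈ cj g h.E := by
    intro b hbB
    by_cases hbone : b = 1
    · rw [hbone]
      have : k * 1 * k⁻¹ = 1 := by group
      rw [this]; exact one_mem _
    have h2 : k * b * k⁻¹ ∈ h.XB := conj_mem_of_cj hk.nrm (h.B_XB hbB)
    rcases hg.inv_or hb hb1 h2 (by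
      calc k * b * k⁻¹ * (k * b * k⁻¹) = k * (b * b) * k⁻¹ := by group
        _ = 1 := by rw [h.BB b hbB]; group) with h3 | h3
    · exfalso
      apply hk.f_not hbB hbone
      refine h.mem_E_S ?_ (h.co_mem_S hk.mem hbB)
      rw [commutatorElement_def]
      exact mul_mem h3 (inv_mem (le_mulSub_right hbB))
    · exact h3
  refine h.mem_X_of_E (mul_mem (inv_mem hg.mem) hk.mem) fun b hbB => ?_
  have h2 := h1 b hbB
  rw [mem_cj] at h2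
  have e : g⁻¹ * k * b * (g⁻¹ * k)⁻¹ = g⁻¹ * (k * b * k⁻¹) * g := by group
  rw [e]; exact h2

end AD

end Cfsg.Agent.OddHalf.D3.BEven
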