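import Cfsg.Agent.OddHalf.D3.BEven.AlphaShape

/-!
# ODD D3 (b), even centre, (alpha): the two ends (`2 < |B|`)
-/

set_option autoImplicit false

namespace Cfsg.Agent.OddHalf.D3.BEven

open Cfsg.Agent.OddHalf.D3.ThreeDefs Cfsg.Agent.OddHalf.D3.ThreeFam Cfsg.Agent.OddHalf.D3.ThreeMain
  Cfsg.Agent.OddHalf.D3.ThreeEnd Cfsg.Agent.OddHalf.D3.BTwo
open scoped commutatorElement

universe u

variable {G : Type u} [Group G]

namespace AD

variable {M B Z S : Subgroup G} {b₁ : G}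

theorem conj_mem_M (h : AD M B Z S) {b m : G} (hb : b ∈ B) (hm : m ∈ M) : b * m * b⁻¹ ∈ M :=
  conj_mem_of_cj (h.nrm b hb) hm

/-! ### the case `S ≠ X` -/

/-- `X` is defined by one `b ≠ 1` -/
theorem Gx.X_of_one [Finite G] {h : AD M B Z S} {g : G} (hg : Gx h g) (hB : 2 < Nat.card B) {b : G} (hb : b ∈ B) (hb1 : b ≠ 1)
    {s : G} (hs : s ∈ S) (hsb : ⁅s, b⁆ ∈ Z) : s ∈ h.X := by
  rcases hg.shape hB hb hb1 s hs with h1 | h1
  · exact h1
  exfalso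
  apply hg.f_not hb hb1
  obtain ⟨a, ha⟩ : ∃ a, a = g⁻¹ * s := ⟨_, rfl⟩
  rw [← ha] at h1
  have e : s = g * a := by rw [ha]; group
  rw [e, co_mul_left (h.Zc _ (h1.2 b hb))] at hsb
  have e2 : ⁅g, b⁆ = (⁅g, b⁆ * ⁅a, b⁆) * ⁅a, b⁆⁻¹ := by group
  rw [e2]
  exact mul_mem hsb (inv_mem (h1.2 b hb))

/-- `[s, b] ∈ Z ∪ Z [g, b]` -/
theorem Gx.co_or [Finite G] {h : AD M B Z S} {g : G} (hg : Gx h g) (hB : 2 < Nat.card B) {b : G} (hb : b ∈ B) (hb1 : b ≠ 1)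
    {s : G} (hs : s ∈ S) : ⁅s, b⁆ ∈ Z ∨ ∃ z ∈ Z, ⁅s, b⁆ = ⁅g, b⁆ * z := by
  rcases hg.shape hB hb hb1 s hs with h1 | h1
  · exact Or.inl (h1.2 b hb)
  right
  obtain ⟨a, ha⟩ : ∃ a, a = g⁻¹ * s := ⟨_, rfl⟩
  rw [← ha] at h1
  have e : s = g * a := by rw [ha]; group
  exact ⟨⁅a, b⁆, h1.2 b hb, by rw [e, co_mul_left (h.Zc _ (h1.2 b hb))]⟩

theorem conj_X_of_S [Finite G] (h : AD M B Z S) (hB : 2 < Nat.card B) (hb : b₁ ∈ B) (hb1 : b₁ ≠ 1) {s x : G} (hs : s ∈ S)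
    (hx : x ∈ h.X) : s * x * s⁻¹ ∈ h.X := by
  have e : s * x * s⁻¹ = ⁅s, x⁆ * x := by rw [commutatorElement_def]; group
  rw [e]
  exact mul_mem (h.Z_le_X (h.comm_S hB hb hb1 s hs x hx.1)) hx

theorem Gx.mul_of_not [Finite G] {h : AD M B Z S} {g : G} (hg : Gx h g) (hB : 2 < Nat.card B) (hb : b₁ ∈ B) (hb1 : b₁ ≠ 1)
    {s t : G} (hs : s ∈ S) (ht : t ∈ S) (hsX : s ∉ h.X) (htX : t ∉ h.X) : s * t ∈ h.X := by
  have h1 := (hg.shape hB hb hb1 s hs).resolve_left hsX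
  have h2 := (hg.shape hB hb hb1 t ht).resolve_left htX
  have hgg : g * g ∈ h.X := by
    rcases hg.shape hB hb hb1 _ (mul_mem hg.mem hg.mem) with h3 | h3
    · exact h3
    · exfalso
      apply hg.not
      rwa [inv_mul_cancel_left] at h3
  have e : s * t = (g * g) * (g⁻¹ * (g⁻¹ * s) * g⁻¹⁻¹) * (g⁻¹ * t) := by group
  rw [e]
  exact mul_mem (mul_mem hgg (h.conj_X_of_S hB hb hb1 (inv_mem hg.mem) h1)) h2

/-- `b` and its conjugates give `X` -/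
theorem mem_cj_X_iff (h : AD M B Z S) {u b : G} (huS : cj u S = S)
    (hX : ∀ s ∈ S, ⁅s, b⁆ ∈ Z → s ∈ h.X) (hb : b ∈ B) {x : G} : x ∈ cj u h.X ↔ x ∈ S ∧ ⁅x, u * b * u⁻¹⁆ ∈ Z := by
  have e : ∀ x, ⁅u⁻¹ * x * u, b⁆ ∈ Z ↔ ⁅x, u * b * u⁻¹⁆ ∈ Z := by
    intro x
    have e1 : ⁅x, u * b * u⁻¹⁆ = u * ⁅u⁻¹ * x * u, b⁆ * u⁻¹ := by simp only [commutatorElement_def]; group
    constructor
    · intro h1
      rw [e1, h.Zn h1]
      have : ⁅u⁻¹ * x * u, b⁆ * u * u⁻¹ = ⁅u⁻¹ * x * u, b⁆ := by group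
      rw [this]; exact h1
    · intro h1
      have e2 : ⁅u⁻¹ * x * u, b⁆ = u⁻¹ * (⁅x, u * b * u⁻¹⁆ * u) := by rw [e1]; group
      rw [e2, h.Zc _ h1]
      have : u⁻¹ * (u * ⁅x, u * b * u⁻¹⁆) = ⁅x, u * b * u⁻¹⁆ := by group
      rw [this]; exact h1
  have hS : u⁻¹ * x * u ∈ S ↔ x ∈ S := by
    rw [← mem_cj, huS]
  rw [mem_cj]
  constructor
  · intro h1
    exact ⟨hS.mp h1.1, (e x).mp (h1.2 b hb)⟩
  · rintro ⟨h1, h2⟩
    exact hX _ (hS.mpr h1) ((e x).mpr h2)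

theorem pow_swap {b c : G} (hb : b * b = 1) (hc : c * c = 1) (k : ℕ) :
    (b * c) ^ (2 * k + 1) = b * ((c * b) ^ k * c * ((c * b) ^ k)⁻¹) := by
  have h1 : ((c * b) ^ k)⁻¹ = (b * c) ^ k := by
    rw [← inv_pow, mul_inv_rev, inv_of_sq hb, inv_of_sq hc]
  have h2 : ∀ k : ℕ, b * (c * b) ^ k = (b * c) ^ k * b := by
    intro k
    induction k with
    | zero => simp
    | succ k ih =>
      calc b * (c * b) ^ (k + 1) = (b * (c * b) ^ k) * (c * b) := by rw [pow_succ]; group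
        _ = ((b * c) ^ k * b) * (c * b) := by rw [ih]
        _ = (b * c) ^ k * (b * c) * b := by group
        _ = _ := by rw [← pow_succ]
  rw [h1]
  calc (b * c) ^ (2 * k + 1) = (b * c) ^ k * (b * c) * (b * c) ^ k := by
        rw [← pow_succ, ← pow_add]; congr 1; omega
    _ = ((b * c) ^ k * b) * c * (b * c) ^ k := by group
    _ = (b * (c * b) ^ k) * c * (b * c) ^ k := by rw [h2]
    _ = _ := by group

/-- the normaliser of `S` in `M` normalises `X` -/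
theorem Gx.cj_X [Finite G] {h : AD M B Z S} {g : G} (hg : Gx h g) (hB : 2 < Nat.card B) {n : G} (hn : n ∈ M)
    (hnS : cj n S = S) : cj n h.X = h.X := by
  -- an element `b ≠ 1` with `[g, b] ∈ cj n X`
  obtain ⟨b, hb, hb1, hp⟩ : ∃ b ∈ B, b ≠ 1 ∧ ⁅g, b⁆ ∈ cj n h.X := by
    obtain ⟨c1, hc1, hc11⟩ : ∃ c ∈ B, c ≠ 1 := by
      by_contra hcon
      push Not at hcon
      have : B = ⊥ := (Subgroup.eq_bot_iff_forall B).mpr hcon
      rw [this, Subgroup.card_bot] at hB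
      omega
    obtain ⟨c2, hc2, hc21, hc22⟩ : ∃ c ∈ B, c ≠ 1 ∧ c ≠ c1 := by
      by_contra hcon
      push Not at hcon
      have hle : Nat.card B ≤ 2 := by
        classical
        let φ : B → Bool := fun b => decide ((b : G) = 1)
        have hφ : Function.Injective φ := by
          rintro ⟨a, ha⟩ ⟨b, hb⟩ hab
          apply Subtype.ext
          change a = b
          by_cases h1 : a = 1
          · by_cases h2 : b = 1
            · rw [h1, h2]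
            · simp [φ, h1, h2] at hab
          · by_cases h2 : b = 1
            · simp [φ, h1, h2] at hab
            · rw [hcon a ha h1, hcon b hb h2]
        have := Nat.card_le_card_of_injective φ hφ
        rwa [Nat.card_eq_fintype_card (α := Bool), Fintype.card_bool] at this
      omega
    by_cases h1 : ⁅g, c1⁆ ∈ cj n h.X
    · exact ⟨c1, hc1, hc11, h1⟩
    by_cases h2 : ⁅g, c2⁆ ∈ cj n h.X
    · exact ⟨c2, hc2, hc21, h2⟩
    refine ⟨c1 * c2, mul_mem hc1 hc2, fun h0 => hc22 ?_, ?_⟩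
    · rw [eq_inv_of_mul_eq_one_right h0, h.inv_of_B hc1]
    · obtain ⟨z, hz, e⟩ := hg.f_mul hc1 hc2
      rw [e]
      have hS1 : ∀ c ∈ B, n⁻¹ * ⁅g, c⁆ * n ∈ S := by
        intro c hc
        rw [← mem_cj, hnS]
        exact h.co_mem_S hg.mem hc
      rw [mem_cj] at h1 h2 ⊢
      have h3 := hg.mul_of_not hB hc1 hc11 (hS1 c1 hc1) (hS1 c2 hc2) h1 h2
      have e2 : n⁻¹ * (z * (⁅g, c1⁆ * ⁅g, c2⁆)) * n = z * ((n⁻¹ * ⁅g, c1⁆ * n) * (n⁻¹ * ⁅g, c2⁆ * n)) := by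
        calc n⁻¹ * (z * (⁅g, c1⁆ * ⁅g, c2⁆)) * n = (n⁻¹ * z) * (⁅g, c1⁆ * ⁅g, c2⁆) * n := by group
          _ = (z * n⁻¹) * (⁅g, c1⁆ * ⁅g, c2⁆) * n := by rw [h.Zc z hz n⁻¹]
          _ = _ := by group
      rw [e2]
      exact mul_mem (h.Z_le_X hz) h3
  have hXb : ∀ s ∈ S, ⁅s, b⁆ ∈ Z → s ∈ h.X := fun s hs h1 => hg.X_of_one hB hb hb1 hs h1
  have hZX' : ∀ z ∈ Z, z ∈ cj n h.X := by
    intro z hz
    rw [mem_cj]
    have : n⁻¹ * z * n = z := by rw [h.Zn hz]; group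
    rw [this]; exact h.Z_le_X hz
  have hX'S : cj n h.X ≤ S := by
    have := cj_mono (g := n) h.X_le
    rwa [hnS] at this
  -- `b` normalises `cj n X`
  have hbX' : cj b (cj n h.X) = cj n h.X := by
    have key : ∀ x ∈ cj n h.X, b * x * b⁻¹ ∈ cj n h.X := by
      intro x hx
      have e : b * x * b⁻¹ = ⁅x, b⁆⁻¹ * x := by rw [commutatorElement_def]; group
      rw [e]
      refine mul_mem (inv_mem ?_) hx
      rcases hg.co_or hB hb hb1 (hX'S hx) with h1 | ⟨z, hz, h1⟩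
      · exact hZX' _ h1
      · rw [h1]; exact mul_mem hp (hZX' z hz)
    refine Subgroup.eq_of_le_of_card_ge ?_ (card_cj _ _).ge
    intro x hx
    rw [mem_cj] at hx
    have := key _ hx
    have e : b * (b⁻¹ * x * b) * b⁻¹ = x := by group
    rwa [e] at this
  have hbX : cj b h.X = h.X := h.BX b hb
  -- the conjugate `b'` of `b`
  obtain ⟨b', hb'⟩ : ∃ b', b' = n * b * n⁻¹ := ⟨_, rfl⟩
  have hb'2 : b' * b' = 1 := by
    rw [hb']
    calc n * b * n⁻¹ * (n * b * n⁻¹) = n * (b * b) * n⁻¹ := by group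
      _ = 1 := by rw [h.BB b hb]; group
  have hb'X' : cj b' (cj n h.X) = cj n h.X := by
    rw [hb', ← cj_mul]
    have e : n * b * n⁻¹ * n = n * b := by group
    rw [e, cj_mul, hbX]
  have hbS : cj b S = S := h.BS b hb
  have hb'S : cj b' S = S := by
    rw [hb']
    exact cj_mul_eq (cj_mul_eq hnS hbS) (cj_inv_eq hnS)
  -- `c = b b'`
  have hcM : b * b' ∈ M := by
    have e : b * b' = (b * n * b⁻¹) * n⁻¹ := by
      rw [hb']
      calc b * (n * b * n⁻¹) = b * n * b⁻¹ * (b * b) * n⁻¹ := by group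
        _ = _ := by rw [h.BB b hb]; group
    rw [e]
    exact mul_mem (h.conj_mem_M hb hn) (inv_mem hn)
  obtain ⟨m, ⟨k, hk⟩, hcm⟩ := exists_odd_pow h.syl hcM (cj_mul_eq hbS hb'S)
  rw [hk, pow_swap (h.BB b hb) hb'2] at hcm
  obtain ⟨w, hw⟩ : ∃ w, w = (b' * b) ^ k := ⟨_, rfl⟩
  rw [← hw] at hcm
  have hpow : ∀ {P : Subgroup G}, cj b P = P → cj b' P = P → cj w P = P := by
    intro P h1 h2
    rw [hw]
    exact cj_of_mem_normalizer (pow_mem (mem_normalizer_of_cj (cj_mul_eq h2 h1)) k)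
  have hwS : cj w S = S := hpow hbS hb'S
  have hwX' : cj w (cj n h.X) = cj n h.X := hpow hbX' hb'X'
  -- `w b' w⁻¹ = b σ`
  obtain ⟨σ, hσ⟩ : ∃ σ, σ = b * (w * b' * w⁻¹) := ⟨_, rfl⟩
  rw [← hσ] at hcm
  have e1 : (w * n) * b * (w * n)⁻¹ = b * σ := by
    calc (w * n) * b * (w * n)⁻¹ = w * b' * w⁻¹ := by rw [hb']; group
      _ = (b * b) * (w * b' * w⁻¹) := by rw [h.BB b hb, one_mul]
      _ = _ := by rw [hσ]; group
  have h2 : cj (w * n) h.X = h.X := by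
    ext x
    rw [h.mem_cj_X_iff (cj_mul_eq hwS hnS) hXb hb, e1]
    constructor
    · rintro ⟨hx, h3⟩
      have h4 := h.comm_S hB hb hb1 x hx σ hcm
      rw [co_mul_right (h.Zc _ h4)] at h3
      refine hXb x hx ?_
      have e : ⁅x, b⁆ = (⁅x, b⁆ * ⁅x, σ⁆) * ⁅x, σ⁆⁻¹ := by group
      rw [e]; exact mul_mem h3 (inv_mem h4)
    · intro hx
      have h4 := h.comm_S hB hb hb1 x hx.1 σ hcm
      refine ⟨hx.1, ?_⟩
      rw [co_mul_right (h.Zc _ h4)]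
      exact mul_mem (hx.2 b hb) h4
  rw [cj_mul, hwX'] at h2
  exact h2

/-- the case `S ≠ X` -/
theorem le_X [Finite G] (h : AD M B Z S) (hB : 2 < Nat.card B) : S ≤ h.X := by
  by_contra hle
  obtain ⟨g, hg⟩ := h.exists_Gx hle
  obtain ⟨b₁, hb, hb1⟩ : ∃ c ∈ B, c ≠ 1 := by
    by_contra hcon
    push Not at hcon
    have : B = ⊥ := (Subgroup.eq_bot_iff_forall B).mpr hcon
    rw [this, Subgroup.card_bot] at hB
    omega
  apply hle
  refine focal h.perf h.syl (fun z hz m _ => h.Zc z hz m) (h.comm_S hB hb hb1) h.Z_le_X ?_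
  intro s hs n hn hnS
  have hnX := hg.cj_X hB hn hnS
  have hiff : ∀ x, n * x * n⁻¹ ∈ h.X ↔ x ∈ h.X := by
    intro x
    constructor
    · intro h1
      rw [← hnX, mem_cj] at h1
      have e : n⁻¹ * (n * x * n⁻¹) * n = x := by group
      rwa [e] at h1
    · intro h1; exact conj_mem_of_cj hnX h1
  have hnsS : n * s * n⁻¹ ∈ S := conj_mem_of_cj hnS hs
  rw [commutatorElement_def]
  by_cases hsX : s ∈ h.X
  · exact mul_mem ((hiff s).mpr hsX) (inv_mem hsX)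
  · exact hg.mul_of_not hB hb hb1 hnsS (inv_mem hs) (fun h1 => hsX ((hiff s).mp h1)) (fun h1 => hsX (by
      have := inv_mem h1; rwa [inv_inv] at this))

end AD

end Cfsg.Agent.OddHalf.D3.BEven
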