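import Cfsg.Agent.OddHalf.D3.BEven.AlphaBase

/-!
# ODD D3 (b), even centre, (alpha): `S = X` or `S = X ∪ g X`, and `S / Z` is abelian
-/

set_option autoImplicit false

namespace Cfsg.Agent.OddHalf.D3.BEven

open Cfsg.Agent.OddHalf.D3.ThreeDefs Cfsg.Agent.OddHalf.D3.ThreeFam Cfsg.Agent.OddHalf.D3.ThreeMain
  Cfsg.Agent.OddHalf.D3.ThreeEnd Cfsg.Agent.OddHalf.D3.BTwo
open scoped commutatorElement

universe u

variable {G : Type u} [Group G]

namespace AD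

variable {M B Z S : Subgroup G} {b₁ : G}

theorem cj_XB_of_mem (h : AD M B Z S) {x : G} (hx : x ∈ h.XB) : cj x h.XB = h.XB := cj_eq_of_mem hx

/-- the `S`-part of an element of `S B` normalising a subgroup which contains `B` -/
theorem split_W (h : AD M B Z S) {T : Subgroup G} (hBT : B ≤ T) {t : G} (ht : t ∈ h.W) (htT : cj t T = T) :
    ∃ s ∈ S, ∃ b ∈ B, t = s * b ∧ cj s T = T := by
  obtain ⟨s, hs, b, hb, rfl⟩ := ht
  refine ⟨s, hs, b, hb, rfl, ?_⟩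
  have e : s = s * b * b⁻¹ := by group
  rw [e, cj_mul, cj_inv_eq (cj_eq_of_mem (hBT hb)), htT]

theorem exists_Gx [Finite G] (h : AD M B Z S) (hne : ¬ S ≤ h.X) : ∃ g, Gx h g := by
  obtain ⟨t, ht, htX, htn⟩ := exists_norm h.W_two h.XB_le (fun hle => hne fun s hs =>
    h.mem_XB_S (hle (le_mulSub_left hs)) hs)
  obtain ⟨s, hs, b, hb, rfl, hsn⟩ := h.split_W h.B_XB ht htn
  exact ⟨s, hs, fun hsX => htX (mul_mem (h.X_XB hsX) (h.B_XB hb)), hsn⟩

theorem Gx.or_of_nrm [Finite G] {h : AD M B Z S} {g : G} (hg : Gx h g) (hb : b₁ ∈ B) (hb1 : b₁ ≠ 1) {s : G} (hs : s ∈ S)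
    (hsn : cj s h.XB = h.XB) : s ∈ h.X ∨ g⁻¹ * s ∈ h.X := by
  by_cases hsX : s ∈ h.X
  · exact Or.inl hsX
  · exact Or.inr (hg.same ⟨hs, hsX, hsn⟩ hb hb1)

/-- **`S = X ∪ g X`** -/
theorem Gx.shape [Finite G] {h : AD M B Z S} {g : G} (hg : Gx h g) (hB : 2 < Nat.card B) (hb : b₁ ∈ B) (hb1 : b₁ ≠ 1) :
    ∀ s ∈ S, s ∈ h.X ∨ g⁻¹ * s ∈ h.X := by
  obtain ⟨T, hT⟩ : ∃ T : Subgroup G, T = h.W ⊓ Subgroup.normalizer (h.XB : Set G) := ⟨_, rfl⟩
  have hmem : ∀ x, x ∈ T ↔ x ∈ h.W ∧ cj x h.XB = h.XB := by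
    intro x
    rw [hT, Subgroup.mem_inf]
    exact ⟨fun hx => ⟨hx.1, cj_of_mem_normalizer hx.2⟩, fun hx => ⟨hx.1, mem_normalizer_of_cj hx.2⟩⟩
  have hXT : h.XB ≤ T := fun x hx => (hmem x).mpr ⟨h.XB_le hx, cj_eq_of_mem hx⟩
  have hgT : g ∈ T := (hmem g).mpr ⟨le_mulSub_left hg.mem, hg.nrm⟩
  -- elements of `T`
  have hT2 : ∀ x ∈ T, x ∈ h.XB ∨ (g⁻¹ * x ∈ h.XB ∧ cj x h.E = cj g h.E) := by
    intro x hx
    obtain ⟨hxW, hxn⟩ := (hmem x).mp hx
    obtain ⟨s, hs, b, hbB, rfl, hsn⟩ := h.split_W h.B_XB hxW hxn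
    rcases hg.or_of_nrm hb hb1 hs hsn with h1 | h1
    · exact Or.inl (mul_mem (h.X_XB h1) (h.B_XB hbB))
    · right
      refine ⟨?_, ?_⟩
      · have e : g⁻¹ * (s * b) = (g⁻¹ * s) * b := by group
        rw [e]; exact mul_mem (h.X_XB h1) (h.B_XB hbB)
      · have e : s * b = g * ((g⁻¹ * s) * b) := by group
        rw [e, cj_mul, h.cjE_of_XB (mul_mem (h.X_XB h1) (h.B_XB hbB))]
  suffices hW : h.W ≤ T by
    intro s hs
    exact hg.or_of_nrm hb hb1 hs ((hmem s).mp (hW (le_mulSub_left hs))).2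
  by_contra hne
  obtain ⟨t, ht, htT, htn⟩ := exists_norm h.W_two (by rw [hT]; exact inf_le_left) hne
  obtain ⟨k, hk, b, hbB, rfl, hkn⟩ := h.split_W (h.B_XB.trans hXT) ht htn
  have hkT : k ∉ T := fun h1 => htT (mul_mem h1 (hXT (h.B_XB hbB)))
  have hkE : cj k h.E ≤ T := by
    have := cj_mono (g := k) (h.E_le.trans hXT)
    rwa [hkn] at this
  have hsq : ∀ x ∈ cj k h.E, x * x = 1 := by
    intro x hx
    rw [mem_cj] at hx
    have h1 := h.E_sq _ hx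
    calc x * x = k * (k⁻¹ * x * k * (k⁻¹ * x * k)) * k⁻¹ := by group
      _ = 1 := by rw [h1]; group
  have hcomm : ∀ x ∈ cj k h.E, ∀ y ∈ cj k h.E, x * y = y * x := fun x hx y hy => comm_of_sq hsq hx hy
  by_cases hle : cj k h.E ≤ h.XB
  · -- `cj k E = E` or `cj g E`
    have hor : cj k h.E ≤ h.E ∨ cj k h.E ≤ cj g h.E := by
      by_contra hcon
      push Not at hcon
      obtain ⟨x, hx, hxE⟩ := SetLike.not_le_iff_exists.mp hcon.1
      obtain ⟨y, hy, hyE⟩ := SetLike.not_le_iff_exists.mp hcon.2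
      have hx' := (hg.inv_or hb hb1 (hle hx) (hsq x hx)).resolve_left hxE
      have hy' := (hg.inv_or hb hb1 (hle hy) (hsq y hy)).resolve_right hyE
      rcases hg.inv_or hb hb1 (hle (mul_mem hx hy)) (hsq _ (mul_mem hx hy)) with h1 | h1
      · apply hxE
        have e : x = x * y * y⁻¹ := by group
        rw [e]; exact mul_mem h1 (inv_mem hy')
      · apply hyE
        have e : y = x⁻¹ * (x * y) := by group
        rw [e]; exact mul_mem (inv_mem hx') h1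
    rcases hor with h1 | h1
    · have h2 : cj k h.E = h.E := Subgroup.eq_of_le_of_card_ge h1 (card_cj _ _).ge
      exact hkT (hXT (h.X_XB (h.mem_X_of_cj hk h2)))
    · have h2 : cj k h.E = cj g h.E := Subgroup.eq_of_le_of_card_ge h1 (by rw [card_cj, card_cj])
      have h3 : cj (g⁻¹ * k) h.E = h.E := by rw [cj_mul, h2, cj_inv_cj]
      have h4 := h.mem_X_of_cj (mul_mem (inv_mem hg.mem) hk) h3
      apply hkT
      have e : k = g * (g⁻¹ * k) := by group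
      rw [e]; exact mul_mem hgT (hXT (h.X_XB h4))
  · obtain ⟨e, he, heX⟩ := SetLike.not_le_iff_exists.mp hle
    have heT := (hT2 e (hkE he)).resolve_left heX
    -- the intersection is in `Z`
    have hF : ∀ x ∈ cj k h.E, x ∈ h.XB → x ∈ Z := by
      intro x hx hxX
      have hxe : e * x * e⁻¹ = x := by rw [hcomm e he x hx]; group
      rcases hg.inv_or hb hb1 hxX (hsq x hx) with h1 | h1
      · refine hg.disj h1 ?_
        rw [← heT.2, ← hxe]
        exact conj_mem_cj h1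
      · refine hg.disj ?_ h1
        rw [← heT.2, mem_cj] at h1
        have e1 : e⁻¹ * x * e = x := by
          calc e⁻¹ * x * e = e⁻¹ * (e * x * e⁻¹) * e := by rw [hxe]
            _ = x := by group
        rwa [e1] at h1
    have hoff : ∀ y ∈ cj k h.E, y ∉ h.XB → e⁻¹ * y ∈ Z := by
      intro y hy hyX
      refine hF _ (mul_mem (inv_mem he) hy) ?_
      have h1 := ((hT2 y (hkE hy)).resolve_left hyX).1
      have e1 : e⁻¹ * y = (g⁻¹ * e)⁻¹ * (g⁻¹ * y) := by group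
      rw [e1]; exact mul_mem (inv_mem heT.1) h1
    classical
    let φ : cj k h.E → Bool × Z := fun y =>
      if hy : (y : G) ∈ h.XB then (false, ⟨y, hF y y.2 hy⟩) else (true, ⟨e⁻¹ * y, hoff y y.2 hy⟩)
    have hφ : Function.Injective φ := by
      intro y y' hyy
      by_cases h1 : (y : G) ∈ h.XB
      · by_cases h2 : (y' : G) ∈ h.XB
        · simp only [φ, dif_pos h1, dif_pos h2, Prod.mk.injEq, Subtype.mk.injEq, true_and] at hyy
          exact Subtype.ext hyy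
        · simp [φ, dif_pos h1, dif_neg h2] at hyy
      · by_cases h2 : (y' : G) ∈ h.XB
        · simp [φ, dif_neg h1, dif_pos h2] at hyy
        · simp only [φ, dif_neg h1, dif_neg h2, Prod.mk.injEq, Subtype.mk.injEq, true_and] at hyy
          exact Subtype.ext (mul_left_cancel hyy)
    have h1 := Nat.card_le_card_of_injective φ hφ
    rw [card_cj, h.card_E, Nat.card_prod, Nat.card_eq_fintype_card (α := Bool), Fintype.card_bool, mul_comm 2] at h1
    have h2 : 0 < Nat.card Z := Nat.card_pos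
    have h3 := Nat.le_of_mul_le_mul_left h1 h2
    omega

/-- the centraliser of `t` modulo `Z` -/
def CZ (h : AD M B Z S) (t : G) : Subgroup G where
  carrier := {s | ⁅s, t⁆ ∈ Z}
  one_mem' := by
    change ⁅(1 : G), t⁆ ∈ Z
    rw [commutatorElement_one_left]; exact one_mem _
  mul_mem' := by
    intro a b ha hb
    change ⁅a * b, t⁆ ∈ Z
    rw [co_mul_left (h.Zc _ hb)]
    exact mul_mem ha hb
  inv_mem' := by
    intro a ha
    change ⁅a⁻¹, t⁆ ∈ Z
    have : ⁅a⁻¹, t⁆ = ⁅a, t⁆⁻¹ := by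
      calc ⁅a⁻¹, t⁆ = a⁻¹ * (⁅a, t⁆⁻¹ * a) := by simp only [commutatorElement_def]; group
        _ = a⁻¹ * (a * ⁅a, t⁆⁻¹) := by rw [h.Zc _ (inv_mem ha)]
        _ = _ := by group
    rw [this]; exact inv_mem ha

theorem mem_CZ (h : AD M B Z S) {s t : G} : s ∈ h.CZ t ↔ ⁅s, t⁆ ∈ Z := Iff.rfl

theorem mem_CZ_comm (h : AD M B Z S) {s t : G} : s ∈ h.CZ t ↔ t ∈ h.CZ s := by
  have key : ∀ s t : G, ⁅s, t⁆ ∈ Z → ⁅t, s⁆ ∈ Z := by
    intro s t hst
    rw [← commutatorElement_inv]; exact inv_mem hst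
  exact ⟨key s t, key t s⟩

/-- **`S / Z` is abelian** -/
theorem comm_S [Finite G] (h : AD M B Z S) (hB : 2 < Nat.card B) (hb : b₁ ∈ B) (hb1 : b₁ ≠ 1) :
    ∀ s ∈ S, ∀ t ∈ S, ⁅s, t⁆ ∈ Z := by
  by_cases hle : S ≤ h.X
  · exact fun s hs t ht => h.comm_mem hb hb1 (hle hs) (hle ht)
  obtain ⟨g, hg⟩ := h.exists_Gx hle
  have hsh := hg.shape hB hb hb1
  have hgg : g * g ∈ h.X := by
    rcases hsh _ (mul_mem hg.mem hg.mem) with h1 | h1
    · exact h1
    · exfalso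
      apply hg.not
      rwa [inv_mul_cancel_left] at h1
  have hgf : ∀ b ∈ B, ⁅g, b⁆ ∈ h.CZ g := by
    intro b hbB
    rw [h.mem_CZ_comm, h.mem_CZ]
    have h1 := hgg.2 b hbB
    have e : ⁅g * g, b⁆ = g * ⁅g, b⁆ * g⁻¹ * ⁅g, b⁆ := by simp only [commutatorElement_def]; group
    rw [e] at h1
    have h2 := h.sq_mem hb hb1 (hg.f_mem hbB)
    have e2 : ⁅g, ⁅g, b⁆⁆ = (g * ⁅g, b⁆ * g⁻¹ * ⁅g, b⁆) * (⁅g, b⁆ * ⁅g, b⁆)⁻¹ := by
      rw [commutatorElement_def g ⁅g, b⁆]; group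
    rw [e2]; exact mul_mem h1 (inv_mem h2)
  have hZC : ∀ z ∈ Z, ∀ t, z ∈ h.CZ t := by
    intro z hz t
    rw [h.mem_CZ, commutatorElement_eq_one_iff_mul_comm.mpr (h.Zc z hz t)]; exact one_mem _
  have hgX : ∀ x ∈ h.X, x ∈ h.CZ g := by
    intro x hx
    obtain ⟨b, hbB, hxb⟩ := hg.f_surj hb hb1 hx
    have e : x = (x * ⁅g, b⁆) * (⁅g, b⁆)⁻¹ := by group
    rw [e]
    exact mul_mem (hZC _ hxb g) (inv_mem (hgf b hbB))
  have h1 : ∀ x ∈ h.X, ∀ s ∈ S, s ∈ h.CZ x := by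
    intro x hx s hs
    rcases hsh s hs with h2 | h2
    · exact h.comm_mem hb hb1 h2 hx
    · have e : s = g * (g⁻¹ * s) := by group
      rw [e]
      exact mul_mem (h.mem_CZ_comm.mp (hgX x hx)) (h.comm_mem hb hb1 h2 hx)
  have h2 : ∀ s ∈ S, s ∈ h.CZ g := by
    intro s hs
    rcases hsh s hs with h2 | h2
    · exact hgX s h2
    · have e : s = g * (g⁻¹ * s) := by group
      rw [e]
      refine mul_mem ?_ (hgX _ h2)
      rw [h.mem_CZ, commutatorElement_self]; exact one_mem _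
  intro s hs t ht
  rw [← h.mem_CZ, h.mem_CZ_comm]
  rcases hsh t ht with h3 | h3
  · exact h.mem_CZ_comm.mp (h1 t h3 s hs)
  · have e : t = g * (g⁻¹ * t) := by group
    rw [e]
    exact mul_mem (h.mem_CZ_comm.mp (h2 s hs)) (h.mem_CZ_comm.mp (h1 _ h3 s hs))

end AD

end Cfsg.Agent.OddHalf.D3.BEven
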