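import Cfsg.Agent.OddHalf.D3.BEven.GrowE
import Cfsg.Agent.OddHalf.D3.EvMax

/-!
# ODD D3 (iii), even centre, `n = 2`, (mv)-world: (beta2) is impossible
-/

set_option autoImplicit false

namespace Cfsg.Agent.OddHalf.D3.BEven

open Cfsg Cfsg.Agent.OddHalf.D3.ThreeDefs Cfsg.Agent.OddHalf.D3.ThreeFam Cfsg.Agent.OddHalf.D3.ThreeMain
open Cfsg.Agent.OddHalf.D3.Swap Cfsg.Agent.OddHalf.D3.TwoCfg Cfsg.Agent.OddHalf.D3.TwoNF
open Cfsg.Agent.OddHalf.D3.EvDefs
open Cfsg.Agent.OddHalf.D3.BTwo (dbl mem_dbl)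
open Cfsg.Agent.OddHalf.D3.EvSwap (EFam2)
open Cfsg.Agent.OddHalf.D3.EvMax (EFam3 ECfg)

universe u

variable {G : Type u} [Group G]

namespace BE

variable {L : Bool → Bool → Subgroup G} {T : Subgroup G} {g : Bool → Bool → G} [Finite G]

/-- the `T`-invariant Sylow 2-subgroup of `L a i` containing `g a i` -/
theorem exists_R (h : BE L T g) (a i : Bool) : ∃ R, IsSyl R (L a i) ∧ (∀ t ∈ T, cj t R = R) ∧ g a i ∈ R := by
  obtain ⟨S0, hS0, hTS0, hgS0⟩ := h.exS a i
  let W := dbl T (g a i) (h.gT a i) (h.gs a i)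
  have hgW : g a i ∈ W := Or.inr (by rw [inv_mul_cancel]; exact one_mem _)
  have hW : IsPGroup 2 W := by
    refine hS0.to_le ?_
    rintro x (hx | hx)
    · exact hTS0 hx
    · have : x = g a i * ((g a i)⁻¹ * x) := by group
      rw [this]
      exact mul_mem hgS0 (hTS0 hx)
  have hWL : ∀ w ∈ W, cj w (L a i) = L a i := by
    rintro x (hx | hx)
    · exact h.nrm x hx a i
    · have : x = g a i * ((g a i)⁻¹ * x) := by group
      rw [this]
      exact cj_mul_eq (cj_eq_of_mem (h.gm a i)) (h.nrm _ hx a i)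
  obtain ⟨P, hPL, hP, hPn, hPc⟩ := exists_inv_syl hW hWL
  have hS : IsSyl P (L a i) := ⟨hPL, hP, hPc⟩
  refine ⟨P, hS, fun t ht => hPn t (Or.inl ht), ?_⟩
  -- `g ∈ P`
  have hz : ∀ w ∈ Subgroup.zpowers (g a i), cj w P = P := fun w hw =>
    hPn w ((Subgroup.zpowers_le.mpr hgW) hw)
  have h1 := hS.eq (mulSub_le hPL (Subgroup.zpowers_le.mpr (h.gm a i)))
    (isPGroup_mulSub (h := hz) hP (hW.to_le (Subgroup.zpowers_le.mpr hgW))) le_mulSub_left
  rw [← h1]
  exact le_mulSub_right (Subgroup.mem_zpowers _)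

/-- **the end of (beta2)** -/
theorem contra (h : BE L T g) {a i i' : Bool} (hi : i ≠ i') (hp : ⁅L a i, L a i⁆ = L a i) {z : G} (hz : z ∈ T)
    (hz1 : z ∈ L a i) (hz2 : z ∈ L a i') (hzn : z ≠ 1) : False := by
  obtain ⟨R, hR, hRT, hgR⟩ := h.exists_R a i
  have h3 : 2 < Nat.card ↥(T ⊓ L a i) := by
    have h4 := h.card_DD_lt a a i
    have h5 : 1 < Nat.card (DD L T a) := by
      rw [Finite.one_lt_card_iff_nontrivial]
      exact ⟨⟨⟨z, mem_DD' hi hz hz1 hz2⟩, 1, fun h2 => hzn (congrArg Subtype.val h2)⟩⟩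
    omega
  refine EvMax.syl_not_comm hp hR hz1 (h.el a i z hz hz1) hzn ?_ (h.abel h3 hR.2.1 hR.1 hRT hgR)
  exact fun x hx => (h.comm a i i' hi x hx z hz2).symm

end BE

variable {𝓒 : Set (Set (Subgroup G))} {Q : Subgroup G}

/-- `cj y A = B` maps the class of `A` to the class of `B` -/
theorem cjs_of_cj (F : EFam 𝓒) {Λ Λ' : Set (Subgroup G)} (hΛ : Λ ∈ 𝓒) (hΛ' : Λ' ∈ 𝓒) {A B : Subgroup G} (hA : A ∈ Λ)
    (hB : B ∈ Λ') {y : G} (h : cj y A = B) : cjs y Λ = Λ' := by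
  refine F.class_unique (F.conj y Λ hΛ) hΛ' (A := B) ?_ hB
  rw [← h]
  exact cj_mem_cjs hA

/-- the other members -/
theorem cj_other (F : EF2 𝓒) {Λ Λ' : Set (Subgroup G)} (hΛ : Λ ∈ 𝓒) (hΛ' : Λ' ∈ 𝓒) {A A' B B' : Subgroup G}
    (hA : A ∈ Λ) (hA' : A' ∈ Λ) (hAA : A ≠ A') (hB : B ∈ Λ') (hB' : B' ∈ Λ') (hBB : B ≠ B') {y : G}
    (h : cj y A = B) : cj y A' = B' := by
  have h1 := cjs_of_cj F.toEFam hΛ hΛ' hA hB h
  have h2 : cj y A' ∈ Λ' := by rw [← h1]; exact cj_mem_cjs hA'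
  have h3 : cj y A' ≠ B := by
    rw [← h]
    intro h0
    exact hAA (cj_injective y h0).symm
  rcases F.le2 Λ' hΛ' B hB B' hB' (cj y A') h2 with h4 | h4 | h4
  · exact absurd h4 hBB
  · exact absurd h4.symm h3
  · exact h4.symm

/-- **(beta2) is impossible** -/
theorem beta2_false [Finite G] (F : EF2 𝓒) (C : B2 𝓒 Q) : False := by
  obtain ⟨Λ, hΛ, Λ', hΛ', hne, hQΛ, hQΛ'⟩ := C.ex
  obtain ⟨L1, hL1, L2, hL2, M1, hM1, M2, hM2, hL21, hM21, g1, g2, h1, h2, w1, w2, v1, v2, s1, s2⟩ :=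
    exists_conf F C hΛ hΛ' hne hQΛ hQΛ'
  let L : Bool → Bool → Subgroup G := fun a i => bif a then (bif i then M2 else M1) else (bif i then L2 else L1)
  let gg : Bool → Bool → G := fun a i => bif a then (bif i then h2 else h1) else (bif i then g2 else g1)
  let Cl : Bool → Set (Subgroup G) := fun a => bif a then Λ' else Λ
  have hCl : ∀ a, Cl a ∈ 𝓒 := by intro a; cases a <;> assumption
  have hmem : ∀ a i, L a i ∈ Cl a := by intro a i; cases a <;> cases i <;> assumption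
  have hdiff : ∀ a i i', i ≠ i' → L a i ≠ L a i' := by
    intro a i i' hi
    cases a <;> cases i <;> cases i' <;> first | exact absurd rfl hi | exact hL21 | exact Ne.symm hL21 | exact hM21 | exact Ne.symm hM21
  have hCne : ∀ a b, Cl a = Cl b → a = b := by
    intro a b hab
    cases a <;> cases b <;> first | rfl | exact absurd hab hne | exact absurd hab.symm hne
  have hwit : ∀ a i, Wit Q (L a i) (gg a i) := by intro a i; cases a <;> cases i <;> assumption
  have hQ : ∀ a, Q ≤ Nm (Cl a) := by intro a; cases a <;> assumption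
  have hgcomm : ∀ a i i', i ≠ i' → gg a i * gg a i' = gg a i' * gg a i := by
    intro a i i' hi
    exact F.comm (Cl a) (hCl a) (L a i) (hmem a i) (L a i') (hmem a i') (hdiff a i i' hi) _ (hwit a i).mem _ (hwit a i').mem
  have hsw : ∀ a b, a ≠ b → cj (gg b false * gg b true) (L a false) = L a true := by
    intro a b hab
    cases a <;> cases b <;> first | exact absurd rfl hab | exact s1 | exact s2
  have hother : ∀ i : Bool, ∃ i', i ≠ i' := fun i => BE.exists_ne i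
  -- an element of `Q ∩ L b k` centralises the other member
  have hQC : ∀ b k k', k ≠ k' → ∀ x ∈ Q, x ∈ L b k → x ∈ QC Q (L b k') := by
    intro b k k' hk x hx hxL
    exact inf_le_QC F.toEFam (hCl b) (hmem b k') (hmem b k) (hdiff b k k' hk) (Subgroup.mem_inf.mpr ⟨hx, hxL⟩)
  have B : BE L Q gg := by
    refine { comm := ?_, inj := ?_, dis := ?_, fus := ?_, mem := ?_, two := C.pg, nrm := ?_, el := ?_, nz := ?_,
             prod := ?_, gm := ?_, gT := ?_, gn := ?_, gs := ?_, sw := ?_ }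
    · intro a i i' hi
      exact F.comm (Cl a) (hCl a) (L a i) (hmem a i) (L a i') (hmem a i') (hdiff a i i' hi)
    · intro a i b k h0
      have hab : a = b := hCne a b (F.class_unique (hCl a) (hCl b) (hmem a i) (by rw [h0]; exact hmem b k))
      subst hab
      refine ⟨rfl, ?_⟩
      by_contra hik
      exact hdiff a i k hik h0
    · intro a i b k hab x hx hxa hxb
      obtain ⟨k', hk⟩ := hother k
      exact tri_QC F.toEFam C.pg (hCl a) (hCl b) (fun h0 => hab (hCne a b h0)) (hmem a i) (hmem b k') x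
        (hQC b k k' hk x hx hxb) hxa
    · intro a i b k x y hx hxa hx1 hy i'
      obtain ⟨n, hn2, hn1⟩ := exists_pow_inv C.pg hx hx1
      have hu : InU (cjs y (Cl a)) (y * x ^ n * y⁻¹) :=
        (F.inU_of_mem (hCl a) (hmem a i) (pow_mem hxa n) hn2 hn1).conj y
      have hv : InU (Cl b) (y * x ^ n * y⁻¹) := by
        refine F.inU_of_mem (hCl b) (hmem b k) ?_ hu.1 hu.2.1
        rw [← conj_pow]; exact pow_mem hy n
      have e : cjs y (Cl a) = Cl b := F.uniq _ (F.conj y _ (hCl a)) _ (hCl b) _ hu hv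
      have h3 : cj y (L a i') ∈ Cl b := by rw [← e]; exact cj_mem_cjs (hmem a i')
      rcases F.le2 (Cl b) (hCl b) (L b false) (hmem b false) (L b true) (hmem b true) _ h3 with h4 | h4 | h4
      · exact absurd h4 (hdiff b false true (by decide))
      · exact ⟨false, h4.symm⟩
      · exact ⟨true, h4.symm⟩
    · intro S hS hQS a i b k hab d hd hdL x hx hxL hx1 hdx
      obtain ⟨k', hk⟩ := hother k
      exact C.mem_of_comm F.toEFam (hCl a) (hCl b) (fun h0 => hab (hCne a b h0)) (hQ a) (hQ b) (hmem a i) (hmem b k') hS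
        hQS hd hdL (hQC b k k' hk x hx hxL) hx1 hdx
    · intro t ht a i
      exact hQ a ht (L a i) (hmem a i)
    · intro a i x hx hxL
      exact C.el (Cl a) (hCl a) (hQ a) (L a i) (hmem a i) x hx hxL
    · intro a i i' hi
      obtain ⟨x, hx, hxL, hxn⟩ := C.nz (Cl a) (hCl a) (hQ a) (L a i) (hmem a i)
      refine ⟨x, hx, hxL, fun h0 => hxn ?_⟩
      exact (C.mem_D F.toEFam (hCl a) (hQ a) (hmem a i) (hmem a i') (Ne.symm (hdiff a i i' hi)) hx).mp ⟨hxL, h0⟩
    · intro a i i' b k hab hi x hx hxL y hy hyL hxy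
      exact eq_one_of_prod' F.toEFam C (hCl a) (hCl b) (fun h0 => hab (hCne a b h0)) (hQ a) (hQ b) (hmem a i) (hmem a i')
        (Ne.symm (hdiff a i i' hi)) (hmem b k) hx hxL hy hyL hxy
    · exact fun a i => (hwit a i).mem
    · exact fun a i => (hwit a i).norm
    · exact fun a i => (hwit a i).not
    · exact fun a i => (hwit a i).sq
    · intro a b hab k k' hk i i' hi
      have e : gg b k * gg b k' = gg b false * gg b true := by
        cases k <;> cases k'
        · exact absurd rfl hk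
        · rfl
        · exact hgcomm b true false (by decide)
        · exact absurd rfl hk
      rw [e]
      cases i <;> cases i'
      · exact absurd rfl hi
      · exact hsw a b hab
      · exact cj_other F (hCl a) (hCl a) (hmem a false) (hmem a true) (hdiff a _ _ (by decide)) (hmem a true) (hmem a false)
          (hdiff a _ _ (by decide)) (hsw a b hab)
      · exact absurd rfl hi
  obtain ⟨z, hz, hzQ, hz1⟩ := C.zc Λ hΛ hQΛ
  obtain ⟨e1, e2⟩ := (C.mem_D F.toEFam hΛ hQΛ hL1 hL2 hL21 hzQ).mpr hz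
  exact B.contra (a := false) (i := false) (i' := true) (by decide)
    (EvDiag.perfect_iff.mpr (F.qs Λ hΛ L1 hL1).1) hzQ e1 e2 hz1

/-! ### From `EFam3` and `ECfg` -/

theorem ef2_of (F : EFam 𝓒) (h2 : ∀ Λ ∈ 𝓒, AtMostTwo Λ) : EF2 𝓒 := ⟨F, h2⟩

theorem mw_of [Finite G] (F : EFam3 𝓒) (C : ECfg 𝓒 Q) : MW 𝓒 Q where
  pg := C.pg
  mx := C.mx
  ex := C.ex
  wit := fun _ hc hQc _ hA => EvMax.wit F C hc hQc hA
  mv := fun _ hc _ hd hcd hQc hQd _ hA _ w => EvMax.wit_mv F C hc hd hcd hQc hQd hA w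
  zc := fun c hc hQc => by
    obtain ⟨z, hz, hz1, hzQ⟩ := C.inv c hc hQc
    exact ⟨z, hz, hzQ, hz1⟩

/-- (beta2), literal form -/
theorem beta2_false' [Finite G] (F : EFam3 𝓒) (C : ECfg 𝓒 Q) (h2 : ∀ Λ ∈ 𝓒, AtMostTwo Λ)
    (el : ∀ c ∈ 𝓒, Q ≤ Nm c → ∀ A ∈ c, ∀ x ∈ Q, x ∈ A → x * x = 1)
    (nz : ∀ c ∈ 𝓒, Q ≤ Nm c → ∀ A ∈ c, ∃ x ∈ Q, x ∈ A ∧ x ∉ Zc c) : False :=
  beta2_false (ef2_of F.toEFam h2) ⟨mw_of F C, el, nz⟩

end Cfsg.Agent.OddHalf.D3.BEven
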