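import Cfsg.Agent.OddHalf.D3.BTwo.Frob

/-!
# ODD D3 (iii), even centre, `n = 2`, (beta2): two elements acting as involutions on `B`, modulo a core
-/

set_option autoImplicit false

namespace Cfsg.Agent.OddHalf.D3.BEven

open Cfsg.Agent.OddHalf.D3.ThreeDefs
open Cfsg.Agent.OddHalf.D3.BTwo (dich)
open scoped commutatorElement

universe u

variable {G : Type u} [Group G]

theorem cj_of_forall [Finite G] {P : Subgroup G} {y : G} (h : ∀ x ∈ P, y * x * y⁻¹ ∈ P) : cj y P = P := by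
  refine Subgroup.eq_of_le_of_card_ge ?_ (card_cj y _).ge
  intro x hx
  rw [mem_cj] at hx
  have := h _ hx
  have e : y * (y⁻¹ * x * y) * y⁻¹ = x := by group
  rwa [e] at this

/-- the largest `Δ`-invariant subgroup of `V` -/
def Core (Δ V : Subgroup G) : Subgroup G where
  carrier := {w | ∀ y ∈ Δ, y * w * y⁻¹ ∈ V}
  one_mem' := fun y _ => by simp
  mul_mem' := by
    intro x x' hx hx' y hy
    have e : y * (x * x') * y⁻¹ = (y * x * y⁻¹) * (y * x' * y⁻¹) := by group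
    rw [e]; exact mul_mem (hx y hy) (hx' y hy)
  inv_mem' := by
    intro x hx y hy
    have e : y * x⁻¹ * y⁻¹ = (y * x * y⁻¹)⁻¹ := by group
    rw [e]; exact inv_mem (hx y hy)

theorem mem_Core {Δ V : Subgroup G} {w : G} : w ∈ Core Δ V ↔ ∀ y ∈ Δ, y * w * y⁻¹ ∈ V := Iff.rfl

theorem Core_le {Δ V : Subgroup G} : Core Δ V ≤ V := by
  intro w hw
  have := hw 1 (one_mem _)
  simpa using this

theorem Core_conj {Δ V : Subgroup G} {y w : G} (hy : y ∈ Δ) (hw : w ∈ Core Δ V) : y * w * y⁻¹ ∈ Core Δ V := by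
  intro x hx
  have e : x * (y * w * y⁻¹) * x⁻¹ = (x * y) * w * (x * y)⁻¹ := by group
  rw [e]; exact hw _ (mul_mem hx hy)

/-- the elements of `Δ` which are trivial on `B / W` -/
def NN (Δ B W : Subgroup G) (hB : ∀ y ∈ Δ, ∀ w ∈ B, y * w * y⁻¹ ∈ B) (hW : ∀ y ∈ Δ, ∀ w ∈ W, y * w * y⁻¹ ∈ W) :
    Subgroup Δ where
  carrier := {y | ∀ w ∈ B, ⁅(y : G), w⁆ ∈ W}
  one_mem' := fun w _ => by simp
  mul_mem' := by
    intro x y hx hy w hw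
    have e : ⁅((x * y : Δ) : G), w⁆ = ((x : G) * ⁅(y : G), w⁆ * (x : G)⁻¹) * ⁅(x : G), w⁆ := by
      simp only [commutatorElement_def]; push_cast; group
    rw [e]
    exact mul_mem (hW _ x.2 _ (hy w hw)) (hx w hw)
  inv_mem' := by
    intro y hy w hw
    have e : ⁅((y⁻¹ : Δ) : G), w⁆ = (y : G)⁻¹ * ⁅(y : G), w⁆⁻¹ * (y : G)⁻¹⁻¹ := by
      simp only [commutatorElement_def]; push_cast; group
    rw [e]
    exact hW _ (inv_mem y.2) _ (inv_mem (hy w hw))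

theorem mem_NN {Δ B W : Subgroup G} {hB : ∀ y ∈ Δ, ∀ w ∈ B, y * w * y⁻¹ ∈ B}
    {hW : ∀ y ∈ Δ, ∀ w ∈ W, y * w * y⁻¹ ∈ W} {y : Δ} : y ∈ NN Δ B W hB hW ↔ ∀ w ∈ B, ⁅(y : G), w⁆ ∈ W := Iff.rfl

instance {Δ B W : Subgroup G} {hB : ∀ y ∈ Δ, ∀ w ∈ B, y * w * y⁻¹ ∈ B}
    {hW : ∀ y ∈ Δ, ∀ w ∈ W, y * w * y⁻¹ ∈ W} : (NN Δ B W hB hW).Normal := ⟨by
  intro y hy x w hw
  have e : ⁅((x * y * x⁻¹ : Δ) : G), w⁆ = (x : G) * ⁅(y : G), (x : G)⁻¹ * w * (x : G)⁻¹⁻¹⁆ * (x : G)⁻¹ := by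
    simp only [commutatorElement_def]; push_cast; group
  rw [e]
  exact hW _ x.2 _ (hy _ (hB _ (inv_mem x.2) w hw))⟩

/-- relation of conjugates modulo `NN` -/
theorem conj_mod {Δ B W : Subgroup G} {hB : ∀ y ∈ Δ, ∀ w ∈ B, y * w * y⁻¹ ∈ B}
    {hW : ∀ y ∈ Δ, ∀ w ∈ W, y * w * y⁻¹ ∈ W} {y x x' : Δ}
    (h : (QuotientGroup.mk y : Δ ⧸ NN Δ B W hB hW) * QuotientGroup.mk x * (QuotientGroup.mk y)⁻¹ = QuotientGroup.mk x')
    {w : G} (hw : w ∈ B) :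
    ((y : G) * ⁅(x : G), w⁆ * (y : G)⁻¹) * ⁅(x' : G), (y : G) * w * (y : G)⁻¹⁆⁻¹ ∈ W := by
  have h1 : (QuotientGroup.mk (y * x * y⁻¹) : Δ ⧸ NN Δ B W hB hW) = QuotientGroup.mk x' := h
  have h2 : (y * x * y⁻¹) * x'⁻¹ ∈ NN Δ B W hB hW := by
    have h3 := (QuotientGroup.eq.mp h1.symm)
    have h4 := (inferInstance : (NN Δ B W hB hW).Normal).conj_mem _ h3 x'
    have e : x' * (x'⁻¹ * (y * x * y⁻¹)) * x'⁻¹ = (y * x * y⁻¹) * x'⁻¹ := by group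
    rwa [e] at h4
  have h3 := (mem_NN.mp h2) ((x' : G) * ((y : G) * w * (y : G)⁻¹) * (x' : G)⁻¹) (hB _ x'.2 _ (hB _ y.2 w hw))
  have e : ((y : G) * ⁅(x : G), w⁆ * (y : G)⁻¹) * ⁅(x' : G), (y : G) * w * (y : G)⁻¹⁆⁻¹ =
      ⁅(((y * x * y⁻¹) * x'⁻¹ : Δ) : G), (x' : G) * ((y : G) * w * (y : G)⁻¹) * (x' : G)⁻¹⁆ := by
    simp only [commutatorElement_def]; push_cast; group
  rw [e]; exact h3

/-- **the dichotomy** -/
theorem dichE [Finite G] {d e : G} {Δ B V : Subgroup G} (hΔ : Δ = Subgroup.closure {d, e})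
    (hB : ∀ y ∈ Δ, ∀ w ∈ B, y * w * y⁻¹ ∈ B) (hd : ∀ w ∈ B, (d * d) * w = w * (d * d))
    (he : ∀ w ∈ B, (e * e) * w = w * (e * e)) :
    (∃ f ∈ Δ, (∃ w ∈ B, ⁅f, w⁆ ∉ Core Δ V) ∧ (∀ y ∈ Δ, ∀ w ∈ B, y * ⁅f, w⁆ * y⁻¹ * ⁅f, y * w * y⁻¹⁆⁻¹ ∈ Core Δ V) ∧
      ∀ y ∈ Δ, ∀ w ∈ B, f * ⁅y, w⁆ * f⁻¹ * ⁅y, f * w * f⁻¹⁆⁻¹ ∈ Core Δ V) ∨
    ∃ y ∈ Δ, (∀ w ∈ B, y * ⁅d, w⁆ * y⁻¹ * ⁅e, y * w * y⁻¹⁆⁻¹ ∈ Core Δ V) ∧
      ∀ w ∈ B, y * ⁅e, w⁆ * y⁻¹ * ⁅d, y * w * y⁻¹⁆⁻¹ ∈ Core Δ V := by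
  have hW : ∀ y ∈ Δ, ∀ w ∈ Core Δ V, y * w * y⁻¹ ∈ Core Δ V := fun y hy w hw => Core_conj hy hw
  have hdΔ : d ∈ Δ := by rw [hΔ]; exact Subgroup.subset_closure (by simp)
  have heΔ : e ∈ Δ := by rw [hΔ]; exact Subgroup.subset_closure (by simp)
  let N := NN Δ B (Core Δ V) hB hW
  let π : Δ →* Δ ⧸ N := QuotientGroup.mk' N
  let d' : Δ := ⟨d, hdΔ⟩
  let e' : Δ := ⟨e, heΔ⟩
  have sq : ∀ x : Δ, (∀ w ∈ B, ((x : G) * x) * w = w * ((x : G) * x)) → π x * π x = 1 := by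
    intro x hx
    rw [← map_mul]
    refine (QuotientGroup.eq_one_iff _).mpr ?_
    refine mem_NN.mpr fun w hw => ?_
    have h1 : ⁅((x * x : Δ) : G), w⁆ = 1 := by
      rw [commutatorElement_def]
      push_cast
      rw [hx w hw]; group
    rw [h1]; exact one_mem _
  rcases dich (sq d' hd) (sq e' he) with ⟨F, hF, hF1, hFa, hFb⟩ | ⟨F, hF, hFa, hFb⟩
  · left
    obtain ⟨f, rfl⟩ := QuotientGroup.mk'_surjective N F
    -- `f` commutes with all elements modulo `N`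
    have hall : ∀ y : Δ, π f * π y = π y * π f := by
      have h1 : Δ ≤ ((Subgroup.centralizer ({π f} : Set (Δ ⧸ N))).comap π).map Δ.subtype := by
        conv_lhs => rw [hΔ]
        rw [Subgroup.closure_le]
        rintro x (rfl | rfl)
        · refine ⟨d', ?_, rfl⟩
          rw [SetLike.mem_coe, Subgroup.mem_comap, Subgroup.mem_centralizer_singleton_iff]
          exact hFa.symm
        · refine ⟨e', ?_, rfl⟩
          rw [SetLike.mem_coe, Subgroup.mem_comap, Subgroup.mem_centralizer_singleton_iff]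
          exact hFb.symm
      intro y
      obtain ⟨y', hy', hyy⟩ := h1 y.2
      have : y' = y := Subtype.ext hyy
      subst this
      rw [SetLike.mem_coe, Subgroup.mem_comap, Subgroup.mem_centralizer_singleton_iff] at hy'
      exact hy'.symm
    refine ⟨f, f.2, ?_, ?_, ?_⟩
    · by_contra hcon
      push Not at hcon
      apply hF1
      exact (QuotientGroup.eq_one_iff _).mpr (mem_NN.mpr hcon)
    · intro y hy w hw
      refine conj_mod (y := ⟨y, hy⟩) (x := f) (x' := f) (hB := hB) (hW := hW) ?_ hw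
      have := hall ⟨y, hy⟩
      change π ⟨y, hy⟩ * π f * (π ⟨y, hy⟩)⁻¹ = π f
      rw [← this]; group
    · intro y hy w hw
      refine conj_mod (y := f) (x := ⟨y, hy⟩) (x' := ⟨y, hy⟩) (hB := hB) (hW := hW) ?_ hw
      have := hall ⟨y, hy⟩
      change π f * π ⟨y, hy⟩ * (π f)⁻¹ = π ⟨y, hy⟩
      rw [this]; group
  · right
    obtain ⟨f, rfl⟩ := QuotientGroup.mk'_surjective N F
    exact ⟨f, f.2, fun w hw => conj_mod (y := f) (x := d') (x' := e') (hB := hB) (hW := hW) hFa hw,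
      fun w hw => conj_mod (y := f) (x := e') (x' := d') (hB := hB) (hW := hW) hFb hw⟩

end Cfsg.Agent.OddHalf.D3.BEven
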