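import Cfsg.Agent.OddHalf.D3.BTwo.NonElem
import Mathlib.GroupTheory.Focal

/-!
# ODD D3 (b), even centre: transfer modulo a central subgroup

`focal`: `M` perfect, `S ∈ Syl₂(M)`, `Z` central in `M`, `[S, S] ≤ Z ≤ D ≤ S`, `D` contains all `[n, s]`,
`n ∈ N_M(S)`, `s ∈ S`: then `D = S`.
`inner_of`: an element of `N_M(S)` trivial on `S / Z`, `Z` elementary and central, acts on `S` as an element of `S`.
-/

set_option autoImplicit false

namespace Cfsg.Agent.OddHalf.D3.BEven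

open Cfsg.Agent.OddHalf.D3.ThreeDefs Cfsg.Agent.OddHalf.D3.ThreeFam Cfsg.Agent.OddHalf.D3.ThreeMain
  Cfsg.Agent.OddHalf.D3.ThreeEnd Cfsg.Agent.OddHalf.D3.BTwo
open scoped commutatorElement

universe u

variable {G : Type u} [Group G]

theorem exists_sylow [Finite G] {K R : Subgroup G} (h : SylIn K R) : ∃ S : Sylow 2 K, (S : Subgroup K) = R.subgroupOf K := by
  have hR' : IsPGroup 2 (R.subgroupOf K) := h.two.comap_subtype
  obtain ⟨P, hP⟩ := hR'.exists_le_sylow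
  refine ⟨P, ?_⟩
  have h1 : Nat.card ((P : Subgroup K).map K.subtype) ≤ Nat.card R :=
    h.max _ (Subgroup.map_subtype_le _) (P.isPGroup'.map _)
  have h2 : Nat.card ((P : Subgroup K).map K.subtype) = Nat.card (P : Subgroup K) :=
    Nat.card_congr ((P : Subgroup K).equivMapOfInjective _ (Subgroup.subtype_injective K)).symm.toEquiv
  have h3 : Nat.card (R.subgroupOf K) = Nat.card R := Nat.card_congr (Subgroup.subgroupOfEquivOfLe h.le).toEquiv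
  symm
  exact Subgroup.eq_of_le_of_card_ge hP (by rw [← h2, h3]; exact h1)

theorem commutator_top {M : Subgroup G} (hM : ⁅M, M⁆ = M) : _root_.commutator M = ⊤ := by
  apply Subgroup.map_injective M.subtype_injective
  rw [Subgroup.map_subtype_commutator, hM, ← MonoidHom.range_eq_map, Subgroup.range_subtype]

/-- Burnside fusion modulo a central subgroup -/
theorem fus [Finite G] {M S Z : Subgroup G} (hS : SylIn M S) (hZ : ∀ z ∈ Z, ∀ m ∈ M, z * m = m * z)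
    (hc : ∀ s ∈ S, ∀ t ∈ S, ⁅s, t⁆ ∈ Z) {x m : G} (hx : x ∈ S) (hm : m ∈ M) (hmx : m * x * m⁻¹ ∈ S) :
    ∃ n ∈ M, cj n S = S ∧ (n * x * n⁻¹) * (m * x * m⁻¹)⁻¹ ∈ Z := by
  obtain ⟨y, hy⟩ : ∃ y, y = m * x * m⁻¹ := ⟨_, rfl⟩
  rw [← hy] at hmx ⊢
  let C : Subgroup G :=
    { carrier := {c | c ∈ M ∧ ⁅c, y⁆ ∈ Z}
      one_mem' := ⟨one_mem _, by rw [commutatorElement_one_left]; exact one_mem _⟩
      mul_mem' := by
        rintro a b ⟨ha, ha'⟩ ⟨hb, hb'⟩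
        refine ⟨mul_mem ha hb, ?_⟩
        have : ⁅a * b, y⁆ = ⁅b, y⁆ * ⁅a, y⁆ := by
          calc ⁅a * b, y⁆ = a * ⁅b, y⁆ * a⁻¹ * ⁅a, y⁆ := by simp only [commutatorElement_def]; group
            _ = ⁅b, y⁆ * a * a⁻¹ * ⁅a, y⁆ := by rw [hZ _ hb' _ ha]
            _ = _ := by group
        rw [this]; exact mul_mem hb' ha'
      inv_mem' := by
        rintro a ⟨ha, ha'⟩
        refine ⟨inv_mem ha, ?_⟩
        have : ⁅a⁻¹, y⁆ = ⁅a, y⁆⁻¹ := by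
          calc ⁅a⁻¹, y⁆ = a⁻¹ * ⁅a, y⁆⁻¹ * a := by simp only [commutatorElement_def]; group
            _ = a⁻¹ * (⁅a, y⁆⁻¹ * a) := by group
            _ = a⁻¹ * (a * ⁅a, y⁆⁻¹) := by rw [hZ _ (inv_mem ha') _ ha]
            _ = _ := by group
        rw [this]; exact inv_mem ha' }
  have hCM : C ≤ M := fun c hc => hc.1
  have hSC : S ≤ C := fun s hs => ⟨hS.le hs, hc s hs y hmx⟩
  have hmS : cj m S ≤ C := by
    intro t ht
    rw [mem_cj] at ht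
    have htM : t ∈ M := by
      have : t = m * (m⁻¹ * t * m) * m⁻¹ := by group
      rw [this]; exact mul_mem (mul_mem hm (hS.le ht)) (inv_mem hm)
    refine ⟨htM, ?_⟩
    have h1 := hc _ ht x hx
    have : ⁅t, y⁆ = ⁅m⁻¹ * t * m, x⁆ := by
      calc ⁅t, y⁆ = m * ⁅m⁻¹ * t * m, x⁆ * m⁻¹ := by rw [hy]; simp only [commutatorElement_def]; group
        _ = ⁅m⁻¹ * t * m, x⁆ * m * m⁻¹ := by rw [hZ _ h1 _ hm]
        _ = _ := by group
    rw [this]; exact h1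
  obtain ⟨c, hc', hcS⟩ := (hS.mono hCM hSC).conj hmS (isPGroup_cj hS.two m)
  refine ⟨c * m, mul_mem hc'.1 hm, ?_, ?_⟩
  · refine Subgroup.eq_of_le_of_card_ge ?_ (card_cj _ _).ge
    intro w hw
    rw [cj_mul, mem_cj] at hw
    have := hcS _ hw
    have e1 : c * (c⁻¹ * w * c) * c⁻¹ = w := by group
    rwa [e1] at this
  · have : (c * m * x * (c * m)⁻¹) * y⁻¹ = ⁅c, y⁆ := by rw [hy, commutatorElement_def]; group
    rw [this]; exact hc'.2

/-- **transfer modulo a central subgroup** -/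
theorem focal [Finite G] {M S Z D : Subgroup G} (hM : ⁅M, M⁆ = M) (hS : SylIn M S)
    (hZ : ∀ z ∈ Z, ∀ m ∈ M, z * m = m * z) (hc : ∀ s ∈ S, ∀ t ∈ S, ⁅s, t⁆ ∈ Z) (hZD : Z ≤ D)
    (hD : ∀ s ∈ S, ∀ n ∈ M, cj n S = S → ⁅n, s⁆ ∈ D) : S ≤ D := by
  haveI : Fact (Nat.Prime 2) := ⟨Nat.prime_two⟩
  obtain ⟨P, hP⟩ := exists_sylow hS
  have h1 := Subgroup.commutator_inf_eq_focalSubgroup P
  rw [commutator_top hM, top_inf_eq, Subgroup.focalSubgroup_def] at h1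
  have h2 : Subgroup.closure {g : M | g ∈ (P : Subgroup M) ∧ ∃ x ∈ (P : Subgroup M), ∃ w : M, g = ⁅x, w⁆} ≤ D.subgroupOf M := by
    rw [Subgroup.closure_le]
    rintro _ ⟨hg, x, hx, w, rfl⟩
    rw [hP] at hg hx
    have hx' : (x : G) ∈ S := hx
    have hg' : (x : G) * w * (x : G)⁻¹ * (w : G)⁻¹ ∈ S := hg
    have h3 : (w : G) * (x : G)⁻¹ * (w : G)⁻¹ ∈ S := by
      have : (w : G) * (x : G)⁻¹ * (w : G)⁻¹ = (x : G)⁻¹ * ((x : G) * w * (x : G)⁻¹ * (w : G)⁻¹) := by group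
      rw [this]; exact mul_mem (inv_mem hx') hg'
    obtain ⟨n, hn, hnS, hz⟩ := fus hS hZ hc (inv_mem hx') w.2 h3
    have h4 := hD x hx' n hn hnS
    change (x : G) * w * (x : G)⁻¹ * (w : G)⁻¹ ∈ D
    obtain ⟨z, hzz⟩ : ∃ z, z = (n * (x : G)⁻¹ * n⁻¹) * ((w : G) * (x : G)⁻¹ * (w : G)⁻¹)⁻¹ := ⟨_, rfl⟩
    rw [← hzz] at hz
    have e1 : (w : G) * (x : G)⁻¹ * (w : G)⁻¹ = z⁻¹ * (n * (x : G)⁻¹ * n⁻¹) := by rw [hzz]; group
    have e2 : (x : G) * w * (x : G)⁻¹ * (w : G)⁻¹ = z⁻¹ * ⁅n, (x : G)⁆⁻¹ := by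
      calc (x : G) * w * (x : G)⁻¹ * (w : G)⁻¹ = x * ((w : G) * (x : G)⁻¹ * (w : G)⁻¹) := by group
        _ = x * z⁻¹ * (n * (x : G)⁻¹ * n⁻¹) := by rw [e1]; group
        _ = z⁻¹ * x * (n * (x : G)⁻¹ * n⁻¹) := by rw [hZ _ (inv_mem hz) _ x.2]
        _ = _ := by rw [commutatorElement_def]; group
    rw [e2]
    exact mul_mem (inv_mem (hZD hz)) (inv_mem h4)
  intro s hs
  have h3 : (⟨s, hS.le hs⟩ : M) ∈ (P : Subgroup M) := by rw [hP]; exact hs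
  rw [h1] at h3
  exact h2 h3

/-- some odd power of an element of `N_M(S)` is in `S` -/
theorem exists_odd_pow [Finite G] {M S : Subgroup G} (hS : SylIn M S) {c : G} (hcM : c ∈ M) (hcS : cj c S = S) :
    ∃ m, Odd m ∧ c ^ m ∈ S := by
  obtain ⟨a, m, hm, hord⟩ := Nat.exists_eq_two_pow_mul_odd (orderOf_pos c).ne'
  refine ⟨m, hm, ?_⟩
  have h1 : (c ^ m) ^ 2 ^ a = 1 := by
    rw [← pow_mul, mul_comm, ← hord, pow_orderOf_eq_one]
  have hp : IsPGroup 2 (Subgroup.zpowers (c ^ m)) := by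
    intro x
    obtain ⟨k, hk⟩ := Subgroup.mem_zpowers_iff.mp x.2
    refine ⟨a, Subtype.ext ?_⟩
    push_cast
    rw [← hk, ← zpow_natCast, ← zpow_mul, mul_comm, zpow_mul, zpow_natCast, h1, one_zpow]
  have hmR : cj (c ^ m) S = S := by
    have h2 : c ^ m ∈ Subgroup.normalizer (S : Set G) := pow_mem (mem_normalizer_of_cj hcS) m
    exact cj_of_mem_normalizer h2
  have h2 := hS.eq_of_le (Q := mulSub S (Subgroup.zpowers (c ^ m)) (cj_zpowers hmR)) le_mulSub_left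
    (mulSub_le hS.le (by rw [Subgroup.zpowers_le]; exact pow_mem hcM m)) (isPGroup_mulSub hS.two hp)
  rw [← h2]
  exact le_mulSub_right (Subgroup.mem_zpowers _)

theorem pow_conj_of_central {c s : G} (h : c * ⁅c, s⁆ = ⁅c, s⁆ * c) (k : ℕ) : c ^ k * s * (c ^ k)⁻¹ = ⁅c, s⁆ ^ k * s := by
  induction k with
  | zero => simp
  | succ k ih =>
    have h1 : c * ⁅c, s⁆ ^ k = ⁅c, s⁆ ^ k * c := (Commute.pow_right (show Commute c ⁅c, s⁆ from h) k)
    calc c ^ (k + 1) * s * (c ^ (k + 1))⁻¹ = c * (c ^ k * s * (c ^ k)⁻¹) * c⁻¹ := by rw [pow_succ']; group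
      _ = c * ⁅c, s⁆ ^ k * s * c⁻¹ := by rw [ih]; group
      _ = ⁅c, s⁆ ^ k * c * s * c⁻¹ := by rw [h1]
      _ = ⁅c, s⁆ ^ k * ⁅c, s⁆ * s := by simp only [commutatorElement_def]; group
      _ = _ := by rw [← pow_succ]

/-- an element of `N_M(S)` which is trivial on `S / Z` acts on `S` as an element of `S` -/
theorem inner_of [Finite G] {M S Z : Subgroup G} (hS : SylIn M S) (hZ : ∀ z ∈ Z, ∀ m ∈ M, z * m = m * z)
    (hZZ : ∀ z ∈ Z, z * z = 1) {c : G} (hcM : c ∈ M) (hcS : cj c S = S) (hc : ∀ s ∈ S, ⁅c, s⁆ ∈ Z) :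
    ∃ σ ∈ S, ∀ s ∈ S, c * s * c⁻¹ = σ * s * σ⁻¹ := by
  obtain ⟨m, hm, hcm⟩ := exists_odd_pow hS hcM hcS
  refine ⟨c ^ m, hcm, fun s hs => ?_⟩
  have hz := hc s hs
  rw [pow_conj_of_central (hZ _ hz _ hcM).symm]
  obtain ⟨k, rfl⟩ := hm
  rw [pow_succ, pow_mul, pow_two, hZZ _ hz, one_pow, one_mul, commutatorElement_def]
  group

end Cfsg.Agent.OddHalf.D3.BEven
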