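import Cfsg.Agent.OddHalf.D3.EvDefs
import Cfsg.Agent.OddHalf.D3.TwoBB

/-!
# ODD D3 (iii), even centre, `n = 2`: the (mv)-world (texts of helper760, bb ODD 10166, 13086; helper159, bb ODD 10707)

`MW 𝓒 Q`: the maximal 2-subgroup `Q` normalising the members of two classes; every witness `s ∈ N_L(Q) - Q` moves
the other classes.
-/

set_option autoImplicit false

namespace Cfsg.Agent.OddHalf.D3.BEven

open Cfsg Cfsg.Agent.OddHalf.D3.ThreeDefs Cfsg.Agent.OddHalf.D3.ThreeFam Cfsg.Agent.OddHalf.D3.ThreeMain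
open Cfsg.Agent.OddHalf.D3.Swap Cfsg.Agent.OddHalf.D3.TwoCfg Cfsg.Agent.OddHalf.D3.TwoNF
open Cfsg.Agent.OddHalf.D3.EvDefs
open scoped commutatorElement

universe u

variable {G : Type u} [Group G]

/-- The frame of D3 (iii), even centre, `n = 2` -/
structure EF2 (𝓒 : Set (Set (Subgroup G))) : Prop extends EFam 𝓒 where
  le2 : ∀ Λ ∈ 𝓒, AtMostTwo Λ

/-- The (mv)-world -/
structure MW (𝓒 : Set (Set (Subgroup G))) (Q : Subgroup G) : Prop where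
  pg : IsPGroup 2 Q
  mx : ∀ c ∈ 𝓒, ∀ d ∈ 𝓒, c ≠ d → Q ≤ Nm c → Q ≤ Nm d → ∀ R : Subgroup G, IsPGroup 2 R → R ≤ Nm c → R ≤ Nm d →
    Nat.card R ≤ Nat.card Q
  ex : ∃ c ∈ 𝓒, ∃ d ∈ 𝓒, c ≠ d ∧ Q ≤ Nm c ∧ Q ≤ Nm d
  wit : ∀ c ∈ 𝓒, Q ≤ Nm c → ∀ A ∈ c, ∃ s, Wit Q A s
  mv : ∀ c ∈ 𝓒, ∀ d ∈ 𝓒, c ≠ d → Q ≤ Nm c → Q ≤ Nm d → ∀ A ∈ c, ∀ s, Wit Q A s → s ∉ St d
  zc : ∀ c ∈ 𝓒, Q ≤ Nm c → ∃ z ∈ Zc c, z ∈ Q ∧ z ≠ 1

variable {𝓒 : Set (Set (Subgroup G))} {Q : Subgroup G}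

/-! ### General facts on the frame -/

/-- an element normalising a member of a class with two members normalises all the members -/
theorem mem_Nm_of_cj (F : EF2 𝓒) {Λ : Set (Subgroup G)} (hΛ : Λ ∈ 𝓒) {A : Subgroup G} (hA : A ∈ Λ) {g : G}
    (hg : cj g A = A) : g ∈ Nm Λ := by
  have hSt : g ∈ St Λ := by
    rw [mem_St]
    refine F.class_unique (F.conj g Λ hΛ) hΛ (A := A) ?_ hA
    have h1 : cj g A ∈ cjs g Λ := cj_mem_cjs hA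
    rwa [hg] at h1
  obtain ⟨B, hB, hBA⟩ := F.two Λ hΛ A
  intro C hC
  rcases two_cases (F.le2 Λ hΛ) hA hB hBA hSt with ⟨h1, h2⟩ | ⟨h1, h2⟩
  · rcases F.le2 Λ hΛ A hA B hB C hC with h | h | h
    · exact absurd h.symm hBA
    · rw [← h]; exact h1
    · rw [← h]; exact h2
  · exact absurd (h1.symm.trans hg) hBA

/-- no element of the 2-group `Q` centralises members of two different classes -/
theorem eq_one_of_two (F : EFam 𝓒) (hQ : IsPGroup 2 Q) {c d : Set (Subgroup G)} (hc : c ∈ 𝓒) (hd : d ∈ 𝓒)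
    (hcd : c ≠ d) {A M : Subgroup G} (hA : A ∈ c) (hM : M ∈ d) {x : G} (hx : x ∈ QC Q A) (hx' : x ∈ QC Q M) : x = 1 := by
  by_contra h1
  obtain ⟨n, hn2, hn1⟩ := exists_pow_inv hQ (mem_QC.mp hx).1 h1
  refine hcd (F.uniq c hc d hd (x ^ n) ⟨hn2, hn1, A, hA, ?_⟩ ⟨hn2, hn1, M, hM, ?_⟩)
  · intro a ha
    have : Commute x a := (mem_QC.mp hx).2 a ha
    exact (this.pow_left n).eq
  · intro a ha
    have : Commute x a := (mem_QC.mp hx').2 a ha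
    exact (this.pow_left n).eq

/-- **C1** -/
theorem comm_of_two (F : EFam 𝓒) (hQ : IsPGroup 2 Q) {c d : Set (Subgroup G)} (hc : c ∈ 𝓒) (hd : d ∈ 𝓒)
    (hcd : c ≠ d) (hQc : Q ≤ Nm c) (hQd : Q ≤ Nm d) {A M : Subgroup G} (hA : A ∈ c) (hM : M ∈ d) {x y : G}
    (hx : x ∈ QC Q A) (hy : y ∈ QC Q M) : x * y = y * x := by
  have hxQ := (mem_QC.mp hx).1
  have hyQ := (mem_QC.mp hy).1
  have h1 : cj y (QC Q A) = QC Q A := by
    rw [cj_QC (cj_eq_of_mem hyQ), hQc hyQ A hA]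
  have h2 : cj x (QC Q M) = QC Q M := by
    rw [cj_QC (cj_eq_of_mem hxQ), hQd hxQ M hM]
  have h3 : ⁅x, y⁆ ∈ QC Q A := by
    have e : ⁅x, y⁆ = x * (y * x⁻¹ * y⁻¹) := by rw [commutatorElement_def]; group
    rw [e]
    exact mul_mem hx (conj_mem_of_cj h1 (inv_mem hx))
  have h4 : ⁅x, y⁆ ∈ QC Q M := by
    rw [commutatorElement_def]
    exact mul_mem (conj_mem_of_cj h2 hy) (inv_mem hy)
  have h5 := eq_one_of_two F hQ hc hd hcd hA hM h3 h4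
  rw [commutatorElement_def] at h5
  calc x * y = (x * y * x⁻¹ * y⁻¹) * (y * x) := by group
    _ = y * x := by rw [h5, one_mul]

/-- `Q ∩ A' ≤ Q ∩ C(A)` -/
theorem inf_le_QC (F : EFam 𝓒) {c : Set (Subgroup G)} (hc : c ∈ 𝓒) {A A' : Subgroup G} (hA : A ∈ c) (hA' : A' ∈ c)
    (hne : A' ≠ A) : Q ⊓ A' ≤ QC Q A := by
  intro x hx
  rw [Subgroup.mem_inf] at hx
  exact mem_QC.mpr ⟨hx.1, F.comm c hc A' hA' A hA hne x hx.2⟩

theorem tri_QC (F : EFam 𝓒) (hQ : IsPGroup 2 Q) {c d : Set (Subgroup G)} (hc : c ∈ 𝓒) (hd : d ∈ 𝓒) (hcd : c ≠ d)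
    {A M : Subgroup G} (hA : A ∈ c) (hM : M ∈ d) : ∀ x ∈ QC Q M, x ∈ A → x = 1 := by
  intro x hx hxA
  obtain ⟨A', hA', hne⟩ := F.two c hc A
  exact eq_one_of_two F hQ hc hd hcd hA' hM
    (mem_QC.mpr ⟨(mem_QC.mp hx).1, F.comm c hc A hA A' hA' (Ne.symm hne) x hxA⟩) hx

/-- (mv) -/
theorem rp_mv (F : EFam 𝓒) (hQ : IsPGroup 2 Q) {c d : Set (Subgroup G)} (hc : c ∈ 𝓒) (hd : d ∈ 𝓒)
    (hcd : c ≠ d) (hQd : Q ≤ Nm d) {A M : Subgroup G} (hA : A ∈ c) (hM : M ∈ d)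
    {s : G} (hs : cj s Q = Q) (hmv : cjs s d ≠ d) : RP Q A (QC Q M) s where
  le := QC_le
  tri := tri_QC F hQ hc hd hcd hA hM
  comm := by
    intro b hb b' hb'
    have h1 : s * b' * s⁻¹ ∈ QC Q (cj s M) := by
      rw [← cj_QC hs]; exact conj_mem_cj hb'
    exact comm_of_two F hQ hd (F.conj s d hd) (Ne.symm hmv) hQd (le_Nm_cjs hs hQd) hM (cj_mem_cjs hM) hb h1
  inj := by
    intro b hb h
    have h1 : s * b * s⁻¹ ∈ QC Q (cj s M) := by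
      rw [← cj_QC hs]; exact conj_mem_cj hb
    rw [h] at h1
    exact eq_one_of_two F hQ hd (F.conj s d hd) (Ne.symm hmv) hM (cj_mem_cjs hM) hb h1

/-- a power of a 2-element normalising `Q` is a witness -/
theorem exists_wit_pow (hQ : IsPGroup 2 Q) {A : Subgroup G} {p : G} (hp : p ∈ A) {k : ℕ} (hk : p ^ 2 ^ k ∈ Q)
    (hpQ : p ∉ Q) (hpc : cj p Q = Q) : ∃ n : ℕ, Wit Q A (p ^ n) := by
  have hcpow : ∀ n : ℕ, cj (p ^ n) Q = Q := by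
    intro n
    induction n with
    | zero => rw [pow_zero, cj_one]
    | succ n ih => rw [pow_succ]; exact cj_mul_eq ih hpc
  induction k with
  | zero => exact absurd (by simpa using hk) hpQ
  | succ k ih =>
    by_cases h2 : p ^ 2 ^ k ∈ Q
    · exact ih h2
    · refine ⟨2 ^ k, pow_mem hp _, hcpow _, h2, ?_⟩
      rw [← pow_add, ← two_mul, ← pow_succ']
      exact hk

/-! ### The (mv)-world -/

namespace MW

theorem other (C : MW 𝓒 Q) (c : Set (Subgroup G)) : ∃ d ∈ 𝓒, Q ≤ Nm d ∧ d ≠ c := by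
  obtain ⟨a, ha, b, hb, hab, hQa, hQb⟩ := C.ex
  by_cases h : a = c
  · exact ⟨b, hb, hQb, fun h' => hab (h.trans h'.symm)⟩
  · exact ⟨a, ha, hQa, h⟩

theorem rp (F : EFam 𝓒) (C : MW 𝓒 Q) {c d : Set (Subgroup G)} (hc : c ∈ 𝓒) (hd : d ∈ 𝓒)
    (hcd : c ≠ d) (hQc : Q ≤ Nm c) (hQd : Q ≤ Nm d) {A M : Subgroup G} (hA : A ∈ c) (hM : M ∈ d) {s : G}
    (w : Wit Q A s) : RP Q A (QC Q M) s :=
  rp_mv F C.pg hc hd hcd hQd hA hM w.norm (C.mv c hc d hd hcd hQc hQd A hA s w)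

theorem card_QC_le [Finite G] (F : EFam 𝓒) (C : MW 𝓒 Q) {c d : Set (Subgroup G)} (hc : c ∈ 𝓒) (hd : d ∈ 𝓒)
    (hcd : c ≠ d) (hQc : Q ≤ Nm c) (hQd : Q ≤ Nm d) {A M : Subgroup G} (hA : A ∈ c) (hM : M ∈ d) :
    Nat.card (QC Q M) ≤ Nat.card (Q ⊓ A : Subgroup G) := by
  obtain ⟨s, w⟩ := C.wit c hc hQc A hA
  exact (C.rp F hc hd hcd hQc hQd hA hM w).card_le (fun q hq => hQc hq A hA) w

theorem card_inf_le [Finite G] (F : EFam 𝓒) {c : Set (Subgroup G)} (hc : c ∈ 𝓒) {A A' : Subgroup G} (hA : A ∈ c)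
    (hA' : A' ∈ c) (hne : A' ≠ A) : Nat.card (Q ⊓ A : Subgroup G) ≤ Nat.card (QC Q A') :=
  Nat.card_le_card_of_injective _ (Subgroup.inclusion_injective (inf_le_QC F hc hA' hA (Ne.symm hne)))

/-- `|Q ∩ A| ≤ |Q ∩ M|` -/
theorem card_le [Finite G] (F : EFam 𝓒) (C : MW 𝓒 Q) {c d : Set (Subgroup G)} (hc : c ∈ 𝓒) (hd : d ∈ 𝓒)
    (hcd : c ≠ d) (hQc : Q ≤ Nm c) (hQd : Q ≤ Nm d) {A M : Subgroup G} (hA : A ∈ c) (hM : M ∈ d) :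
    Nat.card (Q ⊓ A : Subgroup G) ≤ Nat.card (Q ⊓ M : Subgroup G) := by
  obtain ⟨A', hA', hne⟩ := F.two c hc A
  exact (card_inf_le F hc hA hA' hne).trans (C.card_QC_le F hd hc (Ne.symm hcd) hQd hQc hM hA')

/-- all the groups `Q ∩ A` have the same order -/
theorem card_eq [Finite G] (F : EFam 𝓒) (C : MW 𝓒 Q) {c d : Set (Subgroup G)} (hc : c ∈ 𝓒) (hd : d ∈ 𝓒)
    (hQc : Q ≤ Nm c) (hQd : Q ≤ Nm d) {A M : Subgroup G} (hA : A ∈ c) (hM : M ∈ d) :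
    Nat.card (Q ⊓ A : Subgroup G) = Nat.card (Q ⊓ M : Subgroup G) := by
  by_cases hcd : c = d
  · subst hcd
    obtain ⟨e, he, hQe, hec⟩ := C.other c
    obtain ⟨N, hN, -⟩ := F.two e he ⊥
    exact le_antisymm ((C.card_le F hc he (Ne.symm hec) hQc hQe hA hN).trans (C.card_le F he hc hec hQe hQc hN hM))
      ((C.card_le F hc he (Ne.symm hec) hQc hQe hM hN).trans (C.card_le F he hc hec hQe hQc hN hA))
  · exact le_antisymm (C.card_le F hc hd hcd hQc hQd hA hM) (C.card_le F hd hc (Ne.symm hcd) hQd hQc hM hA)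

/-- `C_Q(A') = Q ∩ A` -/
theorem QC_eq [Finite G] (F : EFam 𝓒) (C : MW 𝓒 Q) {c : Set (Subgroup G)} (hc : c ∈ 𝓒) (hQc : Q ≤ Nm c)
    {A A' : Subgroup G} (hA : A ∈ c) (hA' : A' ∈ c) (hne : A' ≠ A) : QC Q A' = Q ⊓ A := by
  obtain ⟨d, hd, hQd, hdc⟩ := C.other c
  obtain ⟨M, hM, -⟩ := F.two d hd ⊥
  symm
  refine Subgroup.eq_of_le_of_card_ge (inf_le_QC F hc hA' hA (Ne.symm hne)) ?_
  rw [C.card_eq F hc hd hQc hQd hA hM]
  exact C.card_QC_le F hd hc hdc hQd hQc hM hA'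

/-- the homomorphism `b ↦ b⁻¹ (s b s⁻¹)`, `Q ∩ M → Q ∩ A` -/
theorem rp' (F : EFam 𝓒) (C : MW 𝓒 Q) {c d : Set (Subgroup G)} (hc : c ∈ 𝓒) (hd : d ∈ 𝓒)
    (hcd : c ≠ d) (hQc : Q ≤ Nm c) (hQd : Q ≤ Nm d) {A M : Subgroup G} (hA : A ∈ c) (hM : M ∈ d) {s : G}
    (w : Wit Q A s) : RP Q A (Q ⊓ M) s := by
  obtain ⟨M', hM', hne⟩ := F.two d hd M
  exact (C.rp F hc hd hcd hQc hQd hA hM' w).mono (inf_le_QC F hd hM' hM (Ne.symm hne))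

/-- the groups `Q ∩ A` are abelian -/
theorem abelian (F : EFam 𝓒) (C : MW 𝓒 Q) {c : Set (Subgroup G)} (hc : c ∈ 𝓒)
    (hQc : Q ≤ Nm c) {A : Subgroup G} (hA : A ∈ c) : ∀ x ∈ Q ⊓ A, ∀ y ∈ Q ⊓ A, x * y = y * x := by
  obtain ⟨d, hd, hQd, hdc⟩ := C.other c
  obtain ⟨M, hM, -⟩ := F.two d hd ⊥
  obtain ⟨s, w⟩ := C.wit d hd hQd M hM
  exact (C.rp' F hd hc hdc hQd hQc hM hA w).abelian (fun q hq => hQd hq M hM) w

/-- a witness inverts `Q ∩ A` -/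
theorem inverts [Finite G] (F : EFam 𝓒) (C : MW 𝓒 Q) {c : Set (Subgroup G)} (hc : c ∈ 𝓒) (hQc : Q ≤ Nm c)
    {A : Subgroup G} (hA : A ∈ c) {s : G} (w : Wit Q A s) {a : G} (ha : a ∈ Q) (haA : a ∈ A) : s * a * s⁻¹ = a⁻¹ := by
  obtain ⟨d, hd, hQd, hdc⟩ := C.other c
  obtain ⟨M, hM, -⟩ := F.two d hd ⊥
  obtain ⟨M', hM', hne'⟩ := F.two d hd M
  obtain ⟨A', hA', hne⟩ := F.two c hc A
  have hQA : ∀ q ∈ Q, cj q A = A := fun q hq => hQc hq A hA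
  obtain ⟨b, hb, hba⟩ := (C.rp' F hc hd (Ne.symm hdc) hQc hQd hA hM w).surj hQA w
    (C.card_eq F hc hd hQc hQd hA hM).le ha haA
  have hs2 : s * s ∈ QC Q A' := inf_le_QC F hc hA' hA (Ne.symm hne)
    (Subgroup.mem_inf.mpr ⟨w.sq, mul_mem w.mem w.mem⟩)
  have hb2 : b ∈ QC Q M' := inf_le_QC F hd hM' hM (Ne.symm hne') hb
  have h1 := comm_of_two F C.pg hc hd (Ne.symm hdc) hQc hQd hA' hM' hs2 hb2
  rw [← hba]
  calc s * (b⁻¹ * (s * b * s⁻¹)) * s⁻¹ = (s * b * s⁻¹)⁻¹ * ((s * s * b) * (s * s)⁻¹) := by group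
    _ = (s * b * s⁻¹)⁻¹ * ((b * (s * s)) * (s * s)⁻¹) := by rw [h1]
    _ = (b⁻¹ * (s * b * s⁻¹))⁻¹ := by group

/-- `Q ∩ A ∩ A'` is elementary -/
theorem D_sq [Finite G] (F : EFam 𝓒) (C : MW 𝓒 Q) {c : Set (Subgroup G)} (hc : c ∈ 𝓒) (hQc : Q ≤ Nm c)
    {A A' : Subgroup G} (hA : A ∈ c) (hA' : A' ∈ c) (hne : A' ≠ A) {x : G} (hx : x ∈ Q) (hxA : x ∈ A) (hxA' : x ∈ A') :
    x * x = 1 := by
  obtain ⟨s, w⟩ := C.wit c hc hQc A hA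
  have h1 := C.inverts F hc hQc hA w hx hxA
  have h2 := F.comm c hc A hA A' hA' (Ne.symm hne) s w.mem x hxA'
  have h3 : s * x * s⁻¹ = x := by rw [h2]; group
  rw [h3] at h1
  nth_rw 1 [h1]
  exact inv_mul_cancel x

/-- `Q ∩ A ∩ A' = Q ∩ Z_c` -/
theorem mem_D [Finite G] (F : EFam 𝓒) (C : MW 𝓒 Q) {c : Set (Subgroup G)} (hc : c ∈ 𝓒) (hQc : Q ≤ Nm c)
    {A A' : Subgroup G} (hA : A ∈ c) (hA' : A' ∈ c) (hne : A' ≠ A) {x : G} (hx : x ∈ Q) :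
    (x ∈ A ∧ x ∈ A') ↔ x ∈ Zc c := by
  constructor
  · rintro ⟨h1, h2⟩
    exact mem_Zc_of_mem (F.comm c hc) hA h1 (C.D_sq F hc hQc hA hA' hne hx h1 h2)
      fun a ha => (F.comm c hc A hA A' hA' (Ne.symm hne) a ha x h2).symm
  · intro h
    constructor
    · have h1 : x ∈ QC Q A' := mem_QC.mpr ⟨hx, h.2.2 A' hA'⟩
      rw [C.QC_eq F hc hQc hA hA' hne] at h1
      exact (Subgroup.mem_inf.mp h1).2
    · have h1 : x ∈ QC Q A := mem_QC.mpr ⟨hx, h.2.2 A hA⟩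
      rw [C.QC_eq F hc hQc hA' hA (Ne.symm hne)] at h1
      exact (Subgroup.mem_inf.mp h1).2

/-- the elements of `A ∩ St d` in a 2-group over `Q` are in `Q` -/
theorem inf_St_le [Finite G] (C : MW 𝓒 Q) {c d : Set (Subgroup G)} (hc : c ∈ 𝓒) (hd : d ∈ 𝓒)
    (hcd : c ≠ d) (hQc : Q ≤ Nm c) (hQd : Q ≤ Nm d) {A : Subgroup G} (hA : A ∈ c) {S : Subgroup G} (hS : IsPGroup 2 S)
    (hQS : Q ≤ S) {x : G} (hx : x ∈ S) (hxA : x ∈ A) (hxd : x ∈ St d) : x ∈ Q := by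
  set S' : Subgroup G := S ⊓ (A ⊓ St d) with hS'
  have hn : ∀ q ∈ Q, cj q S' = S' := by
    intro q hq
    rw [hS', cj_inf, cj_inf, cj_eq_of_mem (hQS hq), hQc hq A hA, cj_eq_of_mem (Nm_le_St d (hQd hq))]
  have hxS' : x ∈ S' := Subgroup.mem_inf.mpr ⟨hx, Subgroup.mem_inf.mpr ⟨hxA, hxd⟩⟩
  by_contra hxQ
  have hT := isPGroup_mulSub (h := hn) (hS.to_le inf_le_left) C.pg
  obtain ⟨t, ⟨p, hp, q, hq, rfl⟩, htn, htc⟩ := exists_norm hT le_mulSub_right (fun hle => hxQ (hle (le_mulSub_left hxS')))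
  have hpQ : p ∉ Q := fun h => htn (mul_mem h hq)
  have hpc : cj p Q = Q := by
    have h1 : p = p * q * q⁻¹ := by group
    rw [h1]
    exact cj_mul_eq htc (cj_eq_of_mem (inv_mem hq))
  rw [hS', Subgroup.mem_inf, Subgroup.mem_inf] at hp
  obtain ⟨k, hk⟩ := hS ⟨p, hp.1⟩
  have hk' : p ^ 2 ^ k = 1 := congrArg Subtype.val hk
  obtain ⟨n, w⟩ := exists_wit_pow C.pg hp.2.1 (k := k) (by rw [hk']; exact one_mem _) hpQ hpc
  exact C.mv c hc d hd hcd hQc hQd A hA _ w (pow_mem hp.2.2 n)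

/-- an element of `A` in a 2-group over `Q` commuting with `1 ≠ e ∈ C_Q(M)` is in `Q` -/
theorem mem_of_comm [Finite G] (F : EFam 𝓒) (C : MW 𝓒 Q) {c d : Set (Subgroup G)} (hc : c ∈ 𝓒) (hd : d ∈ 𝓒)
    (hcd : c ≠ d) (hQc : Q ≤ Nm c) (hQd : Q ≤ Nm d) {A M : Subgroup G} (hA : A ∈ c) (hM : M ∈ d) {S : Subgroup G}
    (hS : IsPGroup 2 S) (hQS : Q ≤ S) {x e : G} (hx : x ∈ S) (hxA : x ∈ A) (he : e ∈ QC Q M) (he1 : e ≠ 1)
    (hxe : x * e = e * x) : x ∈ Q := by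
  obtain ⟨n, hn2, hn1⟩ := exists_pow_inv C.pg (QC_le he) he1
  refine C.inf_St_le hc hd hcd hQc hQd hA hS hQS hx hxA ?_
  refine F.cen hd (u := e ^ n) ⟨hn2, hn1, M, hM, ?_⟩ ?_
  · intro m hm
    have : Commute e m := (mem_QC.mp he).2 m hm
    exact (this.pow_left n).eq
  · have : Commute e x := hxe.symm
    exact (this.pow_left n).eq

end MW

end Cfsg.Agent.OddHalf.D3.BEven
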