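import Cfsg.Agent.OddHalf.D3.BEven.Abs
import Cfsg.Agent.OddHalf.D3.BEven.Dich

/-!
# ODD D3 (iii), even centre, `n = 2`, (mv)-world, (beta2): (d) of helper159's text (bb ODD 10707)
-/

set_option autoImplicit false

namespace Cfsg.Agent.OddHalf.D3.BEven

open Cfsg.Agent.OddHalf.D3.ThreeDefs Cfsg.Agent.OddHalf.D3.ThreeFam Cfsg.Agent.OddHalf.D3.ThreeMain
  Cfsg.Agent.OddHalf.D3.ThreeEnd
open Cfsg.Agent.OddHalf.D3.BTwo (comm_mem comm_mem' conj_eq_comm_mul comm_eq_one comm_one_of exists_two exists_fix Gd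
  comm_mul_of dbl mem_dbl bool_third dich)
open scoped commutatorElement

universe u

variable {G : Type u} [Group G]

/-- `D a = T ∩ L a 0 ∩ L a 1` -/
def DD (L : Bool → Bool → Subgroup G) (T : Subgroup G) (a : Bool) : Subgroup G := T ⊓ (L a false ⊓ L a true)

theorem mem_DD {L : Bool → Bool → Subgroup G} {T : Subgroup G} {a : Bool} {x : G} :
    x ∈ DD L T a ↔ x ∈ T ∧ ∀ i, x ∈ L a i := by
  unfold DD
  rw [Subgroup.mem_inf, Subgroup.mem_inf]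
  constructor
  · rintro ⟨h1, h2, h3⟩
    refine ⟨h1, fun i => ?_⟩
    cases i
    · exact h2
    · exact h3
  · rintro ⟨h1, h2⟩
    exact ⟨h1, h2 _, h2 _⟩

theorem mem_DD' {L : Bool → Bool → Subgroup G} {T : Subgroup G} {a i i' : Bool} (hi : i ≠ i') {x : G} (hx : x ∈ T)
    (h1 : x ∈ L a i) (h2 : x ∈ L a i') : x ∈ DD L T a := by
  refine mem_DD.mpr ⟨hx, fun l => ?_⟩
  by_cases h : i = l
  · subst h; exact h1
  · have := bool_third hi h
    subst this; exact h2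

namespace BE

variable {L : Bool → Bool → Subgroup G} {T : Subgroup G} {g : Bool → Bool → G}

/-- `P a i P b k` -/
def BB (h : BE L T g) (a i b k : Bool) : Subgroup G :=
  mulSub (T ⊓ L a i) (T ⊓ L b k) (comm_cj fun _ hp _ hw => h.cT hp.1 hp.2 hw.1 hw.2)

/-- `D a D b` -/
def VV (h : BE L T g) (a b : Bool) : Subgroup G :=
  mulSub (DD L T a) (DD L T b) (comm_cj fun _ hp _ hw => h.cT (mem_DD.mp hp).1 ((mem_DD.mp hp).2 true) (mem_DD.mp hw).1
    ((mem_DD.mp hw).2 true))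

section
variable {a b i i' k k' : Bool}

theorem mem_BB (h : BE L T g) {x : G} : x ∈ h.BB a i b k ↔ ∃ p ∈ T ⊓ L a i, ∃ q ∈ T ⊓ L b k, x = p * q := mem_mulSub

theorem mem_VV (h : BE L T g) {x : G} : x ∈ h.VV a b ↔ ∃ p ∈ DD L T a, ∃ q ∈ DD L T b, x = p * q := mem_mulSub

theorem BB_le (h : BE L T g) : h.BB a i b k ≤ T := mulSub_le inf_le_left inf_le_left

theorem VV_le (h : BE L T g) : h.VV a b ≤ T :=
  mulSub_le inf_le_left inf_le_left

theorem VV_le_BB (h : BE L T g) : h.VV a b ≤ h.BB a i b k := by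
  intro x hx
  obtain ⟨p, hp, q, hq, rfl⟩ := h.mem_VV.mp hx
  exact h.mem_BB.mpr ⟨p, ⟨(mem_DD.mp hp).1, (mem_DD.mp hp).2 i⟩, q, ⟨(mem_DD.mp hq).1, (mem_DD.mp hq).2 k⟩, rfl⟩

theorem P_le_BB (h : BE L T g) : T ⊓ L a i ≤ h.BB a i b k := le_mulSub_left

theorem P_le_BB' (h : BE L T g) : T ⊓ L b k ≤ h.BB a i b k := le_mulSub_right

theorem D_le_VV (h : BE L T g) : DD L T a ≤ h.VV a b := le_mulSub_left

theorem D_le_VV' (h : BE L T g) : DD L T b ≤ h.VV a b := le_mulSub_right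

/-- `P a i P b k` commutes with all groups `P` -/
theorem BB_comm (h : BE L T g) {c l : Bool} {x y : G} (hx : x ∈ h.BB a i b k) (hy : y ∈ T) (hyL : y ∈ L c l) :
    x * y = y * x := by
  obtain ⟨p, hp, q, hq, rfl⟩ := h.mem_BB.mp hx
  have h1 := h.cT hp.1 hp.2 hy hyL
  have h2 := h.cT hq.1 hq.2 hy hyL
  rw [mul_assoc, h2, ← mul_assoc, h1, mul_assoc]

theorem BB_comm' (h : BE L T g) {x y : G} (hx : x ∈ h.BB a i b k) (hy : y ∈ h.BB a i b k) : x * y = y * x := by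
  obtain ⟨p, hp, q, hq, rfl⟩ := h.mem_BB.mp hy
  rw [← mul_assoc, h.BB_comm hx hp.1 hp.2, mul_assoc, h.BB_comm hx hq.1 hq.2, mul_assoc]

/-- `V ∩ L b k = D b` -/
theorem VV_inf (h : BE L T g) (hab : a ≠ b) {x : G} (hx : x ∈ h.VV a b) (hxL : x ∈ L b k) : x ∈ DD L T b := by
  obtain ⟨p, hp, q, hq, rfl⟩ := h.mem_VV.mp hx
  have h1 : p ∈ L b k := by
    have : p = p * q * q⁻¹ := by group
    rw [this]; exact mul_mem hxL (inv_mem ((mem_DD.mp hq).2 k))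
  have h2 := h.dis a true b k hab p (mem_DD.mp hp).1 ((mem_DD.mp hp).2 true) h1
  rw [h2, one_mul]; exact hq

/-- `V ∩ L a i = D a` -/
theorem VV_inf' (h : BE L T g) (hab : a ≠ b) {x : G} (hx : x ∈ h.VV a b) (hxL : x ∈ L a i) : x ∈ DD L T a := by
  obtain ⟨p, hp, q, hq, rfl⟩ := h.mem_VV.mp hx
  have h1 : q ∈ L a i := by
    have : q = p⁻¹ * (p * q) := by group
    rw [this]; exact mul_mem (inv_mem ((mem_DD.mp hp).2 i)) hxL
  have h2 := h.dis b true a i (Ne.symm hab) q (mem_DD.mp hq).1 ((mem_DD.mp hq).2 true) h1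
  rw [h2, mul_one]; exact hp

variable [Finite G]

/-- `|D a| < |P b k|` -/
theorem card_DD_lt (h : BE L T g) (a b k : Bool) : Nat.card (DD L T a) < Nat.card ↥(T ⊓ L b k) := by
  rw [h.card_eq b k a true]
  have hle : DD L T a ≤ T ⊓ L a true := fun x hx => ⟨(mem_DD.mp hx).1, (mem_DD.mp hx).2 true⟩
  by_contra hcon
  have h1 := Subgroup.eq_of_le_of_card_ge hle (not_lt.mp hcon)
  obtain ⟨x, hx, hxL, hxn⟩ := h.nz a true false (by decide)
  have h2 : x ∈ T ⊓ L a true := ⟨hx, hxL⟩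
  rw [← h1] at h2
  exact hxn ((mem_DD.mp h2).2 false)

/-- **fusion** -/
theorem mapE (h : BE L T g) {y : G} {c l c' l' e : Bool} (hce : c' ≠ e)
    (H : ∀ p ∈ T, p ∈ L c l → ∃ u ∈ T, u ∈ L c' l' ∧ ∃ z ∈ DD L T e, y * p * y⁻¹ = u * z) :
    cj y (L c l) = L c' l' ∧ ∀ l1 l1', l ≠ l1 → l' ≠ l1' → cj y (L c l1) = L c' l1' := by
  have H' : ∀ p : ↥(T ⊓ L c l), ∃ z : DD L T e, ∃ u ∈ T, u ∈ L c' l' ∧ y * p * y⁻¹ = u * z := by
    intro p
    obtain ⟨u, hu, huL, z, hz, e1⟩ := H p p.2.1 p.2.2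
    exact ⟨⟨z, hz⟩, u, hu, huL, e1⟩
  choose z hz using H'
  have hninj : ¬ Function.Injective z := by
    intro h1
    have h2 := Nat.card_le_card_of_injective z h1
    have h3 := h.card_DD_lt e c l
    omega
  rw [Function.Injective] at hninj
  push Not at hninj
  obtain ⟨p1, p2, hp, hne⟩ := hninj
  obtain ⟨u1, hu1, hu1L, e1⟩ := hz p1
  obtain ⟨u2, hu2, hu2L, e2⟩ := hz p2
  have hfus := h.fus c l c' l' ((p1 : G) * (p2 : G)⁻¹) y (mul_mem p1.2.1 (inv_mem p2.2.1))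
    (mul_mem p1.2.2 (inv_mem p2.2.2)) (fun h0 => hne (Subtype.ext (mul_inv_eq_one.mp h0))) (by
      have : y * ((p1 : G) * (p2 : G)⁻¹) * y⁻¹ = u1 * u2⁻¹ := by
        calc y * ((p1 : G) * (p2 : G)⁻¹) * y⁻¹ = (y * p1 * y⁻¹) * (y * p2 * y⁻¹)⁻¹ := by group
          _ = u1 * u2⁻¹ := by rw [e1, e2, hp]; group
      rw [this]
      exact mul_mem hu1L (inv_mem hu2L))
  obtain ⟨k0, hk0⟩ := hfus l
  have hk0' : k0 = l' := by
    by_contra hne'
    -- `y P y⁻¹ ≤ D`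
    have h1 : ∀ p : ↥(T ⊓ L c l), y * (p : G) * y⁻¹ ∈ DD L T c' := by
      intro p
      obtain ⟨u, hu, huL, e3⟩ := hz p
      have h2 : y * (p : G) * y⁻¹ ∈ L c' k0 := by
        rw [← hk0]; exact conj_mem_cj p.2.2
      have hzT := (mem_DD.mp (z p).2).1
      have h3 : u⁻¹ * (y * (p : G) * y⁻¹) = z p := by rw [e3]; group
      have h4 := h.prod c' l' k0 e true hce (Ne.symm hne') u⁻¹ (inv_mem hu) (inv_mem huL) (y * (p : G) * y⁻¹)
        (by rw [e3]; exact mul_mem hu hzT) h2 (by rw [h3]; exact (mem_DD.mp (z p).2).2 true)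
      have h5 : y * (p : G) * y⁻¹ = u := by
        have := eq_inv_of_mul_eq_one_right h4
        rwa [inv_inv] at this
      refine mem_DD' hne' (by rw [h5]; exact hu) h2 (by rw [h5]; exact huL)
    have h2 := Nat.card_le_card_of_injective (fun p : ↥(T ⊓ L c l) => (⟨_, h1 p⟩ : DD L T c')) (by
      intro p q hpq
      have h3 : y * (p : G) * y⁻¹ = y * (q : G) * y⁻¹ := congrArg Subtype.val hpq
      exact Subtype.ext (mul_left_cancel (mul_right_cancel h3)))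
    have h3 := h.card_DD_lt c' c l
    omega
  subst hk0'
  refine ⟨hk0, fun l1 l1' hl hl' => ?_⟩
  obtain ⟨k1, hk1⟩ := hfus l1
  have hk1' : k0 ≠ k1 := by
    rintro rfl
    rw [← hk0] at hk1
    exact hl (h.inj c l c l1 (cj_injective y hk1).symm).2
  rw [bool_third hk1' hl'] at hk1
  exact hk1

omit [Finite G] in
/-- the group `Γ` -/
def GE (h : BE L T g) (a i b k k' : Bool) : Subgroup G where
  carrier := {y | (cj y (h.BB a i b k) = h.BB a i b k) ∧ ∀ u ∈ T, u ∈ L a i →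
    y * (u * (g b k * g b k' * u * (g b k * g b k')⁻¹)) = (u * (g b k * g b k' * u * (g b k * g b k')⁻¹)) * y}
  one_mem' := ⟨cj_one _, fun u _ _ => by simp⟩
  mul_mem' := by
    rintro x y ⟨hx, hx'⟩ ⟨hy, hy'⟩
    refine ⟨cj_mul_eq hx hy, fun u h1 h2 => ?_⟩
    rw [mul_assoc, hy' u h1 h2, ← mul_assoc, hx' u h1 h2, mul_assoc]
  inv_mem' := by
    rintro x ⟨hx, hx'⟩
    refine ⟨cj_inv_eq hx, fun u h1 h2 => ?_⟩
    have h4 : Commute x (u * (g b k * g b k' * u * (g b k * g b k')⁻¹)) := hx' u h1 h2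
    exact h4.inv_left.eq

section mem
variable {S : Subgroup G} {d : G}

/-- `⁅d, p q⁆ = ⁅d, q⁆` -/
theorem d_BB (h : BE L T g) (hab : a ≠ b) (D : Gd L T a i b k S d) {w : G} (hw : w ∈ h.BB a i b k) :
    ⁅d, w⁆ ∈ T ∧ ⁅d, w⁆ ∈ L a i := by
  obtain ⟨p, hp, q, hq, rfl⟩ := h.mem_BB.mp hw
  have h1 : ⁅d, p * q⁆ = ⁅d, q⁆ := by
    have h2 := h.d_comm hab D hp.1 hp.2
    have h3 := h.cT hp.1 hp.2 (h.rT D hq.1 hq.2) (h.rL D hq.1)
    rw [comm_mul_of h3, comm_one_of h2, one_mul]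
  rw [h1]
  exact ⟨h.rT D hq.1 hq.2, h.rL D hq.1⟩

theorem d_mem (h : BE L T g) (hab : a ≠ b) (hi : i ≠ i') (hk : k ≠ k') (D : Gd L T a i b k S d) :
    d ∈ h.GE a i b k k' := by
  constructor
  · refine cj_of_forall fun w hw => ?_
    rw [conj_eq_comm_mul]
    exact mul_mem (h.P_le_BB (h.d_BB hab D hw)) hw
  · intro u hu huL
    have h1 := h.d_comm hab D hu huL
    have h2 := h.comm a i i' hi d D.dL _ (h.j_L (p := u) hab hk hi huL)
    rw [← mul_assoc, h1, mul_assoc, h2, ← mul_assoc]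

/-- `⁅g b k, p q⁆ ∈ P b k` -/
theorem h_BB (h : BE L T g) {w : G} (hw : w ∈ h.BB a i b k) : ⁅g b k, w⁆ ∈ T ∧ ⁅g b k, w⁆ ∈ L b k := by
  have hwT := h.BB_le hw
  exact ⟨h.cm_T hwT b k, h.cm_L hwT b k⟩

theorem h_mem (h : BE L T g) (hk : k ≠ k') : g b k ∈ h.GE a i b k k' := by
  constructor
  · refine cj_of_forall fun w hw => ?_
    rw [conj_eq_comm_mul]
    exact mul_mem (h.P_le_BB' (h.h_BB hw)) hw
  · intro u hu huL
    have h1 : u * (g b k * g b k' * u * (g b k * g b k')⁻¹) = ⁅g b k, u⁆ * ⁅g b k', u⁆ := by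
      rw [h.j_conj hk hu]
      have c1 : u * ⁅g b k, u⁆ = ⁅g b k, u⁆ * u := h.cT hu huL (h.cm_T hu b k) (h.cm_L hu b k)
      have c2 : u * ⁅g b k', u⁆ = ⁅g b k', u⁆ * u := h.cT hu huL (h.cm_T hu b k') (h.cm_L hu b k')
      calc u * (⁅g b k, u⁆ * ⁅g b k', u⁆ * u) = (u * ⁅g b k, u⁆) * ⁅g b k', u⁆ * u := by group
        _ = ⁅g b k, u⁆ * (u * ⁅g b k', u⁆) * u := by rw [c1]; group
        _ = ⁅g b k, u⁆ * ⁅g b k', u⁆ * (u * u) := by rw [c2]; group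
        _ = _ := by rw [h.el a i u hu huL, mul_one]
    rw [h1]
    have h2 : g b k * ⁅g b k, u⁆ = ⁅g b k, u⁆ * g b k := h.g_cent b k (h.cm_T hu b k) (h.cm_L hu b k)
    have h4 : g b k * ⁅g b k', u⁆ = ⁅g b k', u⁆ * g b k := h.comm b k k' hk _ (h.gm b k) _ (h.cm_L hu b k')
    rw [← mul_assoc, h2, mul_assoc, h4, mul_assoc]

end mem

/-- **(d1)** an element of `Γ` normalising the members is trivial modulo `D a D b` -/
theorem trivE (h : BE L T g) (hab : a ≠ b) (hi : i ≠ i') (hk : k ≠ k') {y : G} (hy : y ∈ h.GE a i b k k')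
    (h1 : ∀ l, cj y (L a l) = L a l) (h2 : ∀ l, cj y (L b l) = L b l) {w : G} (hw : w ∈ h.BB a i b k) :
    ⁅y, w⁆ ∈ h.VV a b := by
  -- elements of `P a i`
  have hP : ∀ u ∈ T, u ∈ L a i → ⁅y, u⁆ ∈ DD L T a := by
    intro u hu huL
    set v := g b k * g b k' * u * (g b k * g b k')⁻¹ with hv
    have hvL : v ∈ L a i' := h.j_L hab hk hi huL
    have h3 : y * (u * v) = (u * v) * y := hy.2 u hu huL
    have huB : u ∈ h.BB a i b k := h.P_le_BB ⟨hu, huL⟩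
    have huB' : y * u * y⁻¹ ∈ h.BB a i b k := conj_mem_of_cj hy.1 huB
    have hT' : ⁅y, u⁆ ∈ T := by
      rw [commutatorElement_def]; exact mul_mem (h.BB_le huB') (inv_mem hu)
    have hL' : ⁅y, u⁆ ∈ L a i := comm_mem' huL (h1 i)
    have h4 : u⁻¹ * ⁅y, u⁆ * u = v * (y * v * y⁻¹)⁻¹ := by
      rw [commutatorElement_def]
      calc u⁻¹ * (y * u * y⁻¹ * u⁻¹) * u = u⁻¹ * (y * (u * v)) * v⁻¹ * y⁻¹ := by group
        _ = u⁻¹ * ((u * v) * y) * v⁻¹ * y⁻¹ := by rw [h3]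
        _ = _ := by group
    have h5 : u⁻¹ * ⁅y, u⁆ * u = ⁅y, u⁆ := by
      rw [mul_assoc, h.comm_P hT' hL' hu huL]; group
    rw [h5] at h4
    refine mem_DD' hi hT' hL' ?_
    rw [h4]
    exact mul_mem hvL (inv_mem (conj_mem_of_cj (h1 i') hvL))
  -- elements of `P b k`
  have hP' : ∀ q ∈ T, q ∈ L b k → ⁅y, q⁆ ∈ DD L T b := by
    intro q hq hqL
    obtain ⟨u, hu, huL, rfl⟩ := h.cm_surj (Ne.symm hab) k i hq hqL
    set v := g b k * g b k' * u * (g b k * g b k')⁻¹ with hv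
    have h3 : y * (u * v) = (u * v) * y := hy.2 u hu huL
    set q := ⁅g b k, u⁆ with hqdef
    set q' := ⁅g b k', u⁆ with hq'def
    have hq'L : q' ∈ L b k' := h.cm_L hu b k'
    have e1 : u * v = q * q' := by
      rw [hv, h.j_conj hk hu]
      have c1 : u * q = q * u := h.cT hu huL (h.cm_T hu b k) (h.cm_L hu b k)
      have c2 : u * q' = q' * u := h.cT hu huL (h.cm_T hu b k') (h.cm_L hu b k')
      calc u * (q * q' * u) = (u * q) * q' * u := by group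
        _ = q * (u * q') * u := by rw [c1]; group
        _ = q * q' * (u * u) := by rw [c2]; group
        _ = _ := by rw [h.el a i u hu huL, mul_one]
    rw [e1] at h3
    have hqB : q ∈ h.BB a i b k := h.P_le_BB' ⟨hq, hqL⟩
    have hqB' : y * q * y⁻¹ ∈ h.BB a i b k := conj_mem_of_cj hy.1 hqB
    have hT' : ⁅y, q⁆ ∈ T := by
      rw [commutatorElement_def]; exact mul_mem (h.BB_le hqB') (inv_mem hq)
    have hL' : ⁅y, q⁆ ∈ L b k := comm_mem' hqL (h2 k)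
    have h4 : q⁻¹ * ⁅y, q⁆ * q = q' * (y * q' * y⁻¹)⁻¹ := by
      rw [commutatorElement_def]
      calc q⁻¹ * (y * q * y⁻¹ * q⁻¹) * q = q⁻¹ * (y * (q * q')) * q'⁻¹ * y⁻¹ := by group
        _ = q⁻¹ * ((q * q') * y) * q'⁻¹ * y⁻¹ := by rw [h3]
        _ = _ := by group
    have h5 : q⁻¹ * ⁅y, q⁆ * q = ⁅y, q⁆ := by
      rw [mul_assoc, h.comm_P hT' hL' hq hqL]; group
    rw [h5] at h4
    refine mem_DD' hk hT' hL' ?_
    rw [h4]
    exact mul_mem hq'L (inv_mem (conj_mem_of_cj (h2 k') hq'L))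
  obtain ⟨p, hp, q, hq, rfl⟩ := h.mem_BB.mp hw
  have h3 := hP p hp.1 hp.2
  have h4 := hP' q hq.1 hq.2
  have h5 : p * ⁅y, q⁆ = ⁅y, q⁆ * p := h.cT hp.1 hp.2 (mem_DD.mp h4).1 ((mem_DD.mp h4).2 true)
  rw [comm_mul_of h5]
  exact mul_mem (h.D_le_VV h3) (h.D_le_VV' h4)

end

end BE

end Cfsg.Agent.OddHalf.D3.BEven
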