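import Cfsg.Agent.OddHalf.D3.BEven.SwapE

/-!
# ODD D3 (iii), even centre, `n = 2`, (mv)-world, (beta2): growth, `S₁ = P ∪ g P`
-/

set_option autoImplicit false

namespace Cfsg.Agent.OddHalf.D3.BEven

open Cfsg.Agent.OddHalf.D3.ThreeDefs Cfsg.Agent.OddHalf.D3.ThreeFam Cfsg.Agent.OddHalf.D3.ThreeMain
  Cfsg.Agent.OddHalf.D3.ThreeEnd
open Cfsg.Agent.OddHalf.D3.BTwo (comm_mem comm_mem' conj_eq_comm_mul comm_eq_one comm_one_of exists_two exists_fix Gd
  comm_mul_of dbl mem_dbl bool_third dich)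
open scoped commutatorElement

universe u

variable {G : Type u} [Group G]

namespace BE

variable {L : Bool → Bool → Subgroup G} {T : Subgroup G} {g : Bool → Bool → G}
variable {a b i i' k k' : Bool} {S : Subgroup G} {d : G} [Finite G]

/-- growth -/
theorem growE (h : BE L T g) (h3 : 2 < Nat.card ↥(T ⊓ L a i)) {R : Subgroup G} (hR : IsPGroup 2 R)
    (hRL : R ≤ L a i) (hRT : ∀ t ∈ T, cj t R = R) (hgR : g a i ∈ R) : ∀ x ∈ R, x ∈ T ∨ (g a i)⁻¹ * x ∈ T := by
  obtain ⟨b, hab⟩ := exists_ne a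
  by_contra hcon
  push Not at hcon
  obtain ⟨x0, hx0R, hx0T, hx0g⟩ := hcon
  set c := g a i with hc
  let S := mulSub R T hRT
  have hS : IsPGroup 2 S := isPGroup_mulSub hR h.two
  have hRS : R ≤ S := le_mulSub_left
  have hTS : T ≤ S := le_mulSub_right
  let T1 := dbl T c (h.gT a i) (h.gs a i)
  have hTT1 : T ≤ T1 := fun x hx => Or.inl hx
  have hT1S : T1 ≤ S := by
    rintro x (hx | hx)
    · exact hTS hx
    · have : x = c * (c⁻¹ * x) := by group
      rw [this]
      exact mul_mem (hRS hgR) (hTS hx)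
  obtain ⟨s, hsS, hsT1, hscj⟩ := exists_norm hS hT1S (fun h0 => by
    rcases h0 (hRS hx0R) with h1 | h1
    · exact hx0T h1
    · exact hx0g h1)
  obtain ⟨ρ, hρ, t0, ht0, rfl⟩ := hsS
  have hρT1 : ρ ∉ T1 := fun h0 => hsT1 (mul_mem h0 (hTT1 ht0))
  have hρcj : cj ρ T1 = T1 := by
    have h1 := cj_mul_eq hscj (cj_eq_of_mem (inv_mem (hTT1 ht0)))
    have e : ρ * t0 * t0⁻¹ = ρ := by group
    rwa [e] at h1
  have hρL : ρ ∈ L a i := hRL hρ
  by_cases hA : (∀ x ∈ T, x ∈ L a i → ρ * x * ρ⁻¹ ∈ T) ∧ (∀ x ∈ T, x ∈ L b i → ρ * x * ρ⁻¹ ∈ T)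
  · have D : Gd L T a i b i S ρ := ⟨hS, hTS, hRS hρ, hρL, fun h0 => hρT1 (hTT1 h0), hA.1, hA.2⟩
    exact hρT1 (Or.inr (h.frobE hab D (hRS hgR)))
  · -- an element of `P a i ∪ P b i` which is moved out of `T`
    obtain ⟨t, ht, htc, htn⟩ : ∃ t ∈ T, (∀ b' k' x, x ∈ T → x ∈ L b' k' → t * x = x * t) ∧ ρ * t * ρ⁻¹ ∉ T := by
      rw [not_and_or] at hA
      push Not at hA
      rcases hA with ⟨t, ht, htL, htn⟩ | ⟨t, ht, htL, htn⟩
      · exact ⟨t, ht, fun b' k' x hx hxL => h.cT ht htL hx hxL, htn⟩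
      · exact ⟨t, ht, fun b' k' x hx hxL => h.cT ht htL hx hxL, htn⟩
    have ht1 : c⁻¹ * (ρ * t * ρ⁻¹) ∈ T := by
      have h1 : ρ * t * ρ⁻¹ ∈ T1 := conj_mem_of_cj hρcj (hTT1 ht)
      rcases h1 with h1 | h1
      · exact absurd h1 htn
      · exact h1
    set s := c⁻¹ * ⁅ρ, t⁆ with hs
    have hsT : s ∈ T := by
      have : s = c⁻¹ * (ρ * t * ρ⁻¹) * t⁻¹ := by rw [hs, commutatorElement_def]; group
      rw [this]
      exact mul_mem ht1 (inv_mem ht)
    have hsL : s ∈ L a i := mul_mem (inv_mem (h.gm a i)) (comm_mem hρL (h.nrm t ht a i))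
    -- the key claim
    have hcl2 : ∀ p ∈ T, p ∈ L b i → ρ * p * ρ⁻¹ ∈ T → p = 1 := by
      intro p hp hpL hρp
      set r := ⁅ρ, p⁆ with hr
      have hrT : r ∈ T := by
        rw [hr, commutatorElement_def]
        exact mul_mem hρp (inv_mem hp)
      have hrL : r ∈ L a i := comm_mem hρL (h.nrm p hp a i)
      have e1 : ρ * p * ρ⁻¹ = r * p := conj_eq_comm_mul ρ p
      have e2 : ρ * t * ρ⁻¹ = c * s * t := by rw [hs, conj_eq_comm_mul]; group
      have e3 : t * p = p * t := htc b i p hp hpL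
      have e4 : t * r = r * t := htc a i r hrT hrL
      have e5 : s * p = p * s := h.cT hsT hsL hp hpL
      have e6 : s * r = r * s := h.cT hsT hsL hrT hrL
      have e8 : (c * s * t) * (r * p) = (r * p) * (c * s * t) := by
        rw [← e1, ← e2]
        calc ρ * t * ρ⁻¹ * (ρ * p * ρ⁻¹) = ρ * (t * p) * ρ⁻¹ := by group
          _ = ρ * (p * t) * ρ⁻¹ := by rw [e3]
          _ = _ := by group
      have e9 : (s * t) * (r * p) = (r * p) * (s * t) := by
        calc (s * t) * (r * p) = s * (t * r) * p := by group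
          _ = s * (r * t) * p := by rw [e4]
          _ = (s * r) * (t * p) := by group
          _ = (r * s) * (p * t) := by rw [e6, e3]
          _ = r * (s * p) * t := by group
          _ = r * (p * s) * t := by rw [e5]
          _ = _ := by group
      have e10 : c * (r * p) = (r * p) * c := by
        have : c * ((s * t) * (r * p)) = (r * p) * c * (s * t) := by
          calc c * ((s * t) * (r * p)) = (c * s * t) * (r * p) := by group
            _ = (r * p) * (c * s * t) := e8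
            _ = _ := by group
        rw [e9] at this
        have h1 : c * (r * p) * (s * t) = (r * p) * c * (s * t) := by rw [← this]; group
        exact mul_right_cancel h1
      have e11 : c * r = r * c := h.g_cent a i hrT hrL
      have e12 : c * p = p * c := by
        have h1 : r * (c * p) = r * (p * c) := by
          calc r * (c * p) = (r * c) * p := by group
            _ = c * (r * p) := by rw [← e11]; group
            _ = r * (p * c) := by rw [e10]; group
        exact mul_left_cancel h1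
      exact h.cm_one hab hp hpL (comm_one_of e12)
    have hcl3 : ∀ p ∈ T, p ∈ L b i → p ≠ 1 → ∀ q ∈ T, q ∈ L b i → q ≠ 1 → p = q := by
      intro p hp hpL hp1 q hq hqL hq1
      have hpT1 : ρ * p * ρ⁻¹ ∈ T1 := conj_mem_of_cj hρcj (hTT1 hp)
      have hqT1 : ρ * q * ρ⁻¹ ∈ T1 := conj_mem_of_cj hρcj (hTT1 hq)
      have hp2 : c⁻¹ * (ρ * p * ρ⁻¹) ∈ T := by
        rcases hpT1 with h1 | h1
        · exact absurd (hcl2 p hp hpL h1) hp1
        · exact h1
      have hq2 : c⁻¹ * (ρ * q * ρ⁻¹) ∈ T := by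
        rcases hqT1 with h1 | h1
        · exact absurd (hcl2 q hq hqL h1) hq1
        · exact h1
      have h5 : ρ * (p * q⁻¹) * ρ⁻¹ ∈ T := by
        have : ρ * (p * q⁻¹) * ρ⁻¹ = c * ((c⁻¹ * (ρ * p * ρ⁻¹)) * (c⁻¹ * (ρ * q * ρ⁻¹))⁻¹) * c⁻¹ := by group
        rw [this]
        exact h.g_conj a i (mul_mem hp2 (inv_mem hq2))
      have h6 := hcl2 (p * q⁻¹) (mul_mem hp (inv_mem hq)) (mul_mem hpL (inv_mem hqL)) h5
      exact mul_inv_eq_one.mp h6
    obtain ⟨p0, hp0, hp01⟩ := h.P_ne b i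
    have h7 : ((T ⊓ L b i : Subgroup G) : Set G) ⊆ {1, p0} := by
      intro x hx
      by_cases hx1 : x = 1
      · left; exact hx1
      · right; exact hcl3 x hx.1 hx.2 hx1 p0 hp0.1 hp0.2 hp01
    have h8 : Nat.card ↥(T ⊓ L b i) ≤ 2 := by
      calc Nat.card ↥(T ⊓ L b i) = ((T ⊓ L b i : Subgroup G) : Set G).ncard := rfl
        _ ≤ ({1, p0} : Set G).ncard := Set.ncard_le_ncard h7 (Set.toFinite _)
        _ ≤ 2 := by
          refine (Set.ncard_insert_le _ _).trans ?_
          rw [Set.ncard_singleton]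
    rw [h.card_eq b i a i] at h8
    omega

/-- **the invariant Sylow subgroup is abelian** -/
theorem abel (h : BE L T g) (h3 : 2 < Nat.card ↥(T ⊓ L a i)) {R : Subgroup G} (hR : IsPGroup 2 R)
    (hRL : R ≤ L a i) (hRT : ∀ t ∈ T, cj t R = R) (hgR : g a i ∈ R) : ∀ x ∈ R, ∀ y ∈ R, x * y = y * x := by
  have hg := h.growE h3 hR hRL hRT hgR
  have hc : ∀ x ∈ R, ∀ p ∈ T, p ∈ L a i → x * p = p * x := by
    intro x hx p hp hpL
    rcases hg x hx with h1 | h1
    · exact h.comm_P h1 (hRL hx) hp hpL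
    · have h2 : (g a i)⁻¹ * x ∈ L a i := mul_mem (inv_mem (h.gm a i)) (hRL hx)
      have h4 := h.comm_P h1 h2 hp hpL
      have h5 := h.g_cent a i hp hpL
      calc x * p = g a i * (((g a i)⁻¹ * x) * p) := by group
        _ = g a i * (p * ((g a i)⁻¹ * x)) := by rw [h4]
        _ = (g a i * p) * ((g a i)⁻¹ * x) := by group
        _ = p * g a i * ((g a i)⁻¹ * x) := by rw [h5]
        _ = p * x := by group
  intro x hx y hy
  rcases hg y hy with h1 | h1
  · exact hc x hx y h1 (hRL hy)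
  · have h2 : (g a i)⁻¹ * y ∈ L a i := mul_mem (inv_mem (h.gm a i)) (hRL hy)
    have h4 := hc x hx _ h1 h2
    -- `x` commutes with `g a i`
    have h5 : x * g a i = g a i * x := by
      rcases hg x hx with h6 | h6
      · exact (h.g_cent a i h6 (hRL hx)).symm
      · have h7 : (g a i)⁻¹ * x ∈ L a i := mul_mem (inv_mem (h.gm a i)) (hRL hx)
        have h8 := h.g_cent a i h6 h7
        calc x * g a i = g a i * (((g a i)⁻¹ * x) * g a i) := by group
          _ = g a i * (g a i * ((g a i)⁻¹ * x)) := by rw [h8]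
          _ = _ := by group
    calc x * y = (x * g a i) * ((g a i)⁻¹ * y) := by group
      _ = g a i * (x * ((g a i)⁻¹ * y)) := by rw [h5]; group
      _ = g a i * (((g a i)⁻¹ * y) * x) := by rw [h4]
      _ = y * x := by group

end BE

end Cfsg.Agent.OddHalf.D3.BEven
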