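import Cfsg.Agent.OddHalf.D3.BEven.FrobE

/-!
# ODD D3 (iii), even centre, `n = 2`, (mv)-world, (beta2): (d2), (d3) of helper159's text (bb ODD 10707)
-/

set_option autoImplicit false

namespace Cfsg.Agent.OddHalf.D3.BEven

open Cfsg.Agent.OddHalf.D3.ThreeDefs Cfsg.Agent.OddHalf.D3.ThreeFam Cfsg.Agent.OddHalf.D3.ThreeMain
  Cfsg.Agent.OddHalf.D3.ThreeEnd
open Cfsg.Agent.OddHalf.D3.BTwo (comm_mem comm_mem' conj_eq_comm_mul comm_eq_one comm_one_of exists_two exists_fix Gd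
  comm_mul_of dbl mem_dbl bool_third dich)
open scoped commutatorElement

universe u

variable {G : Type u} [Group G]

namespace BE

variable {L : Bool → Bool → Subgroup G} {T : Subgroup G} {g : Bool → Bool → G}
variable {a b i i' k k' : Bool} {S : Subgroup G} {d : G}

theorem split1 (h : BE L T g) {c r : G} (hc : c ∈ h.VV a b) (hr : r ∈ T) (hrL : r ∈ L a i) :
    ∃ u ∈ T, u ∈ L a i ∧ ∃ z ∈ DD L T b, c * r = u * z := by
  obtain ⟨z1, hz1, z2, hz2, rfl⟩ := h.mem_VV.mp hc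
  refine ⟨z1 * r, mul_mem (mem_DD.mp hz1).1 hr, mul_mem ((mem_DD.mp hz1).2 i) hrL, z2, hz2, ?_⟩
  have := h.cT (mem_DD.mp hz2).1 ((mem_DD.mp hz2).2 true) hr hrL
  rw [mul_assoc, this, mul_assoc]

theorem split2 (h : BE L T g) {c r : G} (hc : c ∈ h.VV a b) (hr : r ∈ T) (hrL : r ∈ L b k) :
    ∃ u ∈ T, u ∈ L b k ∧ ∃ z ∈ DD L T a, c * r = u * z := by
  obtain ⟨z1, hz1, z2, hz2, rfl⟩ := h.mem_VV.mp hc
  refine ⟨z2 * r, mul_mem (mem_DD.mp hz2).1 hr, mul_mem ((mem_DD.mp hz2).2 k) hrL, z1, hz1, ?_⟩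
  exact (by
    have := h.cT (mem_DD.mp hz1).1 ((mem_DD.mp hz1).2 true) (mul_mem (mem_DD.mp hz2).1 hr)
      (mul_mem ((mem_DD.mp hz2).2 k) hrL)
    rw [mul_assoc, this])

variable [Finite G]

/-- the element interchanging `L a i` and `L b k` -/
theorem exists_swapE (h : BE L T g) (hab : a ≠ b) (hi : i ≠ i') (hk : k ≠ k') (D : Gd L T a i b k S d) :
    ∃ y ∈ Subgroup.closure {d, g b k}, (cj y (L a i) = L b k ∧ cj y (L a i') = L b k') ∧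
      (cj y (L b k) = L a i ∧ cj y (L b k') = L a i') ∧
      ∀ w ∈ h.BB a i b k, y * ⁅d, w⁆ * y⁻¹ * ⁅g b k, y * w * y⁻¹⁆⁻¹ ∈ h.VV a b := by
  set Δ := Subgroup.closure {d, g b k} with hΔ
  have hΔΓ : Δ ≤ h.GE a i b k k' := by
    rw [hΔ, Subgroup.closure_le]
    rintro x (rfl | rfl)
    · exact h.d_mem hab hi hk D
    · exact h.h_mem hk
  have hB : ∀ y ∈ Δ, ∀ w ∈ h.BB a i b k, y * w * y⁻¹ ∈ h.BB a i b k := fun y hy w hw => conj_mem_of_cj (hΔΓ hy).1 hw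
  have hd2 : ∀ w ∈ h.BB a i b k, (d * d) * w = w * (d * d) := fun w hw =>
    (h.BB_comm hw (h.d_sq hab D) (mul_mem D.dL D.dL)).symm
  have he2 : ∀ w ∈ h.BB a i b k, (g b k * g b k) * w = w * (g b k * g b k) := fun w hw =>
    (h.BB_comm hw (h.gs b k) (mul_mem (h.gm b k) (h.gm b k))).symm
  have hdΔ : d ∈ Δ := Subgroup.subset_closure (by simp)
  have heΔ : g b k ∈ Δ := Subgroup.subset_closure (by simp)
  rcases dichE (V := h.VV a b) hΔ hB hd2 he2 with ⟨f, hf, ⟨w0, hw0, hw0n⟩, hf1, hf2⟩ | ⟨y, hy, hy1, hy2⟩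
  · exfalso
    obtain ⟨m1, m2⟩ := h.mapE (y := f) (c := a) (l := i) (c' := a) (l' := i) (e := b) hab (by
      intro p hp hpL
      obtain ⟨x, hx, hxL, rfl⟩ := h.rsurj hab D hp hpL
      have hxB : x ∈ h.BB a i b k := h.P_le_BB' ⟨hx, hxL⟩
      have h1 := Core_le (hf2 d hdΔ x hxB)
      have h2 := h.d_BB hab D (hB f hf x hxB)
      obtain ⟨u, hu, huL, z, hz, e⟩ := h.split1 h1 h2.1 h2.2
      refine ⟨u, hu, huL, z, hz, ?_⟩
      rw [← e]; group)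
    obtain ⟨n1, n2⟩ := h.mapE (y := f) (c := b) (l := k) (c' := b) (l' := k) (e := a) (Ne.symm hab) (by
      intro p hp hpL
      obtain ⟨x, hx, hxL, rfl⟩ := h.cm_surj (Ne.symm hab) k i hp hpL
      have hxB : x ∈ h.BB a i b k := h.P_le_BB ⟨hx, hxL⟩
      have h1 := Core_le (hf2 (g b k) heΔ x hxB)
      have h2 := h.h_BB (hB f hf x hxB)
      obtain ⟨u, hu, huL, z, hz, e⟩ := h.split2 h1 h2.1 h2.2
      refine ⟨u, hu, huL, z, hz, ?_⟩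
      rw [← e]; group)
    have hm : ∀ l, cj f (L a l) = L a l := by
      intro l
      by_cases hl : i = l
      · subst hl; exact m1
      · exact m2 l l hl hl
    have hn : ∀ l, cj f (L b l) = L b l := by
      intro l
      by_cases hl : k = l
      · subst hl; exact n1
      · exact n2 l l hl hl
    apply hw0n
    intro y hy
    have h1 := Core_le (hf1 y hy w0 hw0)
    have h2 := h.trivE hab hi hk (hΔΓ hf) hm hn (hB y hy w0 hw0)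
    have e : y * ⁅f, w0⁆ * y⁻¹ = (y * ⁅f, w0⁆ * y⁻¹ * ⁅f, y * w0 * y⁻¹⁆⁻¹) * ⁅f, y * w0 * y⁻¹⁆ := by group
    rw [e]
    exact mul_mem h1 h2
  · obtain ⟨m1, m2⟩ := h.mapE (y := y) (c := a) (l := i) (c' := b) (l' := k) (e := a) (Ne.symm hab) (by
      intro p hp hpL
      obtain ⟨x, hx, hxL, rfl⟩ := h.rsurj hab D hp hpL
      have hxB : x ∈ h.BB a i b k := h.P_le_BB' ⟨hx, hxL⟩
      have h1 := Core_le (hy1 x hxB)
      have h2 := h.h_BB (hB y hy x hxB)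
      obtain ⟨u, hu, huL, z, hz, e⟩ := h.split2 h1 h2.1 h2.2
      refine ⟨u, hu, huL, z, hz, ?_⟩
      rw [← e]; group)
    obtain ⟨n1, n2⟩ := h.mapE (y := y) (c := b) (l := k) (c' := a) (l' := i) (e := b) hab (by
      intro p hp hpL
      obtain ⟨x, hx, hxL, rfl⟩ := h.cm_surj (Ne.symm hab) k i hp hpL
      have hxB : x ∈ h.BB a i b k := h.P_le_BB ⟨hx, hxL⟩
      have h1 := Core_le (hy2 x hxB)
      have h2 := h.d_BB hab D (hB y hy x hxB)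
      obtain ⟨u, hu, huL, z, hz, e⟩ := h.split1 h1 h2.1 h2.2
      refine ⟨u, hu, huL, z, hz, ?_⟩
      rw [← e]; group)
    exact ⟨y, hy, ⟨m1, m2 i' k' hi hk⟩, ⟨n1, n2 k' i' hk hi⟩, fun w hw => Core_le (hy1 w hw)⟩

/-- **(d2)** -/
theorem d_D (h : BE L T g) (hab : a ≠ b) (hi : i ≠ i') (hk : k ≠ k') (D : Gd L T a i b k S d) {x : G}
    (hx : x ∈ DD L T b) : ⁅d, x⁆ ∈ DD L T a := by
  obtain ⟨y, hy, ⟨m1, m2⟩, ⟨n1, n2⟩, hyw⟩ := h.exists_swapE hab hi hk D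
  have hxT := (mem_DD.mp hx).1
  have hxB : x ∈ h.BB a i b k := h.P_le_BB' ⟨hxT, (mem_DD.mp hx).2 k⟩
  have hyΓ : y ∈ h.GE a i b k k' := by
    have : Subgroup.closure {d, g b k} ≤ h.GE a i b k k' := by
      rw [Subgroup.closure_le]
      rintro x (rfl | rfl)
      · exact h.d_mem hab hi hk D
      · exact h.h_mem hk
    exact this hy
  have hx'B : y * x * y⁻¹ ∈ h.BB a i b k := conj_mem_of_cj hyΓ.1 hxB
  have hx'1 : y * x * y⁻¹ ∈ L a i := by rw [← n1]; exact conj_mem_cj ((mem_DD.mp hx).2 k)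
  have hx'2 : y * x * y⁻¹ ∈ L a i' := by rw [← n2]; exact conj_mem_cj ((mem_DD.mp hx).2 k')
  have h1 := h.cm_D hab hi hk (h.BB_le hx'B) hx'1 hx'2
  have h2 : ⁅g b k, y * x * y⁻¹⁆ ∈ DD L T b := mem_DD' hk (h.cm_T (h.BB_le hx'B) b k) (h.cm_L (h.BB_le hx'B) b k) h1
  have hpT := (h.d_BB hab D hxB).1
  have hpL := (h.d_BB hab D hxB).2
  have h3 : y * ⁅d, x⁆ * y⁻¹ ∈ h.VV a b := by
    have e : y * ⁅d, x⁆ * y⁻¹ = (y * ⁅d, x⁆ * y⁻¹ * ⁅g b k, y * x * y⁻¹⁆⁻¹) * ⁅g b k, y * x * y⁻¹⁆ := by group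
    rw [e]
    exact mul_mem (hyw x hxB) (h.D_le_VV' h2)
  have h4 : y * ⁅d, x⁆ * y⁻¹ ∈ L b k := by rw [← m1]; exact conj_mem_cj hpL
  have h5 := (mem_DD.mp (h.VV_inf hab h3 h4)).2 k'
  refine mem_DD' hi hpT hpL ?_
  rw [← m2, mem_cj] at h5
  have e : y⁻¹ * (y * ⁅d, x⁆ * y⁻¹) * y = ⁅d, x⁆ := by group
  rwa [e] at h5

/-- `V` is invariant -/
theorem VV_inv (h : BE L T g) (hab : a ≠ b) (hi : i ≠ i') (hk : k ≠ k') (D : Gd L T a i b k S d) {y : G}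
    (hy : y ∈ Subgroup.closure {d, g b k}) : cj y (h.VV a b) = h.VV a b := by
  have key : Subgroup.closure {d, g b k} ≤ Subgroup.normalizer (h.VV a b : Set G) := by
    rw [Subgroup.closure_le]
    rintro x (rfl | rfl)
    · refine mem_normalizer_of_cj (cj_of_forall fun v hv => ?_)
      obtain ⟨z1, hz1, z2, hz2, rfl⟩ := h.mem_VV.mp hv
      have h1 := h.d_comm hab D (mem_DD.mp hz1).1 ((mem_DD.mp hz1).2 i)
      have e : x * (z1 * z2) * x⁻¹ = z1 * (⁅x, z2⁆ * z2) := by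
        calc x * (z1 * z2) * x⁻¹ = (x * z1) * z2 * x⁻¹ := by group
          _ = z1 * (x * z2 * x⁻¹) := by rw [h1]; group
          _ = _ := by rw [conj_eq_comm_mul]
      rw [e]
      exact mul_mem (h.D_le_VV hz1) (mul_mem (h.D_le_VV (h.d_D hab hi hk D hz2)) (h.D_le_VV' hz2))
    · refine mem_normalizer_of_cj (cj_of_forall fun v hv => ?_)
      obtain ⟨z1, hz1, z2, hz2, rfl⟩ := h.mem_VV.mp hv
      have h1 := h.g_cent b k (mem_DD.mp hz2).1 ((mem_DD.mp hz2).2 k)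
      have h2 : ⁅g b k, z1⁆ ∈ DD L T b := mem_DD' hk (h.cm_T (mem_DD.mp hz1).1 b k) (h.cm_L (mem_DD.mp hz1).1 b k)
        (h.cm_D hab hi hk (mem_DD.mp hz1).1 ((mem_DD.mp hz1).2 i) ((mem_DD.mp hz1).2 i'))
      have e : g b k * (z1 * z2) * (g b k)⁻¹ = (⁅g b k, z1⁆ * z1) * z2 := by
        calc g b k * (z1 * z2) * (g b k)⁻¹ = g b k * z1 * (g b k)⁻¹ * (g b k * z2) * (g b k)⁻¹ := by group
          _ = g b k * z1 * (g b k)⁻¹ * z2 := by rw [h1]; group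
          _ = _ := by rw [conj_eq_comm_mul]
      rw [e]
      exact mul_mem (mul_mem (h.D_le_VV' h2) (h.D_le_VV hz1)) (h.D_le_VV' hz2)
  exact cj_of_mem_normalizer (key hy)

/-- **(d3)** -/
theorem frobE (h : BE L T g) (hab : a ≠ b) (D : Gd L T a i b k S d) (hgS : g a i ∈ S) : (g a i)⁻¹ * d ∈ T := by
  obtain ⟨k', hk⟩ := exists_ne k
  obtain ⟨i', hi⟩ := exists_ne i
  obtain ⟨S', D'⟩ := h.gd a i b k
  obtain ⟨y1, hy1, ⟨m1, m1'⟩, ⟨n1, n1'⟩, e1⟩ := h.exists_swapE hab hi hk D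
  obtain ⟨y2, hy2, ⟨m2, m2'⟩, ⟨n2, n2'⟩, e2⟩ := h.exists_swapE hab hi hk D'
  have hcl : ∀ {S : Subgroup G} {d : G} (_ : Gd L T a i b k S d), Subgroup.closure {d, g b k} ≤ h.GE a i b k k' := by
    intro S d D
    rw [Subgroup.closure_le]
    rintro x (rfl | rfl)
    · exact h.d_mem hab hi hk D
    · exact h.h_mem hk
  set y := y2⁻¹ * y1 with hy
  have hyΓ : y ∈ h.GE a i b k k' := mul_mem (inv_mem (hcl D' hy2)) (hcl D hy1)
  have hm : ∀ l, cj y (L a l) = L a l := by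
    intro l
    by_cases hl : i = l
    · subst hl
      rw [hy, cj_mul, m1, ← m2, cj_inv_cj]
    · have hl' := bool_third hi hl
      subst hl'
      rw [hy, cj_mul, m1', ← m2', cj_inv_cj]
  have hn : ∀ l, cj y (L b l) = L b l := by
    intro l
    by_cases hl : k = l
    · subst hl
      rw [hy, cj_mul, n1, ← n2, cj_inv_cj]
    · have hl' := bool_third hk hl
      subst hl'
      rw [hy, cj_mul, n1', ← n2', cj_inv_cj]
  have htr : ∀ w ∈ h.BB a i b k, ⁅y, w⁆ ∈ h.VV a b := fun w hw => h.trivE hab hi hk hyΓ hm hn hw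
  -- `⁅d, x⁆ = ⁅g a i, x⁆` modulo `D a`
  have key : ∀ x ∈ T, x ∈ L b k → ⁅d, x⁆ * ⁅g a i, x⁆⁻¹ ∈ DD L T a := by
    intro x hx hxL
    have hxB : x ∈ h.BB a i b k := h.P_le_BB' ⟨hx, hxL⟩
    set w2 := y * x * y⁻¹ with hw2
    have hw2B : w2 ∈ h.BB a i b k := conj_mem_of_cj hyΓ.1 hxB
    have f1 := e1 x hxB
    have f2 := e2 w2 hw2B
    have f3 : y2 * w2 * y2⁻¹ = y1 * x * y1⁻¹ := by rw [hw2, hy]; group
    rw [f3] at f2
    have f4 : y1 * ⁅d, x⁆ * y1⁻¹ * (y2 * ⁅g a i, w2⁆ * y2⁻¹)⁻¹ ∈ h.VV a b := by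
      have e : y1 * ⁅d, x⁆ * y1⁻¹ * (y2 * ⁅g a i, w2⁆ * y2⁻¹)⁻¹ =
          (y1 * ⁅d, x⁆ * y1⁻¹ * ⁅g b k, y1 * x * y1⁻¹⁆⁻¹) *
            (y2 * ⁅g a i, w2⁆ * y2⁻¹ * ⁅g b k, y1 * x * y1⁻¹⁆⁻¹)⁻¹ := by group
      rw [e]
      exact mul_mem f1 (inv_mem f2)
    have f5 := conj_mem_of_cj (cj_inv_eq (h.VV_inv hab hi hk D' hy2)) f4
    have f6 : y2⁻¹ * (y1 * ⁅d, x⁆ * y1⁻¹ * (y2 * ⁅g a i, w2⁆ * y2⁻¹)⁻¹) * y2⁻¹⁻¹ =
        ⁅y, ⁅d, x⁆⁆ * (⁅d, x⁆ * ⁅g a i, w2⁆⁻¹) := by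
      rw [hy, commutatorElement_def (y2⁻¹ * y1)]; group
    rw [f6] at f5
    have hdB : ⁅d, x⁆ ∈ h.BB a i b k := h.P_le_BB (h.d_BB hab D hxB)
    have f7 : ⁅d, x⁆ * ⁅g a i, w2⁆⁻¹ ∈ h.VV a b := by
      have e : ⁅d, x⁆ * ⁅g a i, w2⁆⁻¹ = ⁅y, ⁅d, x⁆⁆⁻¹ * (⁅y, ⁅d, x⁆⁆ * (⁅d, x⁆ * ⁅g a i, w2⁆⁻¹)) := by group
      rw [e]
      exact mul_mem (inv_mem (htr _ hdB)) f5
    set v := ⁅y, x⁆ with hv
    have hvV : v ∈ h.VV a b := htr x hxB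
    have f8 : w2 = v * x := by rw [hw2, hv, conj_eq_comm_mul]
    have hgx := h.d_BB hab D' hxB
    have f9 : ⁅g a i, w2⁆ = ⁅g a i, v⁆ * ⁅g a i, x⁆ := by
      rw [f8]
      exact comm_mul_of (h.BB_comm (i := i) (k := k) (h.VV_le_BB hvV) hgx.1 hgx.2)
    have f10 : ⁅g a i, v⁆ ∈ h.VV a b := by
      rw [commutatorElement_def]
      refine mul_mem (conj_mem_of_cj (h.VV_inv hab hi hk D' (Subgroup.subset_closure (by simp))) hvV) (inv_mem hvV)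
    have f11 : ⁅d, x⁆ * ⁅g a i, x⁆⁻¹ ∈ h.VV a b := by
      have e : ⁅d, x⁆ * ⁅g a i, x⁆⁻¹ = (⁅d, x⁆ * ⁅g a i, w2⁆⁻¹) * ⁅g a i, v⁆ := by rw [f9]; group
      rw [e]
      exact mul_mem f7 f10
    exact h.VV_inf' (i := i) hab f11 (mul_mem (h.d_BB hab D hxB).2 (inv_mem hgx.2))
  by_contra hcon
  have hinj : Function.Injective (fun x : ↥(T ⊓ L b k) => (⟨_, key x x.2.1 x.2.2⟩ : DD L T a)) := by
    intro x x' hxx
    have h1 : ⁅d, (x : G)⁆ * ⁅g a i, (x : G)⁆⁻¹ = ⁅d, (x' : G)⁆ * ⁅g a i, (x' : G)⁆⁻¹ := congrArg Subtype.val hxx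
    by_contra hne
    set z := (x : G) * (x' : G)⁻¹ with hz
    have hz1 : z ≠ 1 := fun h0 => hne (Subtype.ext (mul_inv_eq_one.mp h0))
    have hzT : z ∈ T := mul_mem x.2.1 (inv_mem x'.2.1)
    have hzL : z ∈ L b k := mul_mem x.2.2 (inv_mem x'.2.2)
    have hx : (x : G) = z * x' := by rw [hz]; group
    rw [hx, h.rmul D hzT hzL x'.2.1 x'.2.2, h.rmul D' hzT hzL x'.2.1 x'.2.2] at h1
    have hA := h.d_BB hab D (h.P_le_BB' ⟨hzT, hzL⟩)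
    have hA' := h.d_BB hab D (h.P_le_BB' x'.2)
    have hB := h.d_BB hab D' (h.P_le_BB' ⟨hzT, hzL⟩)
    have hB' := h.d_BB hab D' (h.P_le_BB' x'.2)
    have c1 : ⁅d, z⁆ * ⁅d, (x' : G)⁆ = ⁅d, (x' : G)⁆ * ⁅d, z⁆ := h.comm_P hA.1 hA.2 hA'.1 hA'.2
    have c2 : ⁅g a i, z⁆ * ⁅g a i, (x' : G)⁆ = ⁅g a i, (x' : G)⁆ * ⁅g a i, z⁆ := h.comm_P hB.1 hB.2 hB'.1 hB'.2
    have h2 : ⁅d, z⁆ = ⁅g a i, z⁆ := by
      rw [c1] at h1
      have h3 : ⁅d, z⁆ * (⁅g a i, z⁆ * ⁅g a i, (x' : G)⁆)⁻¹ = ⁅g a i, (x' : G)⁆⁻¹ := by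
        have h4 : ⁅d, (x' : G)⁆ * (⁅d, z⁆ * (⁅g a i, z⁆ * ⁅g a i, (x' : G)⁆)⁻¹) = ⁅d, (x' : G)⁆ * ⁅g a i, (x' : G)⁆⁻¹ := by
          rw [← h1]; group
        exact mul_left_cancel h4
      calc ⁅d, z⁆ = (⁅d, z⁆ * (⁅g a i, z⁆ * ⁅g a i, (x' : G)⁆)⁻¹) * (⁅g a i, z⁆ * ⁅g a i, (x' : G)⁆) := by group
        _ = ⁅g a i, (x' : G)⁆⁻¹ * (⁅g a i, (x' : G)⁆ * ⁅g a i, z⁆) := by rw [h3, c2]
        _ = _ := by group
    apply hcon
    refine h.mem S D.hS D.TS a i b k hab _ (mul_mem (inv_mem hgS) D.dS) (mul_mem (inv_mem (h.gm a i)) D.dL) z hzT hzL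
      hz1 ?_
    have h5 : d * z * d⁻¹ = g a i * z * (g a i)⁻¹ := by
      rw [conj_eq_comm_mul, h2, ← conj_eq_comm_mul]
    calc (g a i)⁻¹ * d * z = (g a i)⁻¹ * (d * z * d⁻¹) * d := by group
      _ = (g a i)⁻¹ * (g a i * z * (g a i)⁻¹) * d := by rw [h5]
      _ = _ := by group
  have h1 := Nat.card_le_card_of_injective _ hinj
  have h2 := h.card_DD_lt a b k
  omega

end BE

end Cfsg.Agent.OddHalf.D3.BEven
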